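import Cfsg.Agent.U4F.Mat
import Cfsg.Agent.U5F.Mat2

/-!
The matrix model and the group `GU 4 K q` of the statement.
Read the signatures of `U4F/U`, `U4F/Def`, `U4F/Mat`, `Class/U/Basic`, `Class/U/Count`, `Class/U/Simple`.  `N t = t * σ t`.
Entries: `ext i j; fin_cases i <;> fin_cases j <;> simp [Matrix.mul_apply, Fin.sum_univ_four, ..] <;> ring`.
-/

set_option autoImplicit false
set_option linter.unusedSectionVars false
set_option linter.unusedSimpArgs false

namespace Cfsg.Agent.U4F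

open Subgroup Matrix Cfsg.Agent.U5F

universe u

variable {K : Type u} [Field K] [Cj K] {p : ℕ} [Fact p.Prime] [CharP K p]

theorem exists_P : ∃ P : GL (Fin 4) K,
    (P : Matrix (Fin 4) (Fin 4) K)ᵀ * (P : Matrix (Fin 4) (Fin 4) K).map σ = JJ K := by
  obtain ⟨ν, hν⟩ := exists_nrm (K := K) (s := -1) (by simp)
  obtain ⟨d, hd, d1⟩ := exists_nrm_one (K := K)
  have h0 : (1 : K) - d ≠ 0 := sub_ne_zero.2 d1.symm
  obtain ⟨c, hc⟩ : ∃ c : K, c * (1 - d) = 1 := ⟨_, inv_mul_cancel₀ h0⟩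
  have hc' : σ c * (1 - σ d) = 1 := by simpa using congrArg σ hc
  let P : Matrix (Fin 4) (Fin 4) K :=
    !![1, 0, 0, c; 0, 1, c, 0; 0, ν, c * d * ν, 0; ν, 0, 0, c * d * ν]
  have e : Pᵀ * P.map σ = JJ K := by
    ext i j
    fin_cases i <;> fin_cases j <;> simp [P, JJ, Matrix.mul_apply, Fin.sum_univ_four] <;> grind
  have e2 : JJ K * JJ K = 1 := by
    ext i j
    fin_cases i <;> fin_cases j <;> simp [JJ, Matrix.mul_apply, Fin.sum_univ_four]
  refine ⟨GeneralLinearGroup.mkOfDetNeZero P fun h => ?_, e⟩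
  have := congrArg det e2
  rw [det_mul, ← e, det_mul, det_transpose, h, det_one] at this
  simp at this

/-- `Class.U.mem_GU_iff`, `Class.U.pres_iff`. -/
theorem mem_GU4 {M : GL (Fin 4) K} :
    M ∈ GU 4 K (Cj.q K) ↔ (M : Matrix (Fin 4) (Fin 4) K)ᵀ * (M : Matrix (Fin 4) (Fin 4) K).map σ = 1 := by
  exact Class.U.mem_GU_iff.trans Class.U.pres_iff

theorem exists_conj_GU : ∃ P : GL (Fin 4) K, ∀ M, M ∈ GJ K ↔ P * M * P⁻¹ ∈ GU 4 K (Cj.q K) := by
  obtain ⟨P, hP⟩ := exists_P (K := K)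
  refine ⟨P, fun M => ?_⟩
  have e : (P : Matrix (Fin 4) (Fin 4) K) * M = (P * M * P⁻¹ : GL (Fin 4) K) * P := by
    rw [← Units.val_mul, ← Units.val_mul, inv_mul_cancel_right]
  rw [mem_GJ, mem_GU4, ← hP]
  generalize P * M * P⁻¹ = N at e
  have u1 : IsUnit (P : Matrix (Fin 4) (Fin 4) K)ᵀ := (isUnit_transpose _).2 P.isUnit
  have u2 : IsUnit ((P : Matrix (Fin 4) (Fin 4) K).map σ) := P.isUnit.map (σ (K := K)).mapMatrix
  have e2 : (M : Matrix (Fin 4) (Fin 4) K)ᵀ * ((P : Matrix (Fin 4) (Fin 4) K)ᵀ *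
      (P : Matrix (Fin 4) (Fin 4) K).map σ) * (M : Matrix (Fin 4) (Fin 4) K).map σ =
      (P : Matrix (Fin 4) (Fin 4) K)ᵀ * ((N : Matrix (Fin 4) (Fin 4) K)ᵀ *
        (N : Matrix (Fin 4) (Fin 4) K).map σ) * (P : Matrix (Fin 4) (Fin 4) K).map σ := by
    rw [← Matrix.mul_assoc, ← transpose_mul, Matrix.mul_assoc, ← Matrix.map_mul, e, transpose_mul,
      Matrix.map_mul]
    simp only [Matrix.mul_assoc]
  rw [e2, u2.mul_left_inj, u1.mul_eq_left]

theorem m2_GU : ∃ m, ¬ p ∣ m ∧ Nat.card (GU 4 K (Cj.q K)) = Nat.card (U K) * m := by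
  refine ⟨_, fun h => ?_, by rw [Class.U.card_GU, card_U]⟩
  obtain ⟨i, -, hi⟩ := (Fact.out : p.Prime).prime.exists_mem_finset_dvd h
  split_ifs at hi
  exacts [m2_add hi, m2_sub hi]

/-- `Class.U.card_GU`; `exists_q`: `q ^ i ± 1` is prime to `p`. -/
theorem card_GJ : ∃ m, ¬ p ∣ m ∧ Nat.card (GJ K) = Nat.card (U K) * m := by
  obtain ⟨P, hP⟩ := exists_conj_GU (K := K)
  rw [Nat.card_congr (Equiv.subtypeEquiv (MulAut.conj P).toEquiv hP)]
  exact m2_GU

theorem exists_syl (T : Sylow p (PSU 4 K (Cj.q K))) : Nonempty ((T : Subgroup (PSU 4 K (Cj.q K))) ≃* U K) := by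
  obtain ⟨P, hP⟩ := exists_conj_GU (K := K)
  obtain ⟨m, hm, e⟩ := m2_GU (K := K) (p := p)
  let j : U K →* SU 4 K (Cj.q K) :=
    { toFun u := Class.U.mkSU (P * NM u * P⁻¹ : GL (Fin 4) K)
        (Class.U.mem_GU_iff.1 ((hP _).1 (NM_mem u))) (by
          rw [Units.val_mul, Units.val_mul, det_units_conj, NM_val, det_mat])
      map_one' := Subtype.ext (Subtype.ext (by simp [Class.U.mkSU]))
      map_mul' u v := Subtype.ext (Subtype.ext (by
        change _ = ((P * NM u * P⁻¹ * (P * NM v * P⁻¹) : GL (Fin 4) K) : Matrix (Fin 4) (Fin 4) K)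
        rw [conj_mul, ← map_mul]; rfl)) }
  have hj : Function.Injective j := fun u v h => NM_inj ((MulAut.conj P).injective
    (Units.ext (congrArg (fun x : SU 4 K (Cj.q K) => (x.1 : Matrix (Fin 4) (Fin 4) K)) h)))
  let f : U K →* PSU 4 K (Cj.q K) := (QuotientGroup.mk' _).comp j
  have hf : Function.Injective f := (injective_iff_map_eq_one _).2 fun u hu => by
    have h1 : j u ∈ center (SU 4 K (Cj.q K)) := (QuotientGroup.eq_one_iff _).1 hu
    have h2 := orderOf_dvd_natCard _ h1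
    rw [Class.U.card_center (by norm_num), orderOf_injective j hj] at h2
    obtain ⟨k, hk⟩ := IsPGroup.iff_orderOf.1 (isPGroup_U (K := K) p) u
    rcases k with _ | k
    · exact orderOf_eq_one_iff.1 hk
    · refine absurd ((dvd_pow_self p k.succ_ne_zero).trans (hk ▸ h2.trans (Nat.gcd_dvd_right _ _))) ?_
      simpa using m2_add (K := K) (p := p) (i := 0)
  have hfin : Finite (PSU 4 K (Cj.q K)) := inferInstance
  have h3 : Nat.card (PSU 4 K (Cj.q K)) ∣ Nat.card (U K) * m := by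
    rw [← e, ← Class.U.card_SU_mul (by norm_num), ← Class.U.card_PSU_mul (by norm_num)]
    exact (dvd_mul_left _ _).mul_left _
  rw [← card_mul_index f.range, ← Nat.card_congr (MonoidHom.ofInjective hf).toEquiv] at h3
  have h4 : ¬ p ∣ f.range.index := fun h =>
    hm (h.trans (Nat.dvd_of_mul_dvd_mul_left Nat.card_pos h3))
  have h5 : IsPGroup p f.range := (isPGroup_U p).of_equiv (MonoidHom.ofInjective hf)
  exact ⟨(Sylow.equiv T (h5.toSylow h4)).trans (MonoidHom.ofInjective hf).symm⟩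

end Cfsg.Agent.U4F
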