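import Cfsg.Agent.U4F.Def
import Cfsg.Agent.U5F.Cen

/-!
The kernel `OQ` is a `p`-group; the reflection lies in the automizer.
Read the headers and signatures of `U4F/U`, `U4F/Def`, `U5F/Gen`.  `k` is the fixed field of `σ`, "pure" is `σ b = -b`, `N t = t * σ t`,
`ι` is from `exists_ι`, `θ` from `exists_pure`, `≡` is equality of the coordinates `y, w`.  Tools: `simp only [mem_X, UE, UV, h..]` then `ring`,
`field_simp`, `grind`; `afn_mul`, `afn_mem`, `afn_cm`, `afn_dv`, `afn_res`, `afn_inv_afn`, `homOn_afn`, `cjQ`, `congQ`, `mem_OQ`, `com_Q`, `cm_cQ`,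
`eq_zero_of_real`, `exists_pr`, `surj_pure`. `U5F/Ker`, `U5F/Cen` are the models.
-/

set_option autoImplicit false
set_option linter.unusedSectionVars false
set_option linter.unusedSimpArgs false

namespace Cfsg.Agent.U4F

open Subgroup Cfsg.Agent.RFS Cfsg.Agent.Fus Cfsg.Agent.U5F

variable {K : Type*} [Field K] [Cj K] {p : ℕ} [Fact p.Prime] [CharP K p] {A₀ : Subgroup (MulAut (U K))}
  {A : Subgroup (MulAut (Qs : Subgroup (U K)))} {α β : MulAut (Qs : Subgroup (U K))}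

theorem OQ_Z1 (h : α ∈ OQ K) {z : U K} (hz : z ∈ Z1) : afn α z = z := by
  obtain ⟨n, hn, rfl⟩ := exists_cm_Z2 (g := Xy (1 : K)) one_ne_zero hz
  have h1 : Xy (1 : K) ∈ Qs := rfl
  have h2 := Z2_le_Qs hn
  rw [afn_cm α h1 h2]
  have a := mem_Z1.1 (cm_Qs_Qs h1 h2)
  have b := mem_Z1.1 (cm_Qs_Qs (afn_mem α h1) (afn_mem α h2))
  ext <;> simp only [a, b, cm_cQ h1 h2, cm_cQ (afn_mem α h1) (afn_mem α h2), hf, mem_OQ.1 h _ h1, mem_OQ.1 h _ h2]

variable (p) in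
theorem isPGroup_OQ : IsPGroup p (OQ K) := by
  refine (isPGroup_St ((isPGroup_U p).to_subgroup Qs) [Z1]).to_le fun β hβ => mem_St.2 fun i x hx h => ?_
  rcases i with _ | _ | i
  · rw [OQ_Z1 hβ h]
    exact ⟨h, by simp⟩
  · exact ⟨trivial, hβ x hx⟩
  · exact ⟨trivial, trivial⟩

theorem cQ_mem_OQ {g : U K} : cQ g ∈ OQ K ↔ g ∈ Qs := by
  rw [mem_OQ]
  refine ⟨fun h => ?_, fun h u hu => ?_⟩
  · have h1 : Xy (1 : K) ∈ Qs := rfl
    obtain ⟨-, b⟩ := h _ h1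
    rw [(cjQ g h1).2] at b
    simp only [UE, neg_eq_zero] at b
    exact b
  · obtain ⟨a, b⟩ := cjQ g hu
    rw [a, b, mem_Qs.1 h]
    simp only [UE, and_self]

theorem inn_le_OQ : Inn (Qs : Subgroup (U K)) ≤ OQ K := by
  intro α h
  obtain ⟨g, hg, rfl⟩ := mem_Inn'.1 h
  exact cQ_mem_OQ.2 hg

theorem not_dvd_TF (h : SA p A₀) : ¬ p ∣ Nat.card (A₀ ⊓ TF K :) := by
  intro hd
  obtain ⟨⟨θ, hθ, r, s, f, rfl⟩, ho⟩ := exists_prime_orderOf_dvd_card' p hd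
  rw [← orderOf_coe] at ho
  simp only at ho
  have hp : IsPGroup p (zpowers (tf r s f)) := IsPGroup.of_card (n := 1) (by rw [Nat.card_zpowers, ho, pow_one])
  obtain ⟨γ, -, hγ⟩ := h.syl.exists_conj hp (zpowers_le.2 hθ)
  obtain ⟨g, hg⟩ := hγ _ (mem_zpowers _)
  have e : tf r s f = MulAut.conj (γ⁻¹ g) := by
    have : tf r s f = γ⁻¹ * MulAut.conj g * γ := by rw [hg]; group
    rw [this]
    ext1 u
    simp
  obtain ⟨a, b, c⟩ := tf_inj (r := r) (s := s) (f := f) (r' := 1) (s' := 1) (f' := 1) fun u => by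
    rw [e, tf_one, MulAut.conj_apply, MulAut.one_apply]
    simp only [UE]
    exact ⟨by ring, by ring⟩
  rw [c, tf_congr (congrArg Units.val a) b, tf_one, orderOf_one] at ho
  exact (Fact.out : p.Prime).one_lt.ne ho

/-- PROOF (`U5F.cenQ`).  `δ v = (o v).c - v.c` is additive on `Qs`, depends on `y, w` only, and `g2 e` has the weights `e⁻¹` on `y`, `e` on `w`, `1` on
`c`; `add_zero_of`. -/
theorem cenQ {o : MulAut (Qs : Subgroup (U K))} (ho : o ∈ OQ K) {e : Kˣ} (he : σ (e : K) = e) (h1 : e ≠ 1)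
    (h : o * rQ (g2 e) = rQ (g2 e) * o) : o = 1 := by
  let δ : U K → K := fun u => (afn o u).c - u.c
  have add : ∀ u ∈ Qs, ∀ v ∈ Qs, δ (u * v) = δ u + δ v := fun u hu v hv => by
    simp only [δ, homOn_afn o _ hu _ hv, UE, mem_OQ.1 ho u hu, mem_OQ.1 ho v hv, mem_Qs.1 hv, mem_Qs.1 (afn_mem o hv)]
    ring
  have cg : ∀ u ∈ Qs, ∀ v ∈ Qs, v.y = u.y ∧ v.w = u.w → δ v = δ u := fun u hu v hv e => by
    have z := (dv_Z1 hu hv).2 e
    rw [← mul_inv_cancel_left u v, add _ hu _ (mul_mem (inv_mem hu) hv)]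
    simp only [δ, OQ_Z1 ho z, sub_self, add_zero]
  have e0 := e.ne_zero
  have eqv : ∀ u ∈ Qs, δ (g2 e u) = δ u := fun u hu => by
    have := congrArg (fun α => afn α u) h
    simp only [afn_mul _ _ hu, afn_res _ hu, afn_res _ (afn_mem o hu)] at this
    simp only [δ, this]
    simp only [g2, tf_apply, tfn, UV, UE, he]
    field_simp
  have d2 : (e : K) ≠ 1 := fun k => h1 (Units.ext k)
  have hy : ∀ t, δ (Xy t) = 0 := add_zero_of (d := (e : K)⁻¹) (fun s t => by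
      rw [← add _ rfl _ rfl]
      exact cg _ (mul_mem (show Xy s ∈ Qs from rfl) (show Xy t ∈ Qs from rfl)) _ rfl (by simp only [UE, and_self]))
      (fun k => d2 (inv_eq_one.1 k)) fun t => by
    rw [← eqv (Xy t) rfl]
    refine cg _ (chr_mem _ rfl) _ rfl ?_
    simp only [g2, tf_apply, tfn, UV, UE, he, and_self]
  have hw : ∀ t, δ (Xw t) = 0 := add_zero_of (d := (e : K)) (fun s t => by
      rw [← add _ rfl _ rfl]
      exact cg _ (mul_mem (show Xw s ∈ Qs from rfl) (show Xw t ∈ Qs from rfl)) _ rfl (by simp only [UE, and_self]))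
      d2 fun t => by
    rw [← eqv (Xw t) rfl]
    refine cg _ (chr_mem _ rfl) _ rfl ?_
    simp only [g2, tf_apply, tfn, UV, UE, he, true_and]
    field_simp
  refine aut_ext fun u hu => ?_
  have k := cg _ (mul_mem (show Xy u.y ∈ Qs from rfl) (show Xw u.w ∈ Qs from rfl)) u hu (by simp only [UE, and_self])
  rw [add _ rfl _ rfl, hy, hw] at k
  rw [afn_one]
  obtain ⟨a, b⟩ := mem_OQ.1 ho u hu
  exact U.ext a ((mem_Qs.1 (afn_mem o hu)).trans (mem_Qs.1 hu).symm) b (sub_eq_zero.1 (by simpa using k))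

/-- PROOF.  `fc` with `O = OQ K`, `N = Inn Qs`, `H = (zpowers (g2 e)).map rQ`, `e ∈ k`, `e ≠ 1` from `hq`; `zpowers (g2 e) ≤ A₀ ⊓ TF K` (`not_dvd_TF`,
`card_dvd_of_le`, `card_map_dvd`); `ωQ K * rQ (g2 e) * (ωQ K)⁻¹ = (rQ (g2 e))⁻¹` (`g2_mul`, `mul_comm`, `ω0_inv`, `ω0_g2`, `g2_one`), `Lc.mem_inn`. -/
theorem ω_mem_of (hq : G2 K) (h₀ : SA p A₀) (L : Lc p A₀ Qs A) (hg : ∀ e : Kˣ, σ (e : K) = e → g2 e ∈ A₀)
    (h : ∃ a ∈ A, (ωQ K)⁻¹ * a ∈ OQ K) : ωQ K ∈ A := by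
  obtain ⟨s, hs, s0, s1⟩ := hq
  let e : Kˣ := Units.mk0 s s0
  have he : σ (e : K) = e := hs
  have e1 : e ≠ 1 := fun k => s1 (congrArg Units.val k)
  have c : ωQ K * rQ (g2 e) * (ωQ K)⁻¹ = (rQ (g2 e))⁻¹ := by
    have c1 : rQ (g2 (ϑ : Kˣ)) * rQ (g2 e) = rQ (g2 e) * rQ (g2 ϑ) := by
      rw [← map_mul, ← map_mul, g2_mul, g2_mul, mul_comm]
    have c2 : σu e = e := Units.ext he
    rw [ωQ, mul_assoc (ω0 K), c1, mul_inv_rev, ω0_inv, ← mul_assoc, ← mul_assoc, mul_inv_cancel_right, ω0_g2, c2]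
    exact eq_inv_of_mul_eq_one_left (by rw [← map_mul, g2_mul, inv_mul_cancel, g2_one, map_one])
  refine fc (H := (zpowers (g2 e)).map rQ) (isPGroup_OQ p) inn_le_OQ (inn_le_Tn.trans (L.Tn_le h₀))
    (fun k => not_dvd_TF h₀ (k.trans ((card_map_dvd _ _).trans
      (card_dvd_of_le (zpowers_le.2 ⟨hg e he, _, _, _, rfl⟩))))) ?_
    (fun a ha => L.mem_inn (isPGroup_OQ p) ha) ?_
    (fun o ho k => cenQ ho he e1 (k _ ⟨_, mem_zpowers _, rfl⟩)) h
  · rw [MonoidHom.map_zpowers, zpowers_le]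
    exact L.res _ (hg e he)
  · rw [MonoidHom.map_zpowers]
    rintro _ ⟨k, rfl⟩
    rw [← conj_zpow, c]
    exact zpow_mem (inv_mem (mem_zpowers _)) k

end Cfsg.Agent.U4F
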