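import Cfsg.Agent.U4F.Def

/-!
The stabiliser of `Z1` and `Z2` in the automizer of `A`.
Read the headers and signatures of `U4F/U`, `U4F/Def`, `U5F/Gen`.  `k` is the fixed field of `σ`, "pure" is `σ b = -b`, `N t = t * σ t`,
`ι` is from `exists_ι`, `θ` from `exists_pure`.  Tools: `simp only [mem_X, UE, UV, h..]` then `ring`, `field_simp`, `grind`; `afn_mul`,
`afn_mem`, `afn_cm`, `afn_dv`, `afn_res`, `afn_inv_afn`, `cjQ`, `cjA`, `congQ`, `mem_OQ`, `com_Q`, `mulA`, `extA'`, `eq_zero_of_real`,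
`exists_pr`, `surj_pure`, `exists_ne_of_pure`.  `U5F/QA` is the model.
-/

set_option autoImplicit false
set_option linter.unusedSectionVars false
set_option linter.unusedSimpArgs false

namespace Cfsg.Agent.U4F

open Subgroup Cfsg.Agent.RFS Cfsg.Agent.Fus Cfsg.Agent.U5F

variable {K : Type*} [Field K] [Cj K] {p : ℕ} [Fact p.Prime] [CharP K p] {A₀ : Subgroup (MulAut (U K))}
  {B : Subgroup (MulAut (As : Subgroup (U K)))} {α β : MulAut (As : Subgroup (U K))}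

namespace AA

theorem dv_co {u v : U K} (hu : u ∈ As) :
    (u⁻¹ * v).b = v.b - u.b ∧ (u⁻¹ * v).w = v.w - u.w ∧ (u⁻¹ * v).c = v.c - u.c := by
  simp only [UE, mem_As.1 hu]
  exact ⟨by ring, by ring, by ring⟩

/-- the commutator map -/
noncomputable def D (g v : U K) : U K := v⁻¹ * afn (cA g) v

theorem D_mem (g : U K) {v : U K} (hv : v ∈ As) : D g v ∈ As := mul_mem (inv_mem hv) (afn_mem _ hv)

theorem D_co (g : U K) {v : U K} (hv : v ∈ As) :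
    (D g v).b = 0 ∧ (D g v).w = g.y * v.b ∧ (D g v).c = σ g.y * v.w - g.y * σ v.w + g.y * σ g.y * v.b := by
  obtain ⟨a, b, c⟩ := dv_co (v := afn (cA g) v) hv
  obtain ⟨a', b', c'⟩ := cjA g hv
  exact ⟨by rw [D, a, a']; ring, by rw [D, b, b']; ring, by rw [D, c, c']; ring⟩

theorem D_conj {g g₁ : U K} (h : β * cA g * β⁻¹ = cA g₁) {v : U K} (hv : v ∈ As) :
    afn β (D g v) = D g₁ (afn β v) := by
  rw [D, D, afn_dv β hv (afn_mem _ hv), ← afn_mul _ _ hv, ← afn_mul _ _ hv, ← h, inv_mul_cancel_right]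

theorem D_Z2 (g : U K) {v : U K} (hv : v ∈ As) : D g v ∈ Z2 := ⟨D_mem g hv, (D_co g hv).1⟩

theorem D_Z1 (g : U K) {v : U K} (hv : v ∈ Z2) : D g v ∈ Z1 :=
  ⟨D_mem g hv.1, (D_co g hv.1).1, by rw [(D_co g hv.1).2.1, hv.2, mul_zero]⟩

theorem cA_eq (g v : U K) : afn (cA g) v = v * D g v := by rw [D, mul_inv_cancel_left]

theorem D_one {g v : U K} (hg : g.y ≠ 0) (hv : v ∈ As) : D g v = 1 ↔ v ∈ C0 g.y := by
  obtain ⟨a, b, c⟩ := D_co g hv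
  refine ⟨fun e => ?_, fun e => extA' (D_mem g hv) (one_mem _) ⟨a, by rw [b, e.2.1, mul_zero]; rfl, ?_⟩⟩
  · rw [e] at b c
    have b' : v.b = 0 := (mul_eq_zero.1 b.symm).resolve_left hg
    simp only [UE, b'] at c
    exact ⟨hv, b', by linear_combination -c⟩
  · rw [c, e.2.1]
    simp only [UE]
    linear_combination e.2.2

theorem afn_eq_one {v : U K} (hv : v ∈ As) : afn β v = 1 ↔ v = 1 :=
  ⟨fun e => by rw [← afn_inv_afn β hv, e, (homOn_afn β⁻¹).map_one], fun e => by rw [e, (homOn_afn β).map_one]⟩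

theorem y_ne {g g₁ : U K} (hg : g.y ≠ 0) (h : β * cA g * β⁻¹ = cA g₁) : g₁.y ≠ 0 := fun e => by
  obtain ⟨θ, h0, hθ⟩ := exists_pure (K := K)
  have m : Xb θ hθ ∈ As := rfl
  have m' := afn_mem β m
  obtain ⟨a, b, c⟩ := D_co g₁ m'
  have : D g₁ (afn β (Xb θ hθ)) = 1 :=
    extA' (D_mem _ m') (one_mem _) ⟨a, by rw [b, e, zero_mul]; rfl, by rw [c, e]; simp only [UE]⟩
  rw [← D_conj h m, afn_eq_one (D_mem g m), D_one hg m] at this
  exact h0 this.2.1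

theorem fix_iff {g g₁ : U K} (hg : g.y ≠ 0) (h : β * cA g * β⁻¹ = cA g₁) {v : U K} (hv : v ∈ As) :
    v ∈ C0 g.y ↔ afn β v ∈ C0 g₁.y := by
  rw [← D_one hg hv, ← D_one (y_ne hg h) (afn_mem β hv), ← D_conj h hv, afn_eq_one (D_mem g hv)]

theorem cA_St3 (y : K) (g : U K) : cA g ∈ St As [Z1, C0 y, Z2] := by
  intro i x hx k
  rcases i with _ | _ | _ | _ | i
  · replace k : x ∈ Z1 := k
    rw [cA_Z1 g k, inv_mul_cancel]
    exact ⟨k, one_mem _⟩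
  · replace k : x ∈ C0 y := k
    have := D_Z1 g (C0_le_Z2 k)
    exact ⟨cA_eq g x ▸ mul_mem k (Z1_le_C0 this), this⟩
  · replace k : x ∈ Z2 := k
    exact ⟨cA_eq g x ▸ mul_mem k (D_Z2 g hx), Z1_le_C0 (D_Z1 g k)⟩
  · exact ⟨trivial, D_Z2 g hx⟩
  · exact ⟨trivial, trivial⟩

theorem St_le3 (y : K) : St (As : Subgroup (U K)) [C0 y] ≤ St As [Z1, C0 y, Z2] := by
  intro γ hγ i x hx k
  have f : ∀ x ∈ C0 y, afn γ x = x := fun x k => (inv_mul_eq_one.1 (hγ 0 x k.1 k).2).symm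
  have f' : x⁻¹ * afn γ x ∈ C0 y := (hγ 1 x hx trivial).2
  rcases i with _ | _ | _ | _ | i
  · replace k : x ∈ Z1 := k
    rw [f x (Z1_le_C0 k), inv_mul_cancel]
    exact ⟨k, one_mem _⟩
  · replace k : x ∈ C0 y := k
    rw [f x k, inv_mul_cancel]
    exact ⟨k, one_mem _⟩
  · replace k : x ∈ Z2 := k
    exact ⟨(Z2.mul_mem_cancel_left (inv_mem k)).1 (C0_le_Z2 f'), f'⟩
  · exact ⟨trivial, C0_le_Z2 f'⟩
  · exact ⟨trivial, trivial⟩

theorem t_St (h2 : (2 : K) = 0) {y s : K} (hs : σ s = s) : cA (Xy (s * y)) ∈ St As [C0 y] := by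
  intro i x hx k
  obtain ⟨a, b, c⟩ := D_co (Xy (s * y)) hx
  have m := D_mem (Xy (s * y)) hx
  rcases i with _ | _ | i
  · replace k : x ∈ C0 y := k
    have : D (Xy (s * y)) x = 1 := by
      refine extA' m (one_mem _) ⟨a, by rw [b, k.2.1, mul_zero]; rfl, ?_⟩
      rw [c, k.2.1]
      simp only [UE, hs]
      linear_combination s * k.2.2
    exact ⟨by rw [cA_eq, this, mul_one]; exact k, this⟩
  · refine ⟨trivial, m, a, ?_⟩
    change (D _ x).w * _ = σ (D _ x).w * _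
    rw [b]
    simp only [UE, hs]
    linear_combination s * y * σ y * x.b * h2
  · exact ⟨trivial, trivial⟩

theorem odd (h2 : (2 : K) ≠ 0) {g g₁ : U K} (hg : g.y ≠ 0) (h : β * cA g * β⁻¹ = cA g₁) {x : U K} (hx : x ∈ Z2) :
    afn β x ∈ Z2 := by
  have hg' := σ_ne_zero hg
  have s2 : σ (2 : K) = 2 := map_ofNat _ _
  have hb : σ ((x.w / g.y - σ (x.w / g.y)) / 2) = -((x.w / g.y - σ (x.w / g.y)) / 2) := by
    simp only [UE, s2]; ring
  have m : Xb _ hb ∈ As := rfl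
  have m1 := D_mem g m
  obtain ⟨a, b, -⟩ := D_co g m
  obtain ⟨a', b', -⟩ := dv_co (v := x) m1
  have m2 := mul_mem (inv_mem m1) (Z2_le_As hx)
  have k : (D g (Xb _ hb))⁻¹ * x ∈ C0 g.y := by
    refine ⟨m2, by rw [a', a, hx.2, sub_zero], ?_⟩
    rw [b', b]
    simp only [UE, s2]
    field_simp
    ring
  have k' := C0_le_Z2 ((fix_iff hg h m2).1 k)
  rw [afn_dv β m1 hx.1, D_conj h m] at k'
  exact (Z2.mul_mem_cancel_left (inv_mem (D_Z2 g₁ (afn_mem β m)))).1 k'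

theorem even (h2 : (2 : K) = 0) (hq : G2 K) (h₀ : SA p A₀) (L : Lc p A₀ As B) (hβ : β ∈ B) {g g₁ : U K} (hg : g.y ≠ 0)
    (h : β * cA g * β⁻¹ = cA g₁) {x : U K} (hx : x ∈ Z2) : afn β x ∈ Z2 := by
  have h1 := y_ne hg h
  have e := L.syl.eq_of_le (L.Tn_le h₀) ((isPGroup_St ((isPGroup_U p).to_subgroup _) [Z1, C0 g₁.y, Z2]).to_le
    (inf_le_left (b := B))) (le_inf (by rintro _ ⟨g, rfl⟩; exact cA_St3 _ g) (L.Tn_le h₀)) inf_le_right
  have t : ∀ s : K, σ s = s → ∃ (g' : U K) (a : K), σ a = a ∧ g'.y = a * g₁.y ∧ β * cA (Xy (s * g.y)) * β⁻¹ = cA g' := by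
    intro s hs
    have k : β * cA (Xy (s * g.y)) * β⁻¹ ∈ St As [C0 g₁.y] := St_conj (fun i x hx => by
      rcases i with _ | i
      exacts [fix_iff hg h hx, Iff.rfl]) (t_St h2 hs)
    obtain ⟨g', e'⟩ : β * cA (Xy (s * g.y)) * β⁻¹ ∈ Tn As :=
      e ▸ ⟨St_le3 _ k, B.mul_mem (B.mul_mem hβ (L.cj h₀ _)) (B.inv_mem hβ)⟩
    replace e' : cA g' = _ := e'
    have m : Xw g₁.y ∈ C0 g₁.y := ⟨rfl, rfl, mul_comm _ _⟩
    have k1 : D g' (Xw g₁.y) = 1 := by rw [D, e']; exact (k 0 _ m.1 m).2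
    have k2 := (D_co g' m.1).2.2
    rw [k1] at k2
    simp only [UE] at k2
    obtain ⟨a, ha, ea⟩ := exists_pr (u := g'.y) h1 (by linear_combination k2)
    exact ⟨g', a, ha, ea, e'.symm⟩
  obtain ⟨s, hs, s0, s1⟩ := hq
  obtain ⟨g₂, a, ha, y2, e2⟩ := t s hs
  obtain ⟨g₃, a', ha', y3, e3⟩ := t (s * s) (by rw [map_mul, hs])
  have m := afn_mem β hx.1
  refine ⟨m, by_contra fun c => ?_⟩
  have n : Xw (s * x.w) ∈ As := rfl
  have m' := afn_mem β n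
  have q1 : D g (Xw (s * x.w)) = D (Xy (s * g.y)) x := extA' (D_mem _ n) (D_mem _ hx.1) (by
    simp only [D_co _ n, D_co _ hx.1, hx.2, UE, hs, true_and]; ring)
  have q2 : D (Xy (s * g.y)) (Xw (s * x.w)) = D (Xy (s * s * g.y)) x := extA' (D_mem _ n) (D_mem _ hx.1) (by
    simp only [D_co _ n, D_co _ hx.1, hx.2, UE, hs, true_and]; ring)
  replace q1 := congrArg (afn β) q1
  replace q2 := congrArg (afn β) q2
  rw [D_conj h n, D_conj e2 hx.1] at q1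
  rw [D_conj e2 n, D_conj e3 hx.1] at q2
  have w1 := congrArg U.w q1
  have c1 := congrArg U.c q1
  have w2 := congrArg U.w q2
  have c2 := congrArg U.c q2
  simp only [D_co _ m, D_co _ m', y2, y3, map_mul, ha, ha'] at w1 c1 w2 c2
  have b1 : (afn β (Xw (s * x.w))).b = a * (afn β x).b := mul_left_cancel₀ h1 (by linear_combination w1)
  rw [b1] at c1 w2 c2
  obtain rfl : a' = a * a := mul_right_cancel₀ (mul_ne_zero h1 c) (by linear_combination -w2)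
  have k : (a * (a - 1)) ^ 2 * (g₁.y * σ g₁.y * (afn β x).b) = 0 := by linear_combination a * c1 - c2
  have k' := pow_eq_zero_iff two_ne_zero |>.1
    ((mul_eq_zero.1 k).resolve_right (mul_ne_zero (mul_ne_zero h1 (σ_ne_zero h1)) c))
  rcases mul_eq_zero.1 k' with k | k
  · exact y_ne (g := Xy (s * g.y)) (mul_ne_zero s0 hg) e2 (by rw [y2, k, zero_mul])
  · rw [sub_eq_zero.1 k, one_mul] at y2
    rw [cA_congr y2, ← h, mul_left_inj, mul_right_inj] at e2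
    obtain ⟨θ, h0, hθ⟩ := exists_pure (K := K)
    have u : Xb θ hθ ∈ As := rfl
    have := (cjA g u).2.1
    rw [← e2, (cjA _ u).2.1] at this
    simp only [UE] at this
    exact s1 (mul_right_cancel₀ (mul_ne_zero hg h0) (by linear_combination this))

end AA

open AA

theorem PA.inv (h : PA α) : PA α⁻¹ :=
  ⟨fun x hx => inv_pres (fun y _ k => h.1 y k) x hx.1 hx, fun x hx => inv_pres (fun y _ k => h.2 y k) x hx.1 hx⟩

theorem PA.mul (h : PA α) (h' : PA β) : PA (α * β) :=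
  ⟨fun x hx => afn_mul α β (P := As) hx.1 ▸ h.1 _ (h'.1 x hx), fun x hx => afn_mul α β (P := As) hx.1 ▸ h.2 _ (h'.2 x hx)⟩

theorem pa_res (φ : MulAut (U K)) : PA (rA φ) :=
  ⟨fun _ hx => (afn_res (E := As) φ hx.1).symm ▸ chr_mem φ hx, fun _ hx => (afn_res (E := As) φ hx.1).symm ▸ chr_mem φ hx⟩

theorem cA_mem_St (g : U K) : cA g ∈ St As [Z1, Z2] := by
  intro i x hx k
  rcases i with _ | _ | _ | i
  · replace k : x ∈ Z1 := k
    rw [cA_Z1 g k, inv_mul_cancel]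
    exact ⟨k, one_mem _⟩
  · replace k : x ∈ Z2 := k
    exact ⟨cA_eq g x ▸ mul_mem k (D_Z2 g hx), D_Z1 g k⟩
  · exact ⟨trivial, D_Z2 g hx⟩
  · exact ⟨trivial, trivial⟩

theorem conj_mem_St (h : PA α) (hβ : β ∈ St As [Z1, Z2]) : α * β * α⁻¹ ∈ St As [Z1, Z2] := by
  refine St_conj (fun i x hx => ?_) hβ
  have k : ∀ {P : Subgroup (U K)}, (∀ y ∈ As, y ∈ P → afn α y ∈ P) → (x ∈ P ↔ afn α x ∈ P) := fun k =>
    ⟨k x hx, fun m => afn_inv_afn α hx ▸ inv_pres k _ (afn_mem α hx) m⟩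
  rcases i with _ | _ | i
  exacts [k fun y _ => h.1 y, k fun y _ => h.2 y, k fun _ _ _ => trivial]

/-- `Lc.ext'`. -/
theorem extA (h₀ : SA p A₀) (L : Lc p A₀ As B) (hα : α ∈ B) (h : PA α) : ∃ φ ∈ A₀, rA φ = α :=
  L.ext' h₀ (isPGroup_St ((isPGroup_U p).to_subgroup _) [Z1, Z2]) (by rintro _ ⟨g, rfl⟩; exact cA_mem_St g) hα
    fun _ => conj_mem_St h

/-- PROOF.  `D g n = n⁻¹ * cA g n` has `(b, w, c) = (0, y b, σ y w - y σ w + N y b)`, `y = g.y`; `β (D g n) = D g₁ (β n)`; `y₁ = g₁.y ≠ 0` (else `cA g₁ = 1`).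
`2 ≠ 0`: `D g (D g n) = Xc (2 N y b)`, so `β Z1 ≤ Z1`; `x ∈ Z2` is `D g n * n'` with `n'` fixed by `cA g` (`x.w = y (θ s + s')`), and a fixed point of
`cA g₁` has `b = 0`.  `2 = 0`: the fixed points of `cA g` are `C0 y`, so `x ∈ C0 y ↔ β x ∈ C0 y₁`.  `N = St As [Z1, C0 y₁, Z2]` contains `Tn As`, so
`N ⊓ B = Tn As` (`L.syl.eq_of_le`).  `t s = cA (Xy (s y)) ∈ St As [C0 y]` (`s ∈ k`), so `β (t s) β⁻¹ ∈ St As [C0 y₁] ≤ N` is `cA (Xy (φ s y₁))` with `φ s ∈ k`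
(it fixes `Xw y₁`), `φ` injective, `φ 0 = 0`.  Let `n ∈ Z2 \ C0 y`, `n' = Xw (s₁ n.w)` (`s₁` from `hq`): `D (t s) n' = D (t (s s₁)) n`.  For `m = β n`, `m' = β n'`,
`τ = σ y₁ m.w + y₁ σ m.w`: if `m.b ≠ 0`, `ρ = m'.b / m.b`, then `φ (s s₁) = ρ φ s` and `φ s (τ' + ρ τ) + (φ s)² N y₁ m.b (ρ + ρ²) = 0` for `s = 1, s₁`, so
`ρ ∈ {0, 1}`, contradicting injectivity.  So `β Z2 ≤ Z2`; `z ∈ Z1` is `D g n`, `n ∈ Z2` (`exists_cm_Z2`). -/
theorem detA (hq : G2 K) (h₀ : SA p A₀) (L : Lc p A₀ As B) (hβ : β ∈ B) {g g₁ : U K} (hg : g ∉ As)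
    (h : β * cA g * β⁻¹ = cA g₁) : PA β := by
  have k : ∀ x ∈ Z2, afn β x ∈ Z2 := fun x hx =>
    (em ((2 : K) = 0)).elim (fun h2 => even h2 hq h₀ L hβ hg h hx) fun h2 => odd h2 hg h hx
  refine ⟨fun z hz => ?_, k⟩
  obtain ⟨n, hn, e⟩ := exists_cm_Z2 hg hz
  have d := D_Z1 g hn
  have : D g n = z := extA' d.1 hz.1 ⟨d.2.1.trans hz.2.1.symm, d.2.2.trans hz.2.2.symm, by
    rw [(D_co g hn.1).2.2, ← e, cm_c2 g hn, hn.2, mul_zero, add_zero]⟩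
  rw [← this, D_conj h hn.1]
  exact D_Z1 g₁ (k n hn)

/-- As `U5F.tiQ`. -/
theorem tiA (hq : G2 K) (h₀ : SA p A₀) (L : Lc p A₀ As B) (hα : α ∈ B) {g g' : U K} (hg : g ∉ As) (hg' : g' ∉ As)
    {N : Subgroup (MulAut (As : Subgroup (U K)))} (hN : IsPGroup p N) (h1 : cA g ∈ N) (h2 : α * cA g' * α⁻¹ ∈ N) : PA α := by
  obtain ⟨β, hβ', hβ⟩ := L.syl.exists_conj (hN.to_le (inf_le_left (b := B))) inf_le_right
  obtain ⟨g₁, e₁⟩ := hβ _ ⟨h1, L.cj h₀ g⟩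
  obtain ⟨g₂, e₂⟩ := hβ _ ⟨h2, B.mul_mem (B.mul_mem hα (L.cj h₀ g')) (B.inv_mem hα)⟩
  have := (detA hq h₀ L hβ' hg e₁.symm).inv.mul
    (detA (β := β * α) (g₁ := g₂) hq h₀ L (B.mul_mem hβ' hα) hg' (Eq.trans (by group) e₂.symm))
  rwa [inv_mul_cancel_left] at this

/-- PROOF.  `γ = α⁻¹ * cA g * α = rA φ` (`extA`) normalises `Tn As` (`res_conj`) and has `p`-power order, so `Tn As ⊔ zpowers γ` is a `p`-group
(`IsPGroup.to_sup_of_normal_left'`); `tiA` for `α⁻¹`. -/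
theorem pa_of_conj (hq : G2 K) (h₀ : SA p A₀) (L : Lc p A₀ As B) (hα : α ∈ B) {g : U K} (hg : g ∉ As)
    (h : PA (α⁻¹ * cA g * α)) : PA α := by
  have hp : IsPGroup p (zpowers (α⁻¹ * cA g * α)) :=
    ((L.syl.isPGroup (L.Tn_le h₀)).map (MulAut.conj α⁻¹).toMonoidHom).to_le
      (zpowers_le.2 ⟨_, ⟨g, rfl⟩, by simp [cA]⟩)
  have hN := (isPGroup_St ((isPGroup_U (K := K) p).to_subgroup As) [Z1, Z2]).to_sup_of_normal_left' hp
    (zpowers_le.2 (mem_normalizer_fintype fun _ => conj_mem_St h))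
  have := (tiA hq h₀ L (B.inv_mem hα) hg hg hN (mem_sup_left (cA_mem_St g))
    (mem_sup_right (by rw [inv_inv]; exact mem_zpowers _))).inv
  rwa [inv_inv] at this

/-- PROOF (as `U5F.mem_Z2_of_Qt`).  `v = α x`, `C = {β ∈ B | β v = v}` contains the Sylow subgroup `α (Tn As) α⁻¹` and `z = cA (Xy y)`, `y = v.w` if
`v.w ≠ 0` (otherwise there is nothing to prove).  `β z β⁻¹ = α (cA g₁) α⁻¹` with `β ∈ C`; `detA` gives `PA (α⁻¹ * β)`, so `v = β⁻¹ (α x) ∈ Z1`. -/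
theorem memA (hq : G2 K) (h₀ : SA p A₀) (L : Lc p A₀ As B) (hα : α ∈ B) {x : U K} (hx : x ∈ Z1) (h : afn α x ∈ Z2) :
    afn α x ∈ Z1 := by
  have hx' : x ∈ As := hx.1
  have hv : afn α x ∈ As := h.1
  refine ⟨h.1, h.2, by_contra fun c => ?_⟩
  let C : Subgroup (MulAut (As : Subgroup (U K))) :=
    { carrier := {β | β ∈ B ∧ afn β (afn α x) = afn α x}
      one_mem' := ⟨one_mem _, afn_one _⟩
      mul_mem' := fun {a b} ha hb => ⟨mul_mem ha.1 hb.1, by rw [afn_mul _ _ hv, hb.2, ha.2]⟩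
      inv_mem' := fun {a} ha => ⟨inv_mem ha.1, by
        have := afn_inv_afn a hv
        rwa [ha.2] at this⟩ }
  have l : (Tn As).map (MulAut.conj α).toMonoidHom ≤ C := by
    rintro _ ⟨_, ⟨g, rfl⟩, rfl⟩
    refine ⟨B.mul_mem (B.mul_mem hα (L.cj h₀ g)) (B.inv_mem hα), ?_⟩
    change afn (α * cA g * α⁻¹) _ = _
    rw [afn_mul _ _ hv, afn_inv_afn α hx', afn_mul _ _ hx', cA_Z1 g hx]
  obtain ⟨β, hβ, e⟩ := ((L.syl.conj (L.Tn_le h₀) hα).of_le l fun _ k => k.1).exists_conj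
    (B := zpowers (cA (Xy (afn α x).w))) ((L.syl.isPGroup (L.Tn_le h₀)).to_le (zpowers_le.2 ⟨_, rfl⟩))
    (zpowers_le.2 ⟨L.cj h₀ _, by
      rw [cA_eq, (D_one (g := Xy (afn α x).w) c hv).2 ⟨h.1, h.2, mul_comm _ _⟩, mul_one]⟩)
  obtain ⟨_, ⟨g₁, rfl⟩, e'⟩ := e _ (mem_zpowers _)
  replace e' : α * cA g₁ * α⁻¹ = _ := e'
  have := (detA (β := α⁻¹ * β) (g := Xy (afn α x).w) (g₁ := g₁) hq h₀ L (B.mul_mem (B.inv_mem hα) hβ.1) c (by
    rw [show ∀ z, α⁻¹ * β * z * (α⁻¹ * β)⁻¹ = α⁻¹ * (β * z * β⁻¹) * α from fun z => by group, ← e']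
    group)).inv.1 x hx
  rw [mul_inv_rev, inv_inv, afn_mul _ _ hx', (inv_mem hβ).2] at this
  exact c this.2.2

/-- PROOF.  Among the counterexamples choose `α` with `card (Z2 ⊓ Z2')` maximal, `Z2' = α Z2 ≥ Z1` (`inv_pres`).  `e ∈ Z2' \ Z2`, `e.b ≠ 0`.
`exists_ne_of_pure` for `w ↦ (α (Xw w)).b` gives `u = α (Xw w) ∈ Z2`, `w ≠ 0`, so `u ∉ Z1`, `u.w ≠ 0`.  `t = cA (Xy (u.w / e.b))` has `t e ∈ e u Z1 ≤ Z2'`.
`γ = α⁻¹ * t * α` is a counterexample (`pa_of_conj`), and `α (Z2 ⊓ γ Z2) = Z2' ⊓ t Z2'` contains `Z2 ⊓ Z2'` and `t e ∉ Z2`. -/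
theorem presA (hq : G2 K) (h₀ : SA p A₀) (L : Lc p A₀ As B) (hα : α ∈ B) (h : ∀ x ∈ Z1, afn α x ∈ Z1) : PA α := by
  generalize hS : {x | x ∈ Z2 ∧ afn α x ∈ Z2} = S
  induction S using WellFoundedGT.induction generalizing α with
  | ind S ih =>
  refine ⟨h, fun x hx => by_contra fun c => ?_⟩
  have h' : ∀ x ∈ Z1, afn α⁻¹ x ∈ Z1 := fun x hx => inv_pres (fun y _ k => h y k) x hx.1 hx
  have m := afn_mem α hx.1
  have c' : (afn α x).b ≠ 0 := fun k => c ⟨m, k⟩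
  obtain ⟨w, w', hw, e⟩ := exists_ne_of_pure (fun w => (afn α (Xw w)).b) fun _ => U.hb _
  have n : ∀ w : K, Xw w ∈ Z2 := fun _ => ⟨rfl, rfl⟩
  have n1 := mul_mem (inv_mem (n w)) (n w')
  obtain ⟨u, hu⟩ : ∃ u, u = (Xw w)⁻¹ * Xw w' := ⟨_, rfl⟩
  have ub : (afn α u).b = 0 := by
    rw [hu, afn_dv α (n w).1 (n w').1, (dv_co (afn_mem α (n w).1)).1]
    exact sub_eq_zero.2 e.symm
  rw [← hu] at n1
  have mu := afn_mem α n1.1
  have uw : (afn α u).w ≠ 0 := fun k => by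
    have := (h' _ ⟨mu, ub, k⟩).2.2
    rw [afn_inv_afn α n1.1, hu, (dv_co (n w).1).2.1] at this
    exact hw (sub_eq_zero.1 this).symm
  have hg : Xy ((afn α u).w / (afn α x).b) ∉ As := div_ne_zero uw c'
  generalize hgg : Xy ((afn α u).w / (afn α x).b) = g at hg
  have ev : ∀ v ∈ As, afn (α⁻¹ * cA g * α) v = v * afn α⁻¹ (D g (afn α v)) := fun v hv => by
    have k := afn_mem α hv
    rw [afn_mul _ _ hv, afn_mul _ _ k, cA_eq, homOn_afn α⁻¹ _ k _ (D_mem g k), afn_inv_afn α hv]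
  refine c ((pa_of_conj hq h₀ L hα hg (ih _ ?_ (B.mul_mem (B.mul_mem (B.inv_mem hα) (L.cj h₀ g)) hα)
    (fun z hz => ?_) rfl)).2 x hx)
  · subst hS
    refine ⟨fun v hv => ⟨hv.1, ?_⟩, fun k => c (k ⟨hx, ?_⟩).2⟩
    · rw [ev v hv.1.1]
      exact mul_mem hv.1 (Z1_le_Z2 (h' _ (D_Z1 g hv.2)))
    · obtain ⟨a, b, -⟩ := D_co g m
      obtain ⟨a', b', -⟩ := dv_co (v := D g (afn α x)) mu
      have k1 := h' ((afn α u)⁻¹ * D g (afn α x)) ⟨mul_mem (inv_mem mu) (D_mem g m), by rw [a', a, ub, sub_zero], by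
        rw [b', b, ← hgg]; simp only [UE]; field_simp; ring⟩
      rw [afn_dv α⁻¹ mu (D_mem g m), afn_inv_afn α n1.1] at k1
      rw [ev x hx.1]
      exact mul_mem hx ((Z2.mul_mem_cancel_left (inv_mem n1)).1 (Z1_le_Z2 k1))
  · rw [afn_mul _ _ hz.1, afn_mul _ _ (h z hz).1, cA_Z1 g (h z hz), afn_inv_afn α hz.1]
    exact hz

end Cfsg.Agent.U4F
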