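import Cfsg.Agent.U4F.Def

/-!
A counting lemma.
Read the headers and signatures of `U4F/U`, `U4F/Def`, `U5F/Gen`.  `k` is the fixed field of `σ`, "pure" is `σ b = -b`, `N t = t * σ t`,
`ι` is from `exists_ι`, `θ` from `exists_pure`.  Tools: `simp only [mem_X, UE, UV, h..]` then `ring`, `field_simp`, `grind`; `afn_mul`,
`afn_mem`, `afn_cm`, `afn_dv`, `afn_res`, `afn_inv_afn`, `cjQ`, `cjA`, `congQ`, `mem_OQ`, `com_Q`, `mulA`, `extA'`, `eq_zero_of_real`,
`exists_pr`, `surj_pure`, `exists_ne_of_pure`.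
-/

set_option autoImplicit false
set_option linter.unusedSectionVars false
set_option linter.unusedSimpArgs false

namespace Cfsg.Agent.U4F

open Subgroup Cfsg.Agent.RFS Cfsg.Agent.Fus Cfsg.Agent.U5F

section Abs

variable {V A P : Type*} [AddCommGroup V] [AddCommGroup A] [AddCommGroup P] [Fintype V] [Fintype A] [Fintype P]

theorem cnt_norm (L₁ : V →+ P) (L₂ : A →+ P) (N : V → A) (B : V → V →+ A) (hN : ∀ y u, N (y + u) = N y + N u + B u y)
    (hB : ∀ u, u ≠ 0 → Function.Surjective (B u)) (h0 : N 0 = 0) (χ : AddChar P ℂ) (hχ : χ.compAddMonoidHom L₂ ≠ 0) :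
    (∑ y, χ (L₁ y + L₂ (N y))) * (starRingEnd ℂ) (∑ y, χ (L₁ y + L₂ (N y))) = Fintype.card V := by
  classical
  have b0 : ∀ y, B 0 y = 0 := fun y => by simpa [h0] using hN y 0
  rw [map_sum, Finset.mul_sum]
  have e : ∀ y, (∑ z, χ (L₁ z + L₂ (N z))) * (starRingEnd ℂ) (χ (L₁ y + L₂ (N y))) =
      ∑ u, χ (L₁ u + L₂ (N u)) * χ (L₂ (B u y)) := fun y => by
    rw [← AddChar.map_neg_eq_conj, Finset.sum_mul, ← Equiv.sum_comp (Equiv.addLeft y)]
    refine Finset.sum_congr rfl fun u _ => ?_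
    rw [← AddChar.map_add_eq_mul, ← AddChar.map_add_eq_mul, Equiv.coe_addLeft]
    simp only [hN, map_add]
    congr 1
    abel
  simp only [e]
  rw [Finset.sum_comm, Finset.sum_eq_single 0]
  · simp [b0, h0]
  · intro u _ hu
    rw [← Finset.mul_sum]
    have : ∑ y, ((χ.compAddMonoidHom L₂).compAddMonoidHom (B u)) y = 0 := by
      rw [AddChar.sum_eq_zero_iff_ne_zero]
      intro c
      refine hχ (AddChar.ext _ _ fun s => ?_)
      obtain ⟨y, rfl⟩ := hB u hu s
      exact DFunLike.congr_fun c y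
    simp only [AddChar.compAddMonoidHom_apply] at this
    rw [this, mul_zero]
  · simp

theorem cnt_abs {q : ℕ} (hq : 0 < q) (hV : Fintype.card V = q ^ 2) (hA : Fintype.card A = q) (hP : Fintype.card P = q)
    (L₁ : V →+ P) (L₂ : A →+ P) (N : V → A) (B : V → V →+ A) (hN : ∀ y u, N (y + u) = N y + N u + B u y)
    (hB : ∀ u, u ≠ 0 → Function.Surjective (B u)) (h0 : N 0 = 0) (h : ∀ y, y ≠ 0 → L₁ y + L₂ (N y) ≠ 0) :
    (∀ s, L₂ s = 0 → s = 0) ∧ ∀ δ, ∃ y, L₁ y + L₂ (N y) = δ := by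
  classical
  set S : AddChar P ℂ → ℂ := fun χ => ∑ y, χ (L₁ y + L₂ (N y)) with hS
  have q0 : (0 : ℝ) < q := by exact_mod_cast hq
  have hn : ∀ χ : AddChar P ℂ, χ.compAddMonoidHom L₂ ≠ 0 → (S χ).re ^ 2 + (S χ).im ^ 2 = (q : ℝ) ^ 2 := fun χ c => by
    have := cnt_norm L₁ L₂ N B hN hB h0 χ c
    rw [Complex.mul_conj, hV] at this
    have e : Complex.normSq (S χ) = (q : ℝ) ^ 2 := by exact_mod_cast this
    rw [← e, Complex.normSq_apply]
    ring
  have hz : ∀ χ : AddChar P ℂ, χ.compAddMonoidHom L₂ = 0 → 0 ≤ (S χ).re := fun χ c => by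
    have e : S χ = ∑ y, (χ.compAddMonoidHom L₁) y := Finset.sum_congr rfl fun y _ => by
      have : χ (L₂ (N y)) = 1 := DFunLike.congr_fun c (N y)
      rw [AddChar.map_add_eq_mul, this, mul_one, AddChar.compAddMonoidHom_apply]
    rw [e, AddChar.sum_eq_ite]
    split_ifs <;> simp
  have hge : ∀ χ : AddChar P ℂ, 0 ≤ (S χ).re + q := fun χ => by
    by_cases c : χ.compAddMonoidHom L₂ = 0
    · linarith [hz χ c]
    · nlinarith [hn χ c, sq_nonneg (S χ).im]
  have S0 : S 0 = (q : ℂ) ^ 2 := by simp [hS, hV]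
  have orth : ∀ δ : P, ∑ χ : AddChar P ℂ, χ (-δ) * S χ = ∑ y, if L₁ y + L₂ (N y) = δ then (q : ℂ) else 0 := fun δ => by
    simp only [hS, Finset.mul_sum]
    rw [Finset.sum_comm]
    refine Finset.sum_congr rfl fun y _ => ?_
    simp only [← AddChar.map_add_eq_mul]
    rw [AddChar.sum_apply_eq_ite, hP]
    exact if_congr (neg_add_eq_zero.trans eq_comm) rfl rfl
  have t0 : ∑ χ : AddChar P ℂ, S χ = q := by
    have := orth 0
    simp only [neg_zero, AddChar.map_zero_eq_one, one_mul] at this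
    rw [this, Finset.sum_eq_single 0]
    · simp [h0]
    · intro y _ hy
      rw [if_neg (h y hy)]
    · simp
  have cA : Fintype.card (AddChar P ℂ) = q := by rw [AddChar.card_eq, hP]
  have t1 : ∑ χ ∈ Finset.univ.erase (0 : AddChar P ℂ), ((S χ).re + q) = 0 := by
    have a := Finset.add_sum_erase Finset.univ (fun χ : AddChar P ℂ => (S χ).re + q) (Finset.mem_univ 0)
    rw [Finset.sum_add_distrib (s := Finset.univ), ← Complex.re_sum, t0, S0] at a
    simp only [Finset.sum_const, Finset.card_univ, cA, nsmul_eq_mul, Complex.natCast_re, sq, Complex.mul_re,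
      Complex.natCast_im] at a
    linarith
  rw [Finset.sum_eq_zero_iff_of_nonneg fun χ _ => hge χ] at t1
  have t2 : ∀ χ : AddChar P ℂ, χ ≠ 0 → χ.compAddMonoidHom L₂ ≠ 0 ∧ S χ = -q := fun χ c => by
    have a := t1 χ (by simp [c])
    have b : χ.compAddMonoidHom L₂ ≠ 0 := fun e => by linarith [hz χ e]
    have d := hn χ b
    have a' : (S χ).re = -q := by linarith
    rw [a'] at d
    refine ⟨b, Complex.ext (by simpa using a') ?_⟩
    simp only [Complex.neg_im, Complex.natCast_im, neg_zero]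
    nlinarith
  have q0' : (q : ℂ) ≠ 0 := by exact_mod_cast hq.ne'
  refine ⟨fun s hs => by_contra fun c => ?_, fun δ => by_contra fun c => ?_⟩
  · have a : ∑ χ : AddChar P ℂ, ∑ t, χ (L₂ t) = q := by
      rw [Finset.sum_eq_single 0]
      · simp [hA]
      · intro χ _ hχ
        exact AddChar.sum_eq_zero_iff_ne_zero.2 (t2 χ hχ).1
      · simp
    rw [Finset.sum_comm] at a
    simp only [AddChar.sum_apply_eq_ite, hP] at a
    rw [← Finset.sum_filter, Finset.sum_const, nsmul_eq_mul, mul_eq_right₀ q0', Nat.cast_eq_one, Finset.card_eq_one] at a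
    obtain ⟨t, a⟩ := a
    have a1 : s ∈ ({t} : Finset A) := a ▸ (by simp [hs])
    have a2 : (0 : A) ∈ ({t} : Finset A) := a ▸ (by simp)
    rw [Finset.mem_singleton] at a1 a2
    exact c (a1.trans a2.symm)
  · have d0 : δ ≠ 0 := fun e => c ⟨0, by simp [h0, e]⟩
    have a := orth δ
    rw [Finset.sum_eq_zero (s := Finset.univ) (f := fun y => if L₁ y + L₂ (N y) = δ then (q : ℂ) else 0)
      fun y _ => if_neg fun e => c ⟨y, e⟩] at a
    have b : ∑ χ : AddChar P ℂ, χ (-δ) * (S χ + q) = 0 := by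
      simp only [mul_add, Finset.sum_add_distrib, a, ← Finset.sum_mul]
      rw [AddChar.sum_apply_eq_zero_iff_ne_zero.2 (neg_ne_zero.2 d0), zero_mul, add_zero]
    rw [Finset.sum_eq_single 0, S0] at b
    · simp only [AddChar.zero_apply, one_mul] at b
      have : ((q ^ 2 + q : ℕ) : ℂ) = 0 := by push_cast; exact b
      rw [Nat.cast_eq_zero] at this
      omega
    · intro χ _ hχ
      rw [(t2 χ hχ).2, neg_add_cancel, mul_zero]
    · simp

end Abs

variable {K : Type*} [Field K] [Cj K]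

/-- PROOF.  `f y = l₁ y + l₂ (N y)` takes values in the additive group `G` of pure elements, `card G = q` (`card_pure`), `card K = q²`;
`f (y + u) = f y + f u + l₂ (u σ y + σ u y)`.  For `χ : AddChar G ℂ` put `S χ = ∑ y, χ (f y)`.  If `χ ∘ l₂` is nontrivial on `k`, then
`‖S χ‖² = ∑ u, χ (f u) ∑ y, χ (l₂ (u σ y + σ u y)) = q²` (for `u ≠ 0` the inner character of `K` is nontrivial as the trace is onto `k`:
`s τ + σ (s τ) = s`).  Otherwise `S χ = ∑ y, χ (l₁ y) ∈ {0, q²}`.  Orthogonality: `q * #{y | f y = δ} = ∑ χ, χ (-δ) S χ`.  `δ = 0`: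
`q = q² + ∑_{χ ≠ 1} S χ` and `re (S χ) ≥ -q` force `re (S χ) = -q`, so `S χ = -q`, for all `q - 1` characters `χ ≠ 1`.  So no `χ ≠ 1` kills
`l₂ k`: `l₂ : k → G` is onto, so injective (`card k = q`, multiply by `θ`).  For `δ ≠ 0` the count is `q² + q > 0`.
(Alternative without characters: Cauchy-Schwarz for the fibre sizes of `f`.) -/
theorem cnt {l₁ l₂ : K → K} (a₁ : ∀ s t, l₁ (s + t) = l₁ s + l₁ t)
    (a₂ : ∀ s t, σ s = s → σ t = t → l₂ (s + t) = l₂ s + l₂ t) (p₁ : ∀ y, σ (l₁ y) = -l₁ y)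
    (p₂ : ∀ s, σ s = s → σ (l₂ s) = -l₂ s) (h : ∀ y, y ≠ 0 → l₁ y + l₂ (y * σ y) ≠ 0) :
    (∀ s, σ s = s → l₂ s = 0 → s = 0) ∧ ∀ δ, σ δ = -δ → ∃ y, l₁ y + l₂ (y * σ y) = δ := by
  classical
  let P : AddSubgroup K :=
    { carrier := {b | σ b = -b}
      add_mem' := fun {a b} (ha : σ a = -a) (hb : σ b = -b) => show σ (a + b) = -(a + b) by rw [map_add, ha, hb, neg_add]
      zero_mem' := show σ (0 : K) = -0 by simp
      neg_mem' := fun {a} (ha : σ a = -a) => show σ (-a) = - -a by rw [map_neg, ha] }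
  let A : AddSubgroup K :=
    { carrier := {b | σ b = b}
      add_mem' := fun {a b} (ha : σ a = a) (hb : σ b = b) => show σ (a + b) = a + b by rw [map_add, ha, hb]
      zero_mem' := show σ (0 : K) = 0 by simp
      neg_mem' := fun {a} (ha : σ a = a) => show σ (-a) = -a by rw [map_neg, ha] }
  have := Fintype.ofFinite K
  have hV : Fintype.card K = Cj.q K ^ 2 := by rw [← Nat.card_eq_fintype_card, card_K]
  have hP : Fintype.card P = Cj.q K := by rw [← Nat.card_eq_fintype_card]; exact card_pure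
  have hA : Fintype.card A = Cj.q K := by rw [← Nat.card_eq_fintype_card]; exact Class.U.card_fixed K _
  let L₁ : K →+ P := AddMonoidHom.mk' (fun y => ⟨l₁ y, p₁ y⟩) fun s t => Subtype.ext (a₁ s t)
  let L₂ : A →+ P := AddMonoidHom.mk' (fun y => ⟨l₂ y, p₂ y y.2⟩) fun s t => Subtype.ext (a₂ s t s.2 t.2)
  let N : K → A := fun y => ⟨y * σ y, show σ (y * σ y) = y * σ y by rw [map_mul, σσ, mul_comm]⟩
  let B : K → K →+ A := fun u => AddMonoidHom.mk'
    (fun y => ⟨u * σ y + σ u * y, show σ (u * σ y + σ u * y) = u * σ y + σ u * y by simp only [map_add, map_mul, σσ]; ring⟩)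
    fun s t => Subtype.ext (show u * σ (s + t) + σ u * (s + t) = u * σ s + σ u * s + (u * σ t + σ u * t) by
      rw [map_add]; ring)
  obtain ⟨r1, r2⟩ := cnt_abs (lt_of_lt_of_le two_pos two_le_q) hV hA hP L₁ L₂ N B
    (fun y u => Subtype.ext (show (y + u) * σ (y + u) = y * σ y + u * σ u + (u * σ y + σ u * y) by rw [map_add]; ring))
    (fun u hu s => ⟨s * τ / σ u, Subtype.ext (show u * σ (s * τ / σ u) + σ u * (s * τ / σ u) = (s : K) by
      have h1 := σ_ne_zero hu
      have h2 : σ (s : K) = s := s.2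
      simp only [map_div₀, map_mul, σσ, στ, h2]
      field_simp
      ring)⟩)
    (Subtype.ext (zero_mul _)) fun y hy e => h y hy (congrArg Subtype.val e)
  refine ⟨fun s hs e => congrArg Subtype.val (r1 ⟨s, hs⟩ (Subtype.ext e)), fun δ hδ => ?_⟩
  obtain ⟨y, e⟩ := r2 ⟨δ, hδ⟩
  exact ⟨y, congrArg Subtype.val e⟩

end Cfsg.Agent.U4F
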