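import Cfsg.Agent.U4F.AA
import Cfsg.Agent.U4F.Cnt

/-!
The conjugates of `Z1` other than `Z1` form one orbit of `S`.
Read the headers and signatures of `U4F/U`, `U4F/Def`, `U5F/Gen`, `U4F/AA`, `U4F/Cnt`.  `k` is the fixed field of `σ`, "pure" is `σ b = -b`, `N t = t * σ t`,
`ι` is from `exists_ι`, `θ` from `exists_pure`.  Tools: `simp only [mem_X, UE, UV, h..]` then `ring`, `field_simp`, `grind`; `afn_mul`,
`afn_mem`, `afn_cm`, `afn_dv`, `afn_res`, `afn_inv_afn`, `cjQ`, `cjA`, `congQ`, `mem_OQ`, `com_Q`, `mulA`, `extA'`, `eq_zero_of_real`,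
`exists_pr`, `surj_pure`, `exists_ne_of_pure`.
-/

set_option autoImplicit false
set_option linter.unusedSectionVars false
set_option linter.unusedSimpArgs false

namespace Cfsg.Agent.U4F

open Subgroup Cfsg.Agent.RFS Cfsg.Agent.Fus Cfsg.Agent.U5F

variable {K : Type*} [Field K] [Cj K] {p : ℕ} [Fact p.Prime] [CharP K p] {A₀ : Subgroup (MulAut (U K))}
  {B : Subgroup (MulAut (As : Subgroup (U K)))} {α β : MulAut (As : Subgroup (U K))}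

namespace AB

theorem hm (α : MulAut (As : Subgroup (U K))) {x y : U K} (hx : x ∈ As) (hy : y ∈ As) :
    afn α (x * y) = afn α x * afn α y := homOn_afn α _ hx _ hy

theorem hb (α : MulAut (As : Subgroup (U K))) {x y : U K} (hx : x ∈ As) (hy : y ∈ As) :
    (afn α (x * y)).b = (afn α x).b + (afn α y).b := by rw [hm α hx hy]; rfl

theorem h1 (α : MulAut (As : Subgroup (U K))) : afn α (1 : U K) = 1 := (homOn_afn α).map_one

theorem z2 (α : MulAut (As : Subgroup (U K))) {x : U K} (hx : x ∈ As) : afn α x ∈ Z2 ↔ (afn α x).b = 0 :=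
  ⟨fun h => h.2, fun h => ⟨afn_mem α hx, h⟩⟩

/-- The part of `v⁻¹ * cA (Xy y) v` which is additive in `y`. -/
def e₁ (v : U K) (y : K) : U K := ⟨0, 0, y * v.b, σ y * v.w - y * σ v.w, by simp, by simp only [UE]; ring⟩

/-- The quadratic part. -/
noncomputable def e₂ (v : U K) (s : K) : U K := Xc ((s * τ + σ s * (1 - τ)) * v.b) (by simp only [UE]; ring)

theorem e₁_mem (v : U K) (y : K) : e₁ v y ∈ As := rfl

theorem e₂_mem (v : U K) (y : K) : e₂ v y ∈ As := rfl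

theorem e₁_add (v : U K) (s t : K) : e₁ v (s + t) = e₁ v s * e₁ v t := by
  ext <;> simp only [e₁, UE] <;> ring

theorem e₂_add (v : U K) (s t : K) : e₂ v (s + t) = e₂ v s * e₂ v t := by
  ext <;> simp only [e₂, UE]
  ring

theorem cA_eq {v m : U K} (hm : m ∈ As) (h : m.b = v.b) (h' : m.w = v.w) (y : K) :
    afn (cA (Xy y)) m = m * (e₁ v y * e₂ v (y * σ y)) := by
  refine extA' (afn_mem _ hm) (mul_mem hm (mul_mem (e₁_mem _ _) (e₂_mem _ _))) ?_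
  simp only [cjA _ hm, e₁, e₂, UE, mem_As.1 hm, h, h', true_and]
  ring

end AB

/-- PROOF.  Otherwise `memA` for `α⁻¹ * cA g * α` gives `cA g v = α x₁`, `x₁ ∈ Z1`; `v⁻¹ * cA g v = α (x⁻¹ x₁)` lies in `Z2`, so in `Z1` (`memA`),
but its `w` is `g.y v.b`. -/
theorem not_mem_Z2 (hq : G2 K) (h₀ : SA p A₀) (L : Lc p A₀ As B) (hα : α ∈ B) {x g : U K} (hx : x ∈ Z1)
    (hb : (afn α x).b ≠ 0) (hg : g ∉ As) : afn α⁻¹ (afn (cA g) (afn α x)) ∉ Z2 := by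
  intro h
  have xA : x ∈ As := hx.1
  have vA := afn_mem α xA
  have e : afn (α⁻¹ * cA g * α) x = afn α⁻¹ (afn (cA g) (afn α x)) := by rw [afn_mul _ _ xA, afn_mul _ _ vA]
  have h1 := memA hq h₀ L (mul_mem (mul_mem (inv_mem hα) (L.cj h₀ g)) hα) hx (e ▸ h)
  have e2 : afn α (x⁻¹ * afn (α⁻¹ * cA g * α) x) = (afn α x)⁻¹ * afn (cA g) (afn α x) := by
    rw [afn_dv α xA h1.1, e, afn_afn_inv _ (afn_mem _ vA)]
  have h2 := memA hq h₀ L hα (mul_mem (inv_mem hx) h1) ((AB.z2 α (mul_mem (inv_mem xA) h1.1)).2 (by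
    rw [e2]
    simp only [UE, cjA g vA, neg_add_cancel]))
  have h3 := h2.2.2
  rw [e2] at h3
  simp only [UE, cjA g vA, mem_As.1 vA, neg_add_cancel_left] at h3
  exact hg ((mul_eq_zero.1 h3).resolve_right hb)

/-- PROOF.  `π n = (α⁻¹ n).b` is additive on `As`, `π v = 0` for `v = α x`.  `cnt` with `l₁ y = π (0, y b, σ y w - y σ w)`, `l₂ s = π (Xc (s b) _)` (`0` for
`s ∉ k`), `(b, w) = (v.b, v.w)`: `l₁ y + l₂ (N y) = π (cA (Xy y) v)`, `not_mem_Z2`.  For the second part write `n = (b, w + y₀ b, c)`,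
`n = cA (Xy y₀) (v z)`, `z ∈ Z1`; `π (cA (Xy y) (v z)) = π z + l₁ y + l₂ (N y)`; `g = Xy y * (Xy y₀)⁻¹`. -/
theorem cntA (hq : G2 K) (h₀ : SA p A₀) (L : Lc p A₀ As B) (hα : α ∈ B) {x : U K} (hx : x ∈ Z1) (hb : (afn α x).b ≠ 0) :
    (∀ z ∈ Z1, afn α⁻¹ z ∈ Z2 → z = 1) ∧ ∀ n ∈ As, n.b = (afn α x).b → ∃ g, afn α⁻¹ (afn (cA g) n) ∈ Z2 := by
  have xA : x ∈ As := hx.1
  have vA := afn_mem α xA
  have key : ∀ m ∈ As, m.b = (afn α x).b → m.w = (afn α x).w → ∀ y, (afn α⁻¹ (afn (cA (Xy y)) m)).b =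
      (afn α⁻¹ m).b + ((afn α⁻¹ (AB.e₁ (afn α x) y)).b + (afn α⁻¹ (AB.e₂ (afn α x) (y * σ y))).b) :=
    fun m hm h h' y => by
      rw [AB.cA_eq hm h h', AB.hb _ hm (mul_mem (AB.e₁_mem _ _) (AB.e₂_mem _ _)), AB.hb _ (AB.e₁_mem _ _) (AB.e₂_mem _ _)]
  obtain ⟨c1, c2⟩ := cnt (l₁ := fun y => (afn α⁻¹ (AB.e₁ (afn α x) y)).b) (l₂ := fun s => (afn α⁻¹ (AB.e₂ (afn α x) s)).b)
    (fun s t => by rw [AB.e₁_add, AB.hb _ (AB.e₁_mem _ _) (AB.e₁_mem _ _)])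
    (fun s t _ _ => by rw [AB.e₂_add, AB.hb _ (AB.e₂_mem _ _) (AB.e₂_mem _ _)]) (fun _ => U.hb _) (fun _ _ => U.hb _)
    fun y hy e => not_mem_Z2 hq h₀ L hα hx hb (g := Xy y) hy ((AB.z2 _ (afn_mem _ vA)).2 (by
      rw [key _ vA rfl rfl, e, afn_inv_afn _ xA, hx.2.1, add_zero]))
  refine ⟨fun z hz h => ?_, fun n hn e => ?_⟩
  · have hs : σ (z.c / (afn α x).b) = z.c / (afn α x).b := by simp only [UE, neg_div_neg_eq]
    have e : AB.e₂ (afn α x) (z.c / (afn α x).b) = z := by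
      rw [mem_Z1] at hz
      ext <;> simp only [AB.e₂, hs, UE, hz]
      field_simp
      ring
    have := c1 _ hs (by rw [e]; exact h.2)
    exact U.ext hz.1 hz.2.1 hz.2.2 ((div_eq_zero_iff.1 this).resolve_right hb)
  · obtain ⟨y, hy⟩ := c2 (-(afn α⁻¹ (afn (cA (Xy (((afn α x).w - n.w) / (afn α x).b))) n)).b) (by simp only [UE])
    refine ⟨Xy y * Xy (((afn α x).w - n.w) / (afn α x).b), (AB.z2 _ (afn_mem _ hn)).2 ?_⟩
    rw [cA_mul, afn_mul _ _ hn, key _ (afn_mem _ hn) (by rw [(cjA _ hn).1, e]) (by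
      rw [(cjA _ hn).2.1, e]
      simp only [UE]
      field_simp
      ring), hy, add_neg_cancel]

/-- PROOF.  `presA`, `memA` give `x' ∈ Z1` with `(α x').b ≠ 0`; `α x ∈ Z1` (`memA`), `cntA`. -/
theorem nonperpA (hq : G2 K) (h₀ : SA p A₀) (L : Lc p A₀ As B) (hα : α ∈ B) (hn : ¬ PA α) {x : U K} (hx : x ∈ Z1)
    (h : afn α x ∈ Z2) : x = 1 := by
  have xA : x ∈ As := hx.1
  obtain ⟨x', h1, h2⟩ : ∃ x' ∈ Z1, afn α x' ∉ Z1 := by
    by_contra! k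
    exact hn (presA hq h₀ L hα k)
  have := (cntA hq h₀ L hα h1 fun e => h2 (memA hq h₀ L hα h1 ((AB.z2 α h1.1).2 e))).1 _ (memA hq h₀ L hα hx h)
    (by rw [afn_inv_afn _ xA]; exact Z1_le_Z2 hx)
  rw [← afn_inv_afn α xA, this, AB.h1]

/-- `surj_pure` for `c ↦ (α (Xc c _)).b`. -/
theorem exists_b (hq : G2 K) (h₀ : SA p A₀) (L : Lc p A₀ As B) (hα : α ∈ B) (hn : ¬ PA α) {b : K} (hb : σ b = -b) :
    ∃ x ∈ Z1, (afn α x).b = b := by
  have m : ∀ (c : K) hc, Xc c hc ∈ Z1 := fun c hc => ⟨rfl, rfl, rfl⟩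
  obtain ⟨c, hc, e⟩ := surj_pure (fun c hc => (afn α (Xc c hc)).b) (fun _ _ => U.hb _) (fun c hc c' hc' e => by
    have := congrArg U.c (nonperpA hq h₀ L hα hn (mul_mem (inv_mem (m c hc)) (m c' hc'))
      ((AB.z2 α (mul_mem (inv_mem (m c hc)) (m c' hc')).1).2 (by
        rw [afn_dv α (m c hc).1 (m c' hc').1]
        simp only [UE, e, neg_add_cancel])))
    simp only [UE] at this
    exact neg_add_eq_zero.1 this) hb
  exact ⟨_, m c hc, e⟩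

/-- `exists_b` for `θ`, `cntA`, `nonperpA`. -/
theorem orbitA (hq : G2 K) (h₀ : SA p A₀) (L : Lc p A₀ As B) (hα : α ∈ B) (hβ : β ∈ B) (ha : ¬ PA α) (hb : ¬ PA β) :
    ∃ g, PA (α⁻¹ * (cA g * β)) := by
  obtain ⟨θ, h0, hθ⟩ := exists_pure (K := K)
  obtain ⟨x, hx, e⟩ := exists_b hq h₀ L hα ha hθ
  obtain ⟨x', hx', e'⟩ := exists_b hq h₀ L hβ hb hθ
  have xA : x' ∈ As := hx'.1
  obtain ⟨g, hg⟩ := (cntA hq h₀ L hα hx (e ▸ h0)).2 _ (afn_mem β xA) (e'.trans e.symm)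
  refine ⟨g, by_contra fun k => h0 ?_⟩
  rw [← e', nonperpA hq h₀ L (mul_mem (inv_mem hα) (mul_mem (L.cj h₀ g) hβ)) k hx'
    (by rwa [afn_mul _ _ xA, afn_mul _ _ xA]), AB.h1]
  rfl

/-- `orbitA` with `α = ψA K` (`ψ (Xc θ _) ∉ Z1`), `extA`. -/
theorem genA (hq : G2 K) (h₀ : SA p A₀) (L : Lc p A₀ As B) (hψ : ψA K ∈ B) (hα : α ∈ B) :
    ∃ φ ∈ A₀, α = rA φ ∨ ∃ g, α = cA g * ψA K * rA φ := by
  by_cases h : PA α
  · obtain ⟨φ, h1, h2⟩ := extA h₀ L hα h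
    exact ⟨φ, h1, .inl h2.symm⟩
  obtain ⟨θ, h0, hθ⟩ := exists_pure (K := K)
  obtain ⟨g, hg⟩ := orbitA hq h₀ L hψ hα (fun k => h0 (by
    have := (k.1 (Xc θ hθ) ⟨rfl, rfl, rfl⟩).2.1
    rwa [afn_ψA (x := Xc θ hθ) rfl] at this)) h
  obtain ⟨φ, h1, h2⟩ := extA h₀ L (mul_mem (inv_mem hψ) (mul_mem (L.cj h₀ g) hα)) hg
  refine ⟨φ, h1, .inr ⟨g⁻¹, ?_⟩⟩
  rw [h2, mul_assoc, mul_inv_cancel_left, cA, map_inv, map_inv, inv_mul_cancel_left]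

/-- PROOF.  For `v = α x = (b, w, c)`, `b ≠ 0`, `y = (d - 1) w / b` with `N d = 1 ≠ d`: `v⁻¹ * cA (Xy y) v = Xw (y b)` since
`σ y w - y σ w + N y b = b (N (y + w / b) - N (w / b)) = 0`; `not_mem_Z2` forces `y = 0`.  If `b = 0`, `memA`. -/
theorem w_zero (hq : G2 K) (h₀ : SA p A₀) (L : Lc p A₀ As B) (hα : α ∈ B) (h : ∀ w, afn α⁻¹ (Xw w) ∈ Z2) :
    ∀ x ∈ Z1, (afn α x).w = 0 := by
  intro x hx
  have xA : x ∈ As := hx.1
  have vA := afn_mem α xA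
  by_cases hb : (afn α x).b = 0
  · exact (memA hq h₀ L hα hx ⟨vA, hb⟩).2.2
  obtain ⟨d, h1, h2⟩ := exists_nrm_one (K := K)
  by_contra hw
  refine not_mem_Z2 hq h₀ L hα hx hb (g := Xy ((d - 1) * (afn α x).w / (afn α x).b))
    (div_ne_zero (mul_ne_zero (sub_ne_zero.2 h2) hw) hb) ?_
  have e : afn (cA (Xy ((d - 1) * (afn α x).w / (afn α x).b))) (afn α x) = afn α x * Xw ((d - 1) * (afn α x).w) := by
    refine extA' (afn_mem _ vA) (mul_mem vA rfl) ?_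
    simp only [cjA _ vA, UE, mem_As.1 vA, true_and]
    refine ⟨by field_simp, ?_⟩
    field_simp
    linear_combination (-((afn α x).w * σ (afn α x).w)) * h1
  rw [e, AB.hm _ vA rfl, afn_inv_afn _ xA]
  exact mul_mem (Z1_le_Z2 hx) (h _)

/-- `exists_b` for `α⁻¹` (`PA.inv`) and `b = -(α⁻¹ (Xw w)).b`. -/
theorem exists_c (hq : G2 K) (h₀ : SA p A₀) (L : Lc p A₀ As B) (hα : α ∈ B) (hn : ¬ PA α) (w : K) :
    ∃ z ∈ Z1, afn α⁻¹ (Xw w * z) ∈ Z2 := by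
  obtain ⟨z, hz, e⟩ := exists_b hq h₀ L (inv_mem hα) (fun k => hn (inv_inv α ▸ k.inv))
    (b := -(afn α⁻¹ (Xw w)).b) (by simp only [UE])
  have hw : Xw w ∈ As := rfl
  exact ⟨z, hz, (AB.z2 _ (mul_mem hw hz.1)).2 (by rw [AB.hb _ hw hz.1, e, add_neg_cancel])⟩

end Cfsg.Agent.U4F
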