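import Cfsg.Agent.U4F.AB

/-!
Recognition of `Ω₄⁻(q)` on `A`.
Read the headers and signatures of `U4F/U`, `U4F/Def`, `U5F/Gen`, `U4F/AA`, `U4F/AB`.  `k` is the fixed field of `σ`, "pure" is `σ b = -b`, `N t = t * σ t`,
`ι` is from `exists_ι`, `θ` from `exists_pure`.  Tools: `simp only [mem_X, UE, UV, h..]` then `ring`, `field_simp`, `grind`; `afn_mul`,
`afn_mem`, `afn_cm`, `afn_dv`, `afn_res`, `afn_inv_afn`, `cjQ`, `cjA`, `congQ`, `mem_OQ`, `com_Q`, `mulA`, `extA'`, `eq_zero_of_real`,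
`exists_pr`, `surj_pure`, `exists_ne_of_pure`.
-/

set_option autoImplicit false
set_option linter.unusedSectionVars false
set_option linter.unusedSimpArgs false

namespace Cfsg.Agent.U4F

open Subgroup Cfsg.Agent.RFS Cfsg.Agent.Fus Cfsg.Agent.U5F

variable {K : Type*} [Field K] [Cj K] {p : ℕ} [Fact p.Prime] [CharP K p] {A₀ : Subgroup (MulAut (U K))}
  {B : Subgroup (MulAut (As : Subgroup (U K)))} {α β : MulAut (As : Subgroup (U K))}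

theorem Std.mul {κ : K} (h : Std κ α) (h' : PA β) : Std κ (α * β) := by
  exact ⟨fun x hx => by rw [afn_mul _ _ hx.1]; exact h.1 _ (h'.1 x hx),
    fun x hx => by rw [afn_mul _ _ hx.1]; exact h.2 _ (h'.2 x hx)⟩

theorem ac_ninv (hn : ¬ PA α) : ¬ PA α⁻¹ := fun c => hn (by simpa only [inv_inv] using c.inv)

theorem ac_nmul (φ : MulAut (U K)) (hn : ¬ PA α) : ¬ PA (rA φ * α) := fun c =>
  hn (by simpa only [inv_mul_cancel_left] using (pa_res φ).inv.mul c)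

theorem ac_exists (h₀ : SA p A₀) (L : Lc p A₀ As B) : ∃ α ∈ B, ¬ PA α :=
  let ⟨α, h, k⟩ := L.exists_not_res
  ⟨α, h, fun c => k (extA h₀ L h c)⟩

theorem Std.not_pa {κ : K} (h : Std κ α) : ¬ PA α := fun c => by
  obtain ⟨θ, h0, hθ⟩ := exists_pure (K := K)
  have m : Xc θ hθ ∈ (Z1 : Subgroup (U K)) := ⟨rfl, rfl, rfl⟩
  have a := c.1 _ m
  have b := h.2 _ (Z1_le_Z2 m)
  rw [a.2.1, mul_zero] at b
  have e := afn_inv_afn α m.1
  rw [show afn α (Xc θ hθ) = 1 from U.ext a.1 a.2.1 a.2.2 b, (homOn_afn _).map_one] at e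
  exact h0 (congrArg U.c e).symm

theorem ac_orbit (hq : G2 K) (h₀ : SA p A₀) (L : Lc p A₀ As B) (hα : α ∈ B) {κ : K} (h : Std κ α) (hβ : β ∈ B) :
    PA β ∨ ∃ g, Std κ (cA g * β) := by
  refine or_iff_not_imp_left.2 fun hb => ?_
  obtain ⟨g, k⟩ := orbitA hq h₀ L hα hβ h.not_pa hb
  exact ⟨g, by simpa only [mul_inv_cancel_left] using h.mul k⟩

theorem ac_ψ_pa (h : Std 0 α) : PA (ψA K * α) := by
  refine ⟨fun x hx => ?_, fun x hx => ?_⟩ <;> rw [afn_mul _ _ hx.1, afn_ψA (afn_mem _ hx.1)]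
  · simp only [mem_Z1, ψ, UE, h.1 x hx, h.2 x (Z1_le_Z2 hx), and_self]
  · simp only [mem_Z2, ψ, UE, h.2 x hx, and_self]

theorem ac_std_ψ : Std 0 (ψA K) := by
  refine ⟨fun x hx => ?_, fun x hx => ?_⟩ <;> rw [afn_ψA hx.1]
  · simp only [ψ, UE, hx.2.2]
  · simp only [ψ, UE, hx.2]

theorem ac_k3 (h3 : ¬ G3 K) {s : K} (h : σ s = s) : s = 0 ∨ s = 1 ∨ s = -1 := by
  by_contra! c
  exact h3 ⟨s, h, c.1, fun e => (sq_eq_one_iff.1 e).elim c.2.1 c.2.2⟩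

theorem ac_g2 (h2 : (2 : K) ≠ 0) : G2 K :=
  ⟨-1, by simp, by simp, fun e => h2 (by linear_combination -e)⟩

/-- PROOF.  `x ∈ Z2`, `u = α x`; `x' ∈ Z1` with `(α x').b = u.b` (`exists_b`); `z = (Xw u.w)⁻¹ (α x')⁻¹ u ∈ Z1` (`w_zero`) has `α⁻¹ z ∈ Z2`, so `z = 1`
(`nonperpA` for `α⁻¹`). -/
theorem std_of (hq : G2 K) (h₀ : SA p A₀) (L : Lc p A₀ As B) (hα : α ∈ B) (hn : ¬ PA α) (h : ∀ w, afn α⁻¹ (Xw w) ∈ Z2) {κ : K}
    (h' : ∀ x ∈ Z1, (afn α x).c = κ * (afn α x).b) : Std κ α := by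
  have hw := w_zero hq h₀ L hα h
  refine ⟨hw, fun x hx => ?_⟩
  obtain ⟨x', hx', e⟩ := exists_b hq h₀ L hα hn (afn α x).hb
  have m := afn_mem α hx.1
  have m' := afn_mem α hx'.1
  have a : (Xw (afn α x).w : U K) ∈ As := rfl
  have k := nonperpA hq h₀ L (inv_mem hα) (ac_ninv hn) (x := (Xw (afn α x).w)⁻¹ * ((afn α x')⁻¹ * afn α x))
    (by simp only [mem_Z1, UE, mem_As.1 m, mem_As.1 m', e, hw x' hx']; exact ⟨trivial, by ring, by ring⟩) (by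
      rw [afn_dv _ a (mul_mem (inv_mem m') m), afn_dv _ m' m, afn_inv_afn _ (Z2_le_As hx), afn_inv_afn _ hx'.1]
      exact mul_mem (inv_mem (h _)) (mul_mem (inv_mem (Z1_le_Z2 hx')) hx))
  have k' := congrArg U.c k
  simp only [UE, mem_As.1 m, mem_As.1 m', h' x' hx', e] at k'
  linear_combination k'

/-- PROOF.  `η = rA (g2 e) ∈ B` acts by `(b, w, c) ↦ (e² b, e w, c)`, `η * cA (Xy x) = cA (Xy (e⁻¹ x)) * η` (`res_conj`).  `α₁ ∈ B` not `PA`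
(`L.exists_not_res`, `extA`); `orbitA` gives `PA (α₁⁻¹ * (cA g * (η * α₁)))`.  For `α = cA (Xy x) * α₁`, `x (e⁻¹ - 1) = g.y`: `PA (α⁻¹ * η * α)` (`cA_congr`,
`cA_mul`), so `η` preserves `α Z1` and `α Z2`.  `u = Xw w * z ∈ α Z2` (`exists_c`), `u⁻¹ η u = Xw ((e - 1) w)`: all `Xw w ∈ α Z2`.  `w_zero`; `v = α x' = (b, 0, c)`,
`v⁻¹ η v = Xb ((e² - 1) b)`: all `Xb b ∈ α Z1` (`exists_b`), so `c = 0` on `α Z1` (`nonperpA`).  `std_of`. -/
theorem exists_std (h₀ : SA p A₀) (L : Lc p A₀ As B) {e : Kˣ} (he : σ (e : K) = e) (he' : (e : K) ^ 2 ≠ 1) (hg : g2 e ∈ A₀) :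
    ∃ α ∈ B, Std 0 α := by
  have e1 : (e : K) ≠ 1 := fun c => he' (by rw [c, one_pow])
  have e0 := e.ne_zero
  have hq : G2 K := ⟨e, he, e0, e1⟩
  have e2 := sub_ne_zero.2 e1
  have e3 := sub_ne_zero.2 he'
  have e4 : (e : K)⁻¹ - 1 ≠ 0 := sub_ne_zero.2 fun c => e1 (inv_eq_one.1 c)
  have hη := L.res _ hg
  obtain ⟨α₁, h₁, n₁⟩ := ac_exists h₀ L
  obtain ⟨g, k⟩ := orbitA hq h₀ L h₁ (mul_mem hη h₁) n₁ (ac_nmul _ n₁)
  obtain ⟨α, hα, hn, k⟩ : ∃ α ∈ B, ¬ PA α ∧ PA (α⁻¹ * (rA (g2 e) * α)) := by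
    refine ⟨cA (Xy (g.y / ((e : K)⁻¹ - 1))) * α₁, mul_mem (L.cj h₀ _) h₁, ac_nmul _ n₁, ?_⟩
    have a := res_conj (E := As) (g2 e) (Xy (g.y / ((e : K)⁻¹ - 1)))
    rw [mul_inv_eq_iff_eq_mul] at a
    have b : cA (g2 e (Xy (g.y / ((e : K)⁻¹ - 1)))) = cA (Xy (g.y / ((e : K)⁻¹ - 1))) * cA g := by
      rw [← cA_mul]
      refine cA_congr ?_
      simp only [g2, tf_apply, tfn, UE, UV]
      field_simp
      ring
    rw [← mul_assoc (rA (g2 e)), a, mul_inv_rev]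
    change PA (_ * (cA _ * _ * _))
    rw [b]
    simpa only [mul_assoc, inv_mul_cancel_left] using k
  have d : ∀ u ∈ As, afn α⁻¹ (u⁻¹ * g2 e u) = (afn α⁻¹ u)⁻¹ * afn (α⁻¹ * (rA (g2 e) * α)) (afn α⁻¹ u) := fun u hu => by
    have m := afn_mem α⁻¹ hu
    rw [afn_dv _ hu (chr_mem _ hu), afn_mul _ _ m, afn_mul _ _ m, afn_afn_inv _ hu, afn_res _ hu]
  have a1 : ∀ w, afn α⁻¹ (Xw w) ∈ Z2 := fun w => by
    obtain ⟨z, hz, m⟩ := exists_c hq h₀ L hα hn (w / ((e : K) - 1))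
    have : Xw w = (Xw (w / ((e : K) - 1)) * z)⁻¹ * g2 e (Xw (w / ((e : K) - 1)) * z) := by
      rw [mem_Z1] at hz
      ext <;> simp only [g2, tf_apply, tfn, UE, UV, hz, he] <;> field_simp <;> ring
    rw [this, d _ (mul_mem (show Xw _ ∈ As from rfl) hz.1)]
    exact mul_mem (inv_mem m) (k.2 _ m)
  have a2 := w_zero hq h₀ L hα a1
  have a3 : ∀ b hb, afn α⁻¹ (Xb b hb) ∈ Z1 := fun b hb => by
    obtain ⟨x, hx, m⟩ := exists_b hq h₀ L hα hn (b := b / ((e : K) ^ 2 - 1)) (by simp only [UE, he, hb]; ring)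
    have m' := afn_mem α hx.1
    have : Xb b hb = (afn α x)⁻¹ * g2 e (afn α x) := by
      ext <;> simp only [g2, tf_apply, tfn, UE, UV, mem_As.1 m', m, a2 x hx, he] <;> field_simp <;> ring
    rw [this, d _ m', afn_inv_afn _ hx.1]
    exact mul_mem (inv_mem hx) (k.1 _ hx)
  refine ⟨α, hα, std_of hq h₀ L hα hn a1 fun x hx => ?_⟩
  have m := afn_mem α hx.1
  have k1 := nonperpA hq h₀ L (inv_mem hα) (ac_ninv hn) (x := (Xb _ (afn α x).hb)⁻¹ * afn α x)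
    (by simp only [mem_Z1, UE, mem_As.1 m, a2 x hx]; exact ⟨trivial, by ring, trivial⟩) (by
      rw [afn_dv _ (show Xb _ _ ∈ As from rfl) m, afn_inv_afn _ hx.1]
      exact Z1_le_Z2 (mul_mem (inv_mem (a3 _ _)) hx))
  simpa only [UE] using congrArg U.c k1

/-- PROOF (`q = 3`).  `α₁` not `PA`.  `λ w = z.c` for the unique `z` of `exists_c` (`nonperpA` for `α₁⁻¹`) is additive, so `k`-linear, with pure values:
`λ w = σ m w - m σ w` (solve for `w = 1, ι`).  For `α = cA (Xy (-m)) * α₁` all `Xw w ∈ α Z2`.  `x₀ ∈ Z1` with `(α x₀).b = θ`, `κ = (α x₀).c / θ`;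
every `x ∈ Z1` has `(α x).b ∈ {0, θ, -θ}`, so `x ∈ {1, x₀, x₀⁻¹}` (`nonperpA`).  `std_of`. -/
theorem exists_std3 (h2 : (2 : K) ≠ 0) (h3 : ¬ G3 K) (h₀ : SA p A₀) (L : Lc p A₀ As B) : ∃ κ, σ κ = κ ∧ ∃ α ∈ B, Std κ α := by
  have hq := ac_g2 h2
  obtain ⟨α₁, h₁, n₁⟩ := ac_exists h₀ L
  obtain ⟨ι, hι⟩ := exists_ι (K := K)
  obtain ⟨θ, h0, hθ⟩ := exists_pure (K := K)
  have i0 : ι - σ ι ≠ 0 := sub_ne_zero.2 hι.symm
  have i1 : σ ι - ι ≠ 0 := sub_ne_zero.2 hι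
  obtain ⟨α, hα, hn, b1, b2⟩ : ∃ α ∈ B, ¬ PA α ∧ afn α⁻¹ (Xw 1) ∈ Z2 ∧ afn α⁻¹ (Xw ι) ∈ Z2 := by
    obtain ⟨z₁, hz₁, m₁⟩ := exists_c hq h₀ L h₁ n₁ 1
    obtain ⟨z₂, hz₂, m₂⟩ := exists_c hq h₀ L h₁ n₁ ι
    have a : ∀ w : K, (Xw w : U K) ∈ As := fun _ => rfl
    obtain ⟨m, e1, e2⟩ : ∃ m : K, σ m - m = z₁.c ∧ σ m * ι - m * σ ι = z₂.c :=
      ⟨(z₂.c - z₁.c * ι) / (ι - σ ι), by simp only [UE]; field_simp; ring, by simp only [UE]; field_simp; ring⟩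
    rw [mem_Z1] at hz₁ hz₂
    refine ⟨cA (Xy m)⁻¹ * α₁, mul_mem (L.cj h₀ _) h₁, ac_nmul _ n₁, ?_, ?_⟩ <;>
      rw [mul_inv_rev, afn_mul _ _ (a _), cA, ← map_inv, ← map_inv, inv_inv, afn_cA _ (a _)]
    · convert m₁ using 2
      ext <;> simp only [UE, hz₁, ← e1] <;> ring
    · convert m₂ using 2
      ext <;> simp only [UE, hz₂, ← e2] <;> ring
  have a0 : ∀ w : K, afn α⁻¹ (Xw w) ∈ Z2 → ∀ s : K, σ s = s → afn α⁻¹ (Xw (s * w)) ∈ Z2 := fun w hw s hs => by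
    rcases ac_k3 h3 hs with rfl | rfl | rfl
    · rw [show (Xw (0 * w) : U K) = 1 by ext <;> simp only [UE], (homOn_afn _).map_one]
      exact one_mem _
    · rwa [one_mul]
    · rw [show (Xw (-1 * w) : U K) = (Xw w)⁻¹ by ext <;> simp only [UE]; ring,
        (homOn_afn _).map_inv (show Xw w ∈ As from rfl)]
      exact inv_mem hw
  have a1 : ∀ w, afn α⁻¹ (Xw w) ∈ Z2 := fun w => by
    rw [show (Xw w : U K) = Xw ((w - (w - σ w) / (ι - σ ι) * ι) * 1) * Xw ((w - σ w) / (ι - σ ι) * ι) by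
      ext <;> simp only [UE]; ring, homOn_afn _ _ (show Xw _ ∈ As from rfl) _ (show Xw _ ∈ As from rfl)]
    exact mul_mem (a0 _ b1 _ (by simp only [UE]; field_simp; ring)) (a0 _ b2 _ (by simp only [UE]; field_simp; ring))
  obtain ⟨x₀, hx₀, e₀⟩ := exists_b hq h₀ L hα hn hθ
  refine ⟨(afn α x₀).c / θ, by simp only [UE, hθ]; field_simp, α, hα, std_of hq h₀ L hα hn a1 fun x hx => ?_⟩
  have m₀ := afn_mem α hx₀.1
  obtain ⟨x', hx', e, e'⟩ : ∃ x' ∈ Z1, (afn α x').b = (afn α x).b ∧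
      (afn α x').c = (afn α x₀).c / θ * (afn α x').b := by
    rcases ac_k3 h3 (s := (afn α x).b / θ) (by simp only [UE, hθ]; field_simp) with c | c | c
    · refine ⟨1, one_mem _, ?_⟩
      rw [(homOn_afn _).map_one, (div_eq_zero_iff.1 c).resolve_right h0]
      simp only [UE, and_self]
    · refine ⟨x₀, hx₀, ?_⟩
      rw [e₀, (div_eq_iff h0).1 c]
      exact ⟨by ring, by field_simp⟩
    · refine ⟨x₀⁻¹, inv_mem hx₀, ?_⟩
      rw [(homOn_afn _).map_inv hx₀.1, (div_eq_iff h0).1 c]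
      simp only [UE, mem_As.1 m₀, e₀]
      exact ⟨by ring, by field_simp⟩
  have k := nonperpA hq h₀ L hα hn (mul_mem (inv_mem hx') hx) (by
    rw [afn_dv _ hx'.1 hx.1]
    simp only [mem_Z2, UE, mem_As.1 (afn_mem α hx'.1), mem_As.1 (afn_mem α hx.1), e]
    exact ⟨trivial, by ring⟩)
  rwa [← inv_mul_eq_one.1 k]

/-- PROOF.  `ρ` fixes `Xb b _` (`b` is kept, `w = c = 0`), `Xw w` and `Z1`. -/
theorem eq_one_of_St {ρ : MulAut (As : Subgroup (U K))} (h : ρ ∈ St As [Z1, Z2]) (h' : Std 0 (ρ * ψA K)) : ρ = 1 := by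
  have h1 : ∀ x ∈ Z1, afn ρ x = x := fun x hx =>
    (inv_mul_eq_one.1 (show x⁻¹ * afn ρ x = 1 from (h 0 x hx.1 hx).2)).symm
  have hb : ∀ b hb, afn ρ (Xb b hb) = Xb b hb := fun b hb => by
    have m : Xc b hb ∈ (Z1 : Subgroup (U K)) := ⟨rfl, rfl, rfl⟩
    have m' : Xb b hb ∈ (As : Subgroup (U K)) := rfl
    have a : (Xb b hb)⁻¹ * afn ρ (Xb b hb) ∈ Z2 := (h 2 _ m' (mem_top _)).2
    have a1 := h'.1 _ m
    have a2 := h'.2 _ (Z1_le_Z2 m)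
    have a3 := a.2
    rw [afn_mul _ _ m.1, afn_ψA m.1, show ψ (Xc b hb) = Xb b hb by ext <;> simp only [ψ, UE]] at a1 a2
    simp only [UE] at a2 a3
    exact extA' (afn_mem _ m') m' ⟨by simp only [UE]; linear_combination a3, a1, a2⟩
  have hw : ∀ w, afn ρ (Xw w) = Xw w := fun w => by
    have m : ∀ t, Xw t ∈ (Z2 : Subgroup (U K)) := fun _ => ⟨rfl, rfl⟩
    have a : (Xw w)⁻¹ * afn ρ (Xw w) ∈ Z1 := (h 1 _ (m w).1 (m w)).2
    have a2 := h'.2 _ (m (-σ w))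
    have a3 := a.2.1
    have a4 := a.2.2
    rw [afn_mul _ _ (m _).1, afn_ψA (m _).1, show ψ (Xw (-σ w)) = Xw w by ext <;> simp only [ψ, UE]] at a2
    simp only [UE] at a2 a3 a4
    exact extA' (afn_mem _ (m w).1) (m w).1 ⟨a3, by simp only [UE]; linear_combination a4, a2⟩
  refine aut_ext fun x hx => ?_
  have e : x = Xb x.b x.hb * Xw x.w * Xc x.c x.hc := by ext <;> simp only [UE, mem_As.1 hx]
  have m1 : Xb x.b x.hb ∈ (As : Subgroup (U K)) := rfl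
  have m2 : Xw x.w ∈ (As : Subgroup (U K)) := rfl
  have m3 : Xc x.c x.hc ∈ (Z1 : Subgroup (U K)) := ⟨rfl, rfl, rfl⟩
  rw [afn_one, e, homOn_afn _ _ (mul_mem m1 m2) _ m3.1, homOn_afn _ _ m1 _ m2, hb, hw, h1 _ m3]

theorem ac_conj_mem (hT : Tn As ≤ B) (h : ∀ α ∈ B, PA α ∨ ∃ g, Std 0 (cA g * α)) (hα : α ∈ B) (h₁ : Std 0 α) (g : U K) :
    (ψA K * α) * cA g * (ψA K * α)⁻¹ ∈ Tn As := by
  have hτ := conj_mem_St (ac_ψ_pa h₁) (cA_mem_St g)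
  have hA : α * cA g * α⁻¹ ∈ B := mul_mem (mul_mem hα (hT ⟨g, rfl⟩)) (inv_mem hα)
  have e : (ψA K * α) * cA g * (ψA K * α)⁻¹ * ψA K = ψA K * (α * cA g * α⁻¹) := by group
  generalize (ψA K * α) * cA g * (ψA K * α)⁻¹ = τ at hτ e
  generalize α * cA g * α⁻¹ = τ' at hA e
  rcases h _ hA with k | ⟨g', k'⟩
  · rw [eq_one_of_St hτ (e ▸ ac_std_ψ.mul k)]
    exact one_mem _
  · obtain ⟨t, μ, k, rfl⟩ : ∃ t μ, Std 0 μ ∧ τ' = cA t * μ :=
      ⟨g'⁻¹, _, k', by rw [← mul_assoc, ← cA_mul, inv_mul_cancel, cA, map_one, map_one, one_mul]⟩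
    have hy : t.y ≠ 0 := fun c => by
      obtain ⟨θ, h0, hθ⟩ := exists_pure (K := K)
      have m : Xc θ hθ ∈ (Z1 : Subgroup (U K)) := ⟨rfl, rfl, rfl⟩
      rw [cA_congr (h := 1) c, cA, map_one, map_one, one_mul] at e
      have a := (e ▸ ac_ψ_pa k).1 _ m
      rw [afn_mul _ _ m.1, afn_ψA m.1] at a
      have b : (ψ (Xc θ hθ))⁻¹ * afn τ (ψ (Xc θ hθ)) ∈ Z2 := (hτ 2 _ (ψ_mem _) (mem_top _)).2
      have b1 := b.2
      simp only [UE, a.2.1] at b1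
      exact h0 (neg_eq_zero.1 b1)
    have hy' := σ_ne_zero hy
    have k4 : cA (Xy (-t.y⁻¹)) * τ = 1 := by
      refine eq_one_of_St (mul_mem (cA_mem_St _) hτ) ?_
      rw [mul_assoc, e]
      refine ⟨fun x hx => ?_, fun x hx => ?_⟩ <;>
        rw [afn_mul _ _ hx.1, afn_mul _ _ hx.1, afn_mul _ _ hx.1, afn_ψA (afn_mem _ (afn_mem _ hx.1))]
      · rw [(cjA _ (ψ_mem _)).2.1]
        simp only [ψ, cjA _ (afn_mem μ hx.1), UE, k.1 x hx, k.2 x (Z1_le_Z2 hx)]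
        field_simp
        ring
      · rw [(cjA _ (ψ_mem _)).2.2]
        simp only [ψ, cjA _ (afn_mem μ hx.1), UE, k.2 x hx]
        field_simp
        ring
    rw [eq_inv_of_mul_eq_one_right k4]
    exact inv_mem ⟨_, rfl⟩

/-- PROOF (as `U5F.std`).  `δ = ψA K * α₀` is `PA`.  `τ = δ * cA g * δ⁻¹ ∈ St As [Z1, Z2]`, `τ' = ψ τ ψ = α₀ (cA g) α₀⁻¹ ∈ B`, `τ * ψ = ψ * τ'`.  If `PA τ'`:
`eq_one_of_St` (`Std 0 ψ`, `Std.mul`).  Otherwise `τ' = cA t * μ`, `Std 0 μ`, `y = t.y ≠ 0` (else `τ (ψ Z1) ≤ Z2`, but `τ` keeps `b`); by `ψ_rel`,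
`(cA (Xy y⁻¹))⁻¹ * τ * ψ = ψ * rA (..) * (cA (Xy y⁻¹) * ψ * μ)`; or directly: `(cA (Xy y⁻¹))⁻¹ * ψ * cA t` maps `{w = c = 0}` and `{c = 0}` into themselves.
So `τ ∈ Tn As`; conjugation by `δ` maps the finite group `Tn As` onto itself, `ψ (cA g₁) ψ = α₀ (cA g) α₀⁻¹ ∈ B`; `ψ_rel`. -/
theorem stdA (hT : Tn As ≤ B) (h : ∀ α ∈ B, PA α ∨ ∃ g, Std 0 (cA g * α)) (h' : ∃ α₀ ∈ B, Std 0 α₀) (y : Kˣ) :
    ψA K * rA (h1 y * g2 (-1)) ∈ B := by
  obtain ⟨α₀, h₀, h₁⟩ := h'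
  have k1 : (Tn As).map (MulAut.conj (ψA K * α₀)).toMonoidHom ≤ Tn As := by
    rintro _ ⟨_, ⟨g, rfl⟩, rfl⟩
    exact ac_conj_mem hT h h₀ h₁ g
  have k2 := eq_of_le_of_card_ge k1 (card_map_of_injective (MulAut.conj (ψA K * α₀)).injective).ge
  have k3 : ∀ g, ψA K * cA g * ψA K ∈ B := fun g => by
    have : cA g ∈ (Tn As).map (MulAut.conj (ψA K * α₀)).toMonoidHom := by
      rw [k2]; exact ⟨g, rfl⟩
    obtain ⟨n, hn, e⟩ := this
    have e' : ψA K * cA g * ψA K = α₀ * n * α₀⁻¹ := by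
      rw [← e]
      change ψA K * (ψA K * α₀ * n * (ψA K * α₀)⁻¹) * ψA K = _
      calc _ = (ψA K * ψA K) * (α₀ * n * α₀⁻¹) := by group
        _ = _ := by rw [ψA_sq, one_mul]
    rw [e']
    exact mul_mem (mul_mem h₀ (hT hn)) (inv_mem h₀)
  have k := k3 (Xy (y : K))
  rw [ψ_rel] at k
  exact (B.mul_mem_cancel_left (hT ⟨_, rfl⟩)).1 ((B.mul_mem_cancel_right (hT ⟨_, rfl⟩)).1 k)

/-- PROOF.  `extA`, `hf`: `α = cA g * rA (tf r t f)`; compare `w` at `Xw w` (`f = 1`, `r N t = d / σ d`) and `b` at `Xb θ _` (`N t = (N d)⁻¹`); `tf_congr`. -/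
theorem h1_mem_of (h₀ : SA p A₀) (hf : Form A₀) (L : Lc p A₀ As B) (hα : α ∈ B) {d : Kˣ}
    (h : ∀ u ∈ As, (afn α u).b = (h1 d u).b ∧ (afn α u).w = (h1 d u).w) (h' : PA α) : h1 d ∈ A₀ := by
  obtain ⟨φ, hφ, rfl⟩ := extA h₀ L hα h'
  obtain ⟨g, r, s, f, rfl⟩ := hf φ hφ
  obtain ⟨θ, h0, hθ⟩ := exists_pure (K := K)
  have e : ∀ u ∈ As, (tf r s f u).b = (h1 d u).b ∧ (tf r s f u).w + g.y * (tf r s f u).b = (h1 d u).w := fun u hu => by
    have := h u hu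
    rwa [map_mul, afn_mul _ _ hu, afn_res _ hu, (cjA g (chr_mem _ hu)).1, (cjA g (chr_mem _ hu)).2.1] at this
  have a := fun w => (e (Xw w) rfl).2
  have b := (e (Xb θ hθ) rfl).1
  simp only [h1, tf_apply, tfn, UE, UV, map_zero] at a b
  have d0 := d.ne_zero
  have d1 := σu_ne d
  have a1 := a 1
  rw [map_one] at a1
  obtain rfl : f = 1 := RingEquiv.ext fun t => mul_left_cancel₀
    (mul_ne_zero (mul_ne_zero r.ne_zero s.ne_zero) (σu_ne s)) (by rw [a t, ← mul_one ((r : K) * s * _), a1]; simp only [UV, UE])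
  have b1 := mul_right_cancel₀ h0 b
  have : tf r s 1 = h1 d := tf_congr (by
    rw [mul_one, mul_assoc, b1] at a1
    simp only [UV]
    field_simp at a1
    linear_combination a1) (by simpa only [UV, UE] using b1)
  exact this ▸ (mul_mem_cancel_left (h₀.conj g)).1 hφ

/-- `exists_std`, `orbitA`, `Std.mul` (a `Std` map is not `PA`), `stdA` for `y = 1` and `y = d`, `h1_mem_of`. -/
theorem torA (h3 : G3 K) (h₀ : SA p A₀) (hf : Form A₀) (L : Lc p A₀ As B) (hg : ∀ e : Kˣ, σ (e : K) = e → g2 e ∈ A₀) :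
    (∀ d, h1 d ∈ A₀) ∧ ψA K ∈ B := by
  obtain ⟨s, hs, s0, s1⟩ := id h3
  obtain ⟨α, hα, k⟩ := exists_std h₀ L (e := Units.mk0 s s0) hs s1 (hg _ hs)
  have a := stdA (L.Tn_le h₀) (fun β hβ => ac_orbit h3.g2 h₀ L hα k hβ) ⟨α, hα, k⟩
  have b : rA (g2 (-1)) ∈ B := L.res _ (hg _ (by simp))
  have c : ψA K ∈ B := by
    have := a 1
    rw [h1_one, one_mul] at this
    exact (mul_mem_cancel_right b).1 this
  refine ⟨fun d => ?_, c⟩
  have := (mul_mem_cancel_left c).1 (a d)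
  rw [map_mul] at this
  exact h1_mem_of h₀ hf L ((mul_mem_cancel_right b).1 this) (fun u hu => by rw [afn_res _ hu]; exact ⟨rfl, rfl⟩) (pa_res _)

/-- PROOF (`q = 3`).  `exists_std3`, `z = rA (zk κ hκ)` fixes `Z2` pointwise and commutes with `cA g`; `Std κ α → Std 0 (z⁻¹ * α * z)`.  `stdA` for
`B.comap (MulAut.conj z).toMonoidHom`; `g2 (-1) = h1 ϑ` (`ϑ ^ 2 = -1`, `N ϑ = 1`); `h1_mem_of` for `z * rA (h1 d) * z⁻¹`.  If `tf r t f ∈ A₀`, `η = rA _`: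
`Std κ (cA g * (η * α))` for some `g`; on `x ∈ Z1` with `(α x).b = θ` this gives `g.y = 0`, `N r κ = κ` (`f κ = κ` as `κ ∈ {0, 1, -1}`). -/
theorem torA3 (h2 : (2 : K) ≠ 0) (h3 : ¬ G3 K) (h₀ : SA p A₀) (hf : Form A₀) (L : Lc p A₀ As B) :
    ∃ (κ : K) (hκ : σ κ = κ), (∀ r t f, tf r t f ∈ A₀ → zk κ hκ * tf r t f = tf r t f * zk κ hκ) ∧ (∀ d, h1 d ∈ A₀) ∧
      rA (zk κ hκ) * ψA K * (rA (zk κ hκ))⁻¹ ∈ B := by
  have hq := ac_g2 h2
  obtain ⟨κ, hκ, α, hα, k⟩ := exists_std3 h2 h3 h₀ L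
  have z0 : ∀ β, Std κ β → Std 0 ((rA (zk κ hκ))⁻¹ * β * rA (zk κ hκ)) := fun β hβ => by
    refine Std.mul ⟨fun x hx => ?_, fun x hx => ?_⟩ (pa_res _) <;>
      rw [afn_mul _ _ hx.1, ← map_inv, afn_res _ (afn_mem _ hx.1)]
    · exact hβ.1 x hx
    · change (afn β x).c - κ * (afn β x).b = _
      rw [hβ.2 x hx, sub_self, zero_mul]
  have a := stdA (B := B.comap (MulAut.conj (rA (zk κ hκ))).toMonoidHom) (by
    rintro _ ⟨g, rfl⟩
    change rA (zk κ hκ) * cA g * (rA (zk κ hκ))⁻¹ ∈ B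
    rw [res_conj]
    exact L.cj h₀ _) (fun β hβ => by
      rcases ac_orbit hq h₀ L hα k hβ with c | ⟨g, c⟩
      · left
        have := ((pa_res (zk κ hκ)).inv.mul c).mul (pa_res (zk κ hκ))
        simpa only [MulEquiv.toMonoidHom_eq_coe, MonoidHom.coe_coe, MulAut.conj_apply, mul_assoc, inv_mul_cancel_left,
          inv_mul_cancel, mul_one] using this
      · refine Or.inr ⟨(zk κ hκ)⁻¹ g, ?_⟩
        have := z0 _ c
        rw [cA, ← res_conj, map_inv]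
        simpa only [MulEquiv.toMonoidHom_eq_coe, MonoidHom.coe_coe, MulAut.conj_apply, mul_assoc, inv_mul_cancel_left,
          inv_mul_cancel, mul_one, inv_inv] using this)
    ⟨_, by simpa only [mem_comap, MulEquiv.toMonoidHom_eq_coe, MonoidHom.coe_coe, MulAut.conj_apply, mul_assoc,
      mul_inv_cancel_left, mul_inv_cancel, mul_one] using hα, z0 α k⟩
  have t0 := (ϑ : Kˣ).ne_zero
  have t1 : ((ϑ : Kˣ) : K) ^ 2 = -1 := by
    rcases ac_k3 h3 (s := ((ϑ : Kˣ) : K) ^ 2) (by simp only [UE, σϑ]; ring) with c | c | c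
    · exact absurd (pow_eq_zero_iff two_ne_zero |>.1 c) t0
    · exfalso
      have := σϑ (K := K)
      rcases sq_eq_one_iff.1 c with c | c <;> rw [c] at this <;> simp only [UE] at this
      · exact h2 (by linear_combination this)
      · exact h2 (by linear_combination -this)
    · exact c
  have t2 : g2 (-1 : Kˣ) = h1 ϑ := tf_congr (by simp only [UV, t1]; simp) (by
    simp only [UV, UE, σϑ]; field_simp; linear_combination t1)
  simp only [t2, h1_mul] at a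
  have c := a ϑ⁻¹
  rw [inv_mul_cancel, h1_one, map_one, mul_one] at c
  refine ⟨κ, hκ, fun r t f hr => ?_, fun d => ?_, c⟩
  · obtain ⟨θ, h0, hθ⟩ := exists_pure (K := K)
    obtain ⟨g, e⟩ := (ac_orbit hq h₀ L hα k (mul_mem (L.res _ hr) hα)).resolve_left (ac_nmul _ k.not_pa)
    obtain ⟨x, hx, e1⟩ := exists_b hq h₀ L hα k.not_pa hθ
    have m := afn_mem α hx.1
    have a1 := e.1 x hx
    have a2 := e.2 x (Z1_le_Z2 hx)
    rw [afn_mul _ _ hx.1, afn_mul _ _ hx.1, afn_res (tf r t f) m] at a1 a2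
    simp only [cjA g (chr_mem (tf r t f) m)] at a1 a2
    simp only [tf_apply, tfn, UE, k.1 x hx, k.2 x (Z1_le_Z2 hx), e1, map_zero, map_mul] at a1 a2
    have n := mul_ne_zero (mul_ne_zero t.ne_zero (σu_ne t)) ((map_ne_zero f).2 h0)
    have a4 : g.y = 0 := (mul_eq_zero.1 a1).resolve_right n
    rw [a4] at a2
    have a3 : (r : K) * σ (r : K) * f κ = κ := mul_right_cancel₀ n (by linear_combination a2)
    refine MulEquiv.ext fun u => ?_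
    ext <;> simp only [MulAut.mul_apply, zk_apply, tf_apply, tfn, map_add, map_mul]
    linear_combination -(t : K) * σ (t : K) * f u.b * a3
  · have := (mul_mem_cancel_left c).1 (a (d * ϑ⁻¹))
    rw [inv_mul_cancel_right] at this
    replace this : rA (zk κ hκ) * rA (h1 d) * (rA (zk κ hκ))⁻¹ ∈ B := this
    rw [← map_inv, ← map_mul, ← map_mul] at this
    exact h1_mem_of h₀ hf L this (fun u hu => by rw [afn_res _ hu]; exact ⟨rfl, rfl⟩) (pa_res _)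

end Cfsg.Agent.U4F
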