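import Cfsg.Agent.U4F.Def
import Cfsg.Agent.U5F.FF

/-!
Two consequences of `Disc` (`U5F/FF`; the proof of `ff_of_disc` is the model).
Read the headers and signatures of `U4F/U`, `U4F/Def`, `U5F/Gen`.  `k` is the fixed field of `σ`, "pure" is `σ b = -b`, `N t = t * σ t`,
`ι` is from `exists_ι`, `θ` from `exists_pure`.  Tools: `simp only [mem_X, UE, UV, h..]` then `ring`, `field_simp`, `grind`; `afn_mul`,
`afn_mem`, `afn_cm`, `afn_dv`, `afn_res`, `afn_inv_afn`, `cjQ`, `cjA`, `congQ`, `mem_OQ`, `com_Q`, `mulA`, `extA'`, `eq_zero_of_real`,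
`exists_pr`, `surj_pure`, `exists_ne_of_pure`.
-/

set_option autoImplicit false
set_option linter.unusedSectionVars false
set_option linter.unusedSimpArgs false

namespace Cfsg.Agent.U4F

open Subgroup Cfsg.Agent.RFS Cfsg.Agent.Fus Cfsg.Agent.U5F

variable {Ω : Type*} [Group Ω] [Finite Ω] {E : Subgroup Ω} {p : ℕ} [Fact p.Prime]

section Aux

variable {H : Type*} [Group H] [Finite H] {𝒢 𝒯 : Set (MulAut H)} {C Z : Subgroup H} {β t : MulAut H}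

/-- `β C` -/
def absIm (β : MulAut H) (C : Subgroup H) : Subgroup H := C.comap (β⁻¹).toMonoidHom

theorem mem_absIm {y : H} : y ∈ absIm β C ↔ β⁻¹ y ∈ C := Iff.rfl

theorem index_absIm : (absIm β C).index = C.index := C.index_comap_of_surjective (β⁻¹).surjective

theorem abs_cl (mn : (C ⊓ absIm β C).index ≤ (C ⊓ absIm (β⁻¹ * t * β) C).index) (ht : t ∈ ffSt C) {e : H}
    (he : e ∈ absIm β C) (ne : e ∉ C) (h : t e * e⁻¹ ∈ absIm β C) : False := by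
  refine mn.not_gt ?_
  rw [← (C ⊓ absIm β C).index_comap_of_surjective (f := β.toMonoidHom) β.surjective]
  refine index_strictAnti (lt_of_le_not_ge (fun y hy => ?_) fun r => ?_)
  · have a1 : y ∈ C := by simpa using mem_absIm.1 hy.2
    have a2 : t⁻¹ (β y) = β y := (inv_mem ht).1 _ hy.1
    refine ⟨a1, mem_absIm.2 ?_⟩
    rw [show (β⁻¹ * t * β)⁻¹ = β⁻¹ * t⁻¹ * β by group, MulAut.mul_apply, MulAut.mul_apply, a2]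
    exact mem_absIm.1 hy.2
  · have a1 : t e ∈ absIm β C := by simpa using mul_mem h he
    have a2 : (β⁻¹ * t * β)⁻¹ (β⁻¹ (t e)) ∈ C := by
      rw [← MulAut.mul_apply, ← MulAut.mul_apply, show (β⁻¹ * t * β)⁻¹ * β⁻¹ * t = β⁻¹ by group]
      exact mem_absIm.1 he
    have a3 : t e ∈ C := by simpa using (r ⟨mem_absIm.1 a1, a2⟩).1
    exact ne (inv_mem_iff.1 ((mul_mem_cancel_left a3).1 (ht.2 e)))

theorem abs_ex (ht : t ∈ ffSt C) (h : β * t * β⁻¹ ∉ ffSt C) : ∃ e ∈ absIm β C, e ∉ C := by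
  by_contra! r
  have e : absIm β C = C := (show absIm β C ≤ C from r).eq_or_lt.resolve_right fun k =>
    (index_strictAnti k).ne' index_absIm
  refine h ⟨fun c hc => ?_, fun y => e.le (mem_absIm.2 ?_)⟩
  · rw [MulAut.mul_apply, MulAut.mul_apply, ht.1 _ (mem_absIm.1 (e.ge hc)), MulAut.apply_inv_self]
  · rw [MulAut.mul_apply, MulAut.mul_apply, map_mul, map_inv, MulAut.inv_apply_self]
    exact ht.2 _

theorem abs_pearl (hp : IsPGroup p H) (hn : 𝒢.Nonempty) (hG : ∀ β ∈ 𝒢, ∀ t ∈ 𝒯, β⁻¹ * t * β ∈ 𝒢 ∧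
      ∀ N : Subgroup (MulAut H), IsPGroup p N → t ∈ N → β * t * β⁻¹ ∉ N) (hT : ∀ t ∈ 𝒯, t⁻¹ ∈ 𝒯)
    (hZ : Z ≠ ⊥) (hZC : Z < C) (hc : C.index ≤ Nat.card Z) {t₀ : MulAut H} (h0 : t₀ ∈ 𝒯) (h1 : t₀ ∈ ffSt C)
    (h3 : ∀ e ∉ C, ∀ z ∈ Z, z ≠ 1 → ∃ t ∈ 𝒯, t ∈ ffSt C ∧ t e * e⁻¹ = z)
    (h4 : ∀ e ∉ C, ∀ d ∈ C, d ≠ 1 → ∃ t ∈ 𝒯, t e = d * e) : False := by
  obtain ⟨β₀, hβ₀, mn⟩ := Set.exists_min_image 𝒢 (fun β => (C ⊓ absIm β C).index) (Set.toFinite _) hn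
  have a : ∀ β ∈ 𝒢, (C ⊓ absIm β C).index ≤ (C ⊓ absIm β₀ C).index → ∀ z ∈ Z, β⁻¹ z ∈ C → z = 1 :=
    fun β hβ le z hz k => by
      by_contra z1
      obtain ⟨e, he, ne⟩ := abs_ex h1 ((hG β hβ _ h0).2 _ (ffSt_p hp C) h1)
      obtain ⟨t, ht, t1, t2⟩ := h3 e ne z hz z1
      exact abs_cl (le.trans (mn _ (hG β hβ t ht).1)) t1 he ne (t2 ▸ k)
  have b : ∀ β, (C ⊓ absIm β C).index ≤ Nat.card Z * C.index := fun β =>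
    index_inf_le.trans (by rw [index_absIm]; exact Nat.mul_le_mul_right _ hc)
  have c : Nat.card Z * C.index ≤ (C ⊓ absIm β₀ C).index := by
    rw [← relIndex_mul_index (inf_le_left : C ⊓ absIm β₀ C ≤ C)]
    refine Nat.mul_le_mul_right _ (le_trans ?_ (relIndex_le_of_le_right hZC.le index_ne_zero_of_finite))
    rw [← inf_relIndex_right, show C ⊓ absIm β₀ C ⊓ Z = ⊥ from eq_bot_iff.2 fun z hz => a _ hβ₀ le_rfl z hz.2 hz.1.2,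
      relIndex_bot_left]
  replace a := fun β hβ => a β hβ ((b β).trans c)
  have g2 := (hG β₀ hβ₀ _ (hT _ h0)).1
  rw [show β₀⁻¹ * t₀⁻¹ * β₀ = (β₀⁻¹ * t₀ * β₀)⁻¹ by group] at g2
  have g1 := (hG β₀ hβ₀ _ h0).1
  generalize β₀⁻¹ * t₀ * β₀ = β at g1 g2
  obtain ⟨⟨z, hz⟩, z1⟩ := ne_bot_iff_exists_ne_one.1 hZ
  replace z1 : z ≠ 1 := fun r => z1 (Subtype.ext r)
  obtain ⟨⟨d, hd⟩, d1⟩ := ne_bot_iff_exists_ne_one.1 (show C ⊓ absIm β C ≠ ⊥ from fun r => by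
    have := b β
    rw [r, index_bot, ← C.card_mul_index] at this
    exact hZC.ne (eq_of_le_of_card_ge hZC.le
      (Nat.le_of_mul_le_mul_right this (Nat.pos_of_ne_zero index_ne_zero_of_finite))))
  obtain ⟨t, ht, e⟩ := h4 (β z) (fun r => z1 (a _ g2 z hz r)) d hd.1 fun r => d1 (Subtype.ext r)
  refine z1 (a _ (hG β g1 _ (hT t ht)).1 z hz ?_)
  rw [show (β⁻¹ * t⁻¹ * β)⁻¹ = β⁻¹ * t * β by group, MulAut.mul_apply, MulAut.mul_apply, e, map_mul,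
    MulAut.inv_apply_self]
  exact mul_mem hd.2 (hZC.le hz)

end Aux

/-- the automorphisms of `E` induced by elements outside `E` -/
def absT (E : Subgroup Ω) : Set (MulAut E) := {t | ∃ x ∉ E, ∀ y : E, (t y : Ω) = x * y * x⁻¹}

theorem abs_inv : ∀ t ∈ absT E, t⁻¹ ∈ absT E := fun t ⟨x, hx, e⟩ => ⟨x⁻¹, mt inv_mem_iff.1 hx, fun y => by
  have := e (t⁻¹ y)
  rw [MulAut.apply_inv_self] at this
  rw [this]; group⟩

theorem abs_of {x : Ω} (hx : x ∉ E) (h : Nm E x) : ∃ t ∈ absT E, ∀ y : E, (t y : Ω) = x * y * x⁻¹ :=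
  ⟨E.normalizerMonoidHom ⟨x, mem_normalizer_fintype h⟩, ⟨x, hx, fun _ => rfl⟩, fun _ => rfl⟩

theorem abs_B {C B : Subgroup Ω} (hC : C ≤ E) (h1 : ∀ b ∈ B, ∀ y ∈ E, cm b y ∈ C)
    (h2 : ∀ b ∈ B, ∀ c ∈ C, b * c = c * b) {b : Ω} (hb : b ∈ B) (nb : b ∉ E) :
    ∃ t ∈ absT E, t ∈ ffSt (C.subgroupOf E) ∧ ∀ y : E, ((t y * y⁻¹ : E) : Ω) = cm b y := by
  obtain ⟨t, ht, e⟩ := abs_of nb (nm_of_cm fun y hy => hC (h1 b hb y hy))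
  have k : ∀ y : E, ((t y * y⁻¹ : E) : Ω) = cm b y := fun y => by rw [coe_mul, e]; rfl
  exact ⟨t, ht, ⟨fun c hc => Subtype.ext (by rw [e, h2 b hb c hc, mul_inv_cancel_right]),
    fun y => mem_subgroupOf.2 (k y ▸ h1 b hb y y.2)⟩, k⟩

theorem abs_disc (h : Disc p E) : ∃ 𝒢 : Set (MulAut E), 𝒢.Nonempty ∧ ∀ β ∈ 𝒢, ∀ t ∈ absT E,
    β⁻¹ * t * β ∈ 𝒢 ∧ ∀ N : Subgroup (MulAut E), IsPGroup p N → t ∈ N → β * t * β⁻¹ ∉ N :=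
  h.imp fun _ h => ⟨h.1, fun β hβ t ⟨x, hx, e⟩ => h.2 β hβ t x hx fun _ hy => (afn_apply _ hy).trans (e _)⟩

/-- PROOF.  For `β ∈ 𝒢` let `C' = β C`; choose `β` with `card (C ⊓ C')` maximal.  `b ∈ B` induces `t ∈ MulAut E` (`nm_of_cm`).  If `C' ≤ C` then
`C' = C`, and `t`, `β * t * β⁻¹` (for `b ∈ B \ E`) lie in the `p`-group `St E [C]` (`St_conj`, `isPGroup_St`).  Otherwise take `e ∈ C' \ C` and `b` from
`h3`; `γ = β⁻¹ * t * β ∈ 𝒢`, and `β (C ⊓ γ C) = C' ⊓ t C'` contains `C ⊓ C'` and `e`. -/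
theorem ff0 (hp : IsPGroup p E) (h : Disc p E) {C B : Subgroup Ω} (hC : C ≤ E) (h0 : ¬ B ≤ E)
    (h1 : ∀ b ∈ B, ∀ y ∈ E, cm b y ∈ C) (h2 : ∀ b ∈ B, ∀ c ∈ C, b * c = c * b)
    (h3 : ∀ e ∈ E, e ∉ C → ∃ b ∈ B, b ∉ E ∧ b * e = e * b) : False := by
  obtain ⟨𝒢, hn, hG⟩ := abs_disc h
  obtain ⟨b₀, hb₀, n₀⟩ := SetLike.not_le_iff_exists.1 h0
  obtain ⟨t₀, a0, a1, -⟩ := abs_B hC h1 h2 hb₀ n₀
  obtain ⟨β, hβ, mn⟩ := Set.exists_min_image 𝒢 (fun β => (C.subgroupOf E ⊓ absIm β (C.subgroupOf E)).index)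
    (Set.toFinite _) hn
  obtain ⟨e, he, ne⟩ := abs_ex a1 ((hG β hβ _ a0).2 _ (ffSt_p hp _) a1)
  obtain ⟨b, hb, nb, k⟩ := h3 e e.2 ne
  obtain ⟨t, ht, t1, t2⟩ := abs_B hC h1 h2 hb nb
  exact abs_cl (mn _ (hG β hβ t ht).1) t1 he ne
    ((Subtype.ext ((t2 e).trans (cm_eq_one.2 k)) : t e * e⁻¹ = 1) ▸ one_mem _)

/-- PROOF.  As in `ff0`, `C' = β C ≰ C`.  For `β` with `card (C ⊓ C')` maximal: `Z ⊓ C' = ⊥` (for `1 ≠ z ∈ Z ⊓ C'`, `e ∈ C' \ C`, `b` from `h3`: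
`b e b⁻¹ = z e ∈ C' ⊓ t C'`, not in `C`), so `card (C ⊓ C') * card Z ≤ card C`.  For every `β`: `card C ^ 2 ≤ card E * card (C ⊓ C')`, so
`card C ≤ card (C ⊓ C') * card Z`.  Hence every `β ∈ 𝒢` is maximal: (*) `Z ⊓ β C = ⊥`, and `C ⊓ β C ≠ ⊥` (`Z < C`).  Take `β = β₀⁻¹ t₀ β₀`; then also
`β⁻¹ = β₀⁻¹ t₀⁻¹ β₀ ∈ 𝒢`.  Let `1 ≠ z ∈ Z`, `e = β z ∉ C` by (*) for `β⁻¹`, `1 ≠ d ∈ C ⊓ β C`?  Careful: `e ∈ β C` as `Z ≤ C`.  `x` from `h4` induces `t`,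
`t e = d e ∈ β C`, so `z ∈ (β⁻¹ t⁻¹ β) C`, and `β⁻¹ t⁻¹ β ∈ 𝒢` (`x⁻¹ ∉ E`), contradicting (*). -/
theorem pearl (hp : IsPGroup p E) (h : Disc p E) {Z C B : Subgroup Ω} (hZ : Z ≠ ⊥) (hZC : Z < C) (hC : C ≤ E)
    (hc : Nat.card E ≤ Nat.card C * Nat.card Z) (h0 : ¬ B ≤ E)
    (h1 : ∀ b ∈ B, ∀ y ∈ E, cm b y ∈ C) (h2 : ∀ b ∈ B, ∀ c ∈ C, b * c = c * b)
    (h3 : ∀ e ∈ E, e ∉ C → ∀ z ∈ Z, z ≠ 1 → ∃ b ∈ B, b ∉ E ∧ cm b e = z)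
    (h4 : ∀ e ∈ E, e ∉ C → ∀ d ∈ C, d ≠ 1 → ∃ x ∉ E, Nm E x ∧ x * e * x⁻¹ = d * e) : False := by
  obtain ⟨𝒢, hn, hG⟩ := abs_disc h
  obtain ⟨b₀, hb₀, n₀⟩ := SetLike.not_le_iff_exists.1 h0
  obtain ⟨t₀, a0, a1, -⟩ := abs_B hC h1 h2 hb₀ n₀
  have hZE := hZC.le.trans hC
  have c1 := Nat.card_congr (subgroupOfEquivOfLe hC).toEquiv
  have c2 := Nat.card_congr (subgroupOfEquivOfLe hZE).toEquiv
  refine abs_pearl (Z := Z.subgroupOf E) hp hn hG abs_inv (fun r => hZ ?_)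
    (lt_of_le_not_ge (fun _ r => hZC.le r) fun r => hZC.not_ge fun c hc => r (x := ⟨c, hC hc⟩) hc) ?_ a0 a1
    (fun e ne z hz z1 => ?_) fun e ne d hd d1 => ?_
  · rw [← card_eq_one, ← c2, r, card_bot]
  · rw [← (C.subgroupOf E).card_mul_index, c1, ← c2] at hc
    exact Nat.le_of_mul_le_mul_left hc Nat.card_pos
  · obtain ⟨b, hb, nb, k⟩ := h3 e e.2 ne z hz fun r => z1 (Subtype.ext r)
    obtain ⟨t, ht, t1, t2⟩ := abs_B hC h1 h2 hb nb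
    exact ⟨t, ht, t1, Subtype.ext ((t2 e).trans k)⟩
  · obtain ⟨x, nx, hx, k⟩ := h4 e e.2 ne d hd fun r => d1 (Subtype.ext r)
    obtain ⟨t, ht, t1⟩ := abs_of nx hx
    exact ⟨t, ht, Subtype.ext ((t1 e).trans k)⟩

end Cfsg.Agent.U4F
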