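import Cfsg.Agent.U4F.Def

/-!
The automorphism group of `U K` modulo a normal `p`-subgroup.
Read the headers and signatures of `U4F/U`, `U4F/Def`, `U5F/Gen`.  `k` is the fixed field of `σ`, "pure" is `σ b = -b`, `N t = t * σ t`,
`ι` is from `exists_ι`, `θ` from `exists_pure`, `≡` is equality of the coordinates `y, w`.  Tools: `simp only [mem_X, UE, UV, h..]` then `ring`,
`field_simp`, `grind`; `afn_mul`, `afn_mem`, `afn_cm`, `afn_dv`, `afn_res`, `afn_inv_afn`, `homOn_afn`, `cjQ`, `congQ`, `mem_OQ`, `com_Q`, `cm_cQ`,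
`eq_zero_of_real`, `exists_pr`, `surj_pure`. `U5F/AutS` is the model.
-/

set_option autoImplicit false
set_option linter.unusedSectionVars false
set_option linter.unusedSimpArgs false

namespace Cfsg.Agent.U4F

open Subgroup Cfsg.Agent.RFS Cfsg.Agent.Fus Cfsg.Agent.U5F

variable {K : Type*} [Field K] [Cj K] {p : ℕ} [Fact p.Prime] [CharP K p] {A₀ : Subgroup (MulAut (U K))}
  {A : Subgroup (MulAut (Qs : Subgroup (U K)))} {α β : MulAut (Qs : Subgroup (U K))}

/-- PROOF.  `F (x ^ 2) = F (Tr x * x - N x) = g (Tr x) F x - g (N x) = F x ^ 2`; `x = a + b ι`, `y = c + d ι` with `a, b, c, d ∈ k`; `g` is multiplicative on `k`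
(`g s = F s`).  `RingEquiv.ofBijective`, `RingHom.injective`. -/
theorem exists_ringEquiv {F : K → K} (ha : ∀ x y, F (x + y) = F x + F y) (h1 : F 1 = 1) (hs : ∀ s y, σ s = s → F (s * y) = F s * F y)
    (ht : ∀ x, F (x + σ x) = F x + σ (F x)) (hn : ∀ x, F (x * σ x) = F x * σ (F x)) : ∃ f : K ≃+* K, ∀ x, F x = f x := by
  obtain ⟨ι, hι⟩ := exists_ι (K := K)
  have h0 : ι - σ ι ≠ 0 := sub_ne_zero.2 hι.symm
  have dec : ∀ x : K, ∃ a b, σ a = a ∧ σ b = b ∧ x = a + b * ι := fun x => by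
    have hb : σ ((x - σ x) / (ι - σ ι)) = (x - σ x) / (ι - σ ι) := by
      rw [map_div₀, map_sub, map_sub, σσ, σσ, ← neg_div_neg_eq, neg_sub, neg_sub]
    refine ⟨x - (x - σ x) / (ι - σ ι) * ι, _, ?_, hb, by ring⟩
    rw [map_sub, map_mul, hb]
    field_simp
    ring
  have sq : F (ι * ι) = F ι * F ι := by
    have := hs (ι + σ ι) ι (by simp only [UE]; ring)
    rw [add_mul, ha, ht, mul_comm (σ ι), hn] at this
    linear_combination this
  have m1 : ∀ y, F (ι * y) = F ι * F y := fun y => by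
    obtain ⟨c, d, hc, hd, rfl⟩ := dec y
    rw [show ι * (c + d * ι) = c * ι + d * (ι * ι) by ring, ha, ha, hs _ _ hc, hs _ _ hd, hs _ _ hd, sq]
    ring
  let g : K →+* K := RingHom.mk' ⟨⟨F, h1⟩, fun x y => by
    obtain ⟨a, b, h, h', rfl⟩ := dec x
    change F _ = F _ * F _
    rw [add_mul, mul_assoc, ha, ha, hs _ _ h, hs _ _ h', hs _ _ h', m1]
    ring⟩ ha
  exact ⟨RingEquiv.ofBijective g (Finite.injective_iff_bijective.1 g.injective), fun _ => rfl⟩

theorem aS_cm (φ : MulAut (U K)) (g h : U K) : φ (cm g h) = cm (φ g) (φ h) := by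
  simp only [cm, map_mul, map_inv]

theorem aS_y (φ : MulAut (U K)) {u v : U K} (h : u.y = v.y) : (φ u).y = (φ v).y := by
  have : (φ (v⁻¹ * u)).y = 0 := chr_mem (L := As) φ (show (v⁻¹ * u).y = 0 by simp only [UE, h]; ring)
  rw [map_mul, map_inv] at this
  simp only [UE] at this
  linear_combination this

theorem aS_b (φ : MulAut (U K)) {u v : U K} (h : u.b = v.b) : (φ u).b = (φ v).b := by
  have : (φ (v⁻¹ * u)).b = 0 := chr_mem (L := Qs) φ (show (v⁻¹ * u).b = 0 by simp only [UE, h]; ring)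
  rw [map_mul, map_inv] at this
  simp only [UE] at this
  linear_combination this

theorem aS_w (φ : MulAut (U K)) {u v : U K} (hu : u ∈ Z2) (hv : v ∈ Z2) (h : u.w = v.w) : (φ u).w = (φ v).w := by
  have h1 : φ (v⁻¹ * u) ∈ Z1 := chr_mem φ (by
    rw [mem_Z2] at hu hv
    simp only [mem_Z1, UE, h, hu, hv, true_and]; ring)
  rw [map_mul, map_inv] at h1
  have h2 := h1.2.2
  have h3 := mem_Z2.1 (chr_mem φ hu)
  have h4 := mem_Z2.1 (chr_mem φ hv)
  simp only [UE, h3, h4] at h2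
  linear_combination h2

/-- PROOF.  `F y = (φ (Xy y)).y`, `G b = (φ (Xb b)).b`, `H w = (φ (Xw w)).w`, `J c = (φ (Xc c)).c` are additive and injective, `(φ u).y = F u.y`, `(φ u).b = G u.b`,
`(φ u).w = H u.w` on `Z2`, `(φ u).c = J u.c` on `Z1` (`chr_mem`).  `cm_w`: `H (y b) = F y G b`, so `F (s y) = g s F y`, `g s = G (s θ) / G θ ∈ k` for `s ∈ k`.
`cm_c2` for `Xy y`, `Xw (x θ)`: `J (θ Tr (σ y x)) = G θ Tr (σ (F y) F x)`; traces are onto `k` (`τ`), so `J (θ s) = κ g s G θ`, `κ = J θ / G θ ∈ k`, `κ ≠ 0`.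
Claim `κ g (N y) = N (F y)`.  If `¬ G2 K`, nonzero elements of `k` are `1`.  Otherwise: `cm (Xy y) (Xb b) = Xw (y b) * Xc (N y b)`, so with `L w = (φ (Xw w)).c`,
`M b = (φ (Xb b)).w`, `T t = t - σ t`: `L (y b) + J (N y b) = T (σ (F y) M b) + N (F y) G b` (`cm_cA`, `mulA`).  Compare `(s y, θ)` with `(y, s θ)`:
`(g s ^ 2 - g s) D y = g s T (σ (F y) M θ) - T (σ (F y) M (s θ))`, `D y = J (N y θ) - N (F y) G θ`; replacing `y` by `s y` multiplies the left side by `g s ^ 2`, the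
right side by `g s`; so `D y = 0` (`g s ≠ 0, 1`).  Now `κ = N r`, `r = F 1`, `exists_ringEquiv` for `F / r`; `N t = G θ / f θ` (`exists_nrm`, `fσ`). -/
theorem autS (φ : MulAut (U K)) :
    ∃ (r t : Kˣ) (f : K ≃+* K), ∀ u, (φ u).y = r * f u.y ∧ (φ u).b = t * σ (t : K) * f u.b := by
  obtain ⟨θ, θ0, hθ⟩ := exists_pure (K := K)
  have pu : ∀ {s : K}, σ s = s → σ (s * θ) = -(s * θ) := fun hs => by rw [map_mul, hs, hθ, mul_neg]
  have y0 : ∀ u : U K, (φ u).y = 0 → u.y = 0 := fun u e => by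
    simpa only [MulEquiv.symm_apply_apply, mem_As] using chr_mem (L := As) φ.symm e
  have hr : (φ (Xy 1)).y ≠ 0 := fun e => one_ne_zero (y0 _ e)
  have hγ : (φ (Xb θ hθ)).b ≠ 0 := fun e => θ0 (by
    simpa only [MulEquiv.symm_apply_apply, mem_Qs, UE] using chr_mem (L := Qs) φ.symm e)
  have γp := (φ (Xb θ hθ)).hb
  obtain ⟨f, f1, hF⟩ : ∃ f : K → K, f 1 = 1 ∧ ∀ u : U K, (φ u).y = (φ (Xy 1)).y * f u.y :=
    ⟨fun y => (φ (Xy y)).y / (φ (Xy 1)).y, div_self hr, fun u => by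
      rw [mul_div_cancel₀ _ hr]; exact aS_y φ rfl⟩
  have qb : ∀ y, (φ (Xy y)).b = 0 := fun y => chr_mem (L := Qs) φ rfl
  have hH : ∀ n ∈ Z2, ∀ x, n.w = x * θ → (φ n).w = (φ (Xy 1)).y * f x * (φ (Xb θ hθ)).b := fun n hn x e => by
    rw [aS_w φ hn (cm_S_S (Xy x) (Xb θ hθ)) (by simp only [cm_w, UE, e]), aS_cm, cm_w, qb, hF (Xy x)]
    simp only [UE]
  generalize (φ (Xy 1)).y = r at hr hF hH
  generalize (φ (Xb θ hθ)).b = γ at hγ γp hH
  have r' := σ_ne_zero hr
  have fa : ∀ x y, f (x + y) = f x + f y := fun x y => by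
    have := hF (Xy x * Xy y)
    rw [map_mul] at this
    simp only [UE, hF] at this
    exact mul_left_cancel₀ hr (by linear_combination -this)
  have f0 : ∀ y, f y = 0 → y = 0 := fun y e => y0 (Xy y) (by simp only [hF, UE, e])
  have key : ∀ s (hs : σ s = s) y, f (s * y) * γ = f y * (φ (Xb (s * θ) (pu hs))).b := fun s hs y => by
    have := hH _ (cm_S_S (Xy y) (Xb _ (pu hs))) (s * y) (by simp only [cm_w, UE]; ring)
    rw [aS_cm, cm_w, qb, hF] at this
    simp only [UE] at this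
    exact mul_left_cancel₀ hr (by linear_combination -this)
  have hG : ∀ s (hs : σ s = s), (φ (Xb (s * θ) (pu hs))).b = f s * γ := fun s hs => by
    have := key s hs 1
    rw [mul_one, f1, one_mul] at this
    exact this.symm
  have fm : ∀ s y, σ s = s → f (s * y) = f s * f y := fun s y hs =>
    mul_right_cancel₀ hγ (by rw [key s hs, hG s hs]; ring)
  have fk : ∀ s, σ s = s → σ (f s) = f s := fun s hs => by
    have := (φ (Xb (s * θ) (pu hs))).hb
    rw [hG s hs, map_mul, γp] at this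
    exact mul_right_cancel₀ hγ (by linear_combination -this)
  have hJ : ∀ x (h : σ (x + σ x) = x + σ x), (φ (Xc _ (pu h))).c = γ * (r * σ r) * (f x + σ (f x)) := fun x h => by
    have z2 : Xw (x * θ) ∈ Z2 := ⟨rfl, rfl⟩
    rw [show Xc _ (pu h) = cm (Xy 1) (Xw (x * θ)) by ext <;> simp only [cm, UE, hθ] <;> ring, aS_cm,
      cm_c2 _ (chr_mem φ z2), hH _ z2 x rfl, hF]
    simp only [UE, f1, γp]
    ring
  obtain ⟨κ, hκ, hJ'⟩ : ∃ κ, σ κ = κ ∧ ∀ s (hs : σ s = s), (φ (Xc _ (pu hs))).c = γ * (r * σ r) * (κ * f s) :=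
    ⟨f τ + σ (f τ), by simp only [UE]; ring, fun s hs => by
      have e : s * τ + σ (s * τ) = s := by simp only [UE, hs]; ring
      have := hJ (s * τ) (by rw [e, hs])
      simp only [e] at this
      rw [this, fm _ _ hs, map_mul, fk s hs]
      ring⟩
  have hn : ∀ y, κ * f (y * σ y) = f y * σ (f y) := by
    by_cases g2 : G2 K
    · obtain ⟨s, hs, s0, s1⟩ := g2
      have hE : ∀ s, σ s = s → ∃ m, ∀ y, (φ (Xw (s * y * θ))).c + γ * (r * σ r) * (κ * (f s * f (y * σ y))) =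
          σ (r * f y) * m - r * f y * σ m + r * f y * σ (r * f y) * (f s * γ) := fun s hs =>
        ⟨(φ (Xb _ (pu hs))).w, fun y => by
          have h1 : σ (s * (y * σ y)) = s * (y * σ y) := by simp only [UE, hs]; ring
          have := congrArg (fun u => (φ u).c) (show Xw (s * y * θ) * Xc _ (pu h1) = cm (Xy y) (Xb _ (pu hs)) by
            ext <;> simp only [cm, UE, hθ, hs] <;> ring)
          rwa [map_mul, (mulA (chr_mem (L := As) φ rfl)).2.2, hJ' _ h1, fm _ _ hs, aS_cm,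
            cm_cA _ (chr_mem (L := As) φ rfl), hG s hs, hF] at this⟩
      obtain ⟨m, h1⟩ := hE s hs
      obtain ⟨m', h2⟩ := hE 1 (map_one _)
      intro y
      have n : ∀ y, f (s * y * σ (s * y)) = f s * (f s * f (y * σ y)) := fun y => by
        rw [← fm _ _ hs, ← fm _ _ hs, map_mul, hs]
        congr 1
        ring
      have a1 := h1 y
      have a2 := h1 (s * y)
      have a3 := h2 (s * y)
      have a4 := h2 (s * (s * y))
      simp only [n] at a2 a3 a4
      simp only [one_mul, f1, fm _ _ hs, map_mul, fk s hs] at a1 a2 a3 a4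
      have g0 : f s ≠ 0 := fun e => s0 (f0 s e)
      have g1 : f s - 1 ≠ 0 := fun e => s1 (sub_eq_zero.1 (f0 _ (by
        have := fa (s - 1) 1
        rw [sub_add_cancel, f1] at this
        linear_combination e - this)))
      refine mul_left_cancel₀ (mul_ne_zero (mul_ne_zero hγ (mul_ne_zero hr r'))
        (pow_ne_zero 2 (mul_ne_zero g0 g1))) ?_
      linear_combination a4 - a2 - f s * a3 + f s * a1
    · have k1 : ∀ s : K, σ s = s → s ≠ 0 → s = 1 := fun s hs s0 => by_contra fun s1 => g2 ⟨s, hs, s0, s1⟩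
      obtain rfl := k1 κ hκ fun e => θ0 (by
        have z1 := mem_Z1.1 (chr_mem (L := Z1) φ (x := Xc _ (pu (map_one σ))) ⟨rfl, rfl, rfl⟩)
        have : φ (Xc _ (pu (map_one σ))) = 1 := U.ext z1.1 z1.2.1 z1.2.2 (by rw [hJ' 1 (map_one σ), e]; simp only [UE])
        simpa only [UE] using congrArg U.c ((map_eq_one_iff φ φ.injective).1 this))
      intro y
      by_cases h : y = 0
      · have : f 0 = 0 := by simpa using fa 0 0
        simp only [h, UE, this]
      · have := mt (f0 y) h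
        rw [k1 (y * σ y) (by simp only [UE]; ring) (mul_ne_zero h (σ_ne_zero h)), f1, one_mul,
          k1 (f y * σ (f y)) (by simp only [UE]; ring) (mul_ne_zero this (σ_ne_zero this))]
  obtain rfl : κ = 1 := by simpa only [UE, f1] using hn 1
  obtain ⟨g, hg⟩ := exists_ringEquiv fa f1 fm (fun x => by
    have h : σ (x + σ x) = x + σ x := by simp only [UE]; ring
    have := (hJ' _ h).symm.trans (hJ x h)
    rw [one_mul] at this
    exact mul_left_cancel₀ (mul_ne_zero hγ (mul_ne_zero hr r')) this) fun y => by rw [← hn, one_mul]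
  have g0 : g θ ≠ 0 := (map_ne_zero g).2 θ0
  obtain ⟨t, ht⟩ := exists_nrm (s := γ / g θ) (by rw [map_div₀, ← fσ, hθ, γp, map_neg, neg_div_neg_eq])
  refine ⟨Units.mk0 r hr, Units.mk0 t fun e => div_ne_zero hγ g0 (by rw [← ht, e, zero_mul]), g, fun u =>
    ⟨by rw [hF, hg]; rfl, ?_⟩⟩
  have hs : σ (u.b / θ) = u.b / θ := by rw [map_div₀, u.hb, hθ, neg_div_neg_eq]
  rw [aS_b φ (v := Xb _ (pu hs)) (div_mul_cancel₀ _ θ0).symm, hG _ hs, hg, Units.val_mk0, ht, map_div₀]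
  ring

variable (K) in
/-- The kernel of the action on `S / Z2`. -/
def OS : Subgroup (MulAut (U K)) where
  carrier := {φ | ∀ u, (φ u).y = u.y ∧ (φ u).b = u.b}
  one_mem' _ := ⟨rfl, rfl⟩
  mul_mem' {_ β} hα hβ u := ⟨(hα (β u)).1.trans (hβ u).1, (hα (β u)).2.trans (hβ u).2⟩
  inv_mem' {α} hα u := by
    have := hα (α⁻¹ u)
    rw [MulAut.apply_inv_self] at this
    exact ⟨this.1.symm, this.2.symm⟩

instance OS.normal : (OS K).Normal := by
  refine ⟨fun β hβ α u => ?_⟩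
  have h1 := aS_y α (hβ (α⁻¹ u)).1
  have h2 := aS_b α (hβ (α⁻¹ u)).2
  rw [MulAut.apply_inv_self] at h1 h2
  exact ⟨h1, h2⟩

variable (p) in
/-- The chain `⊥ < Z1 < Z2 < ⊤`; `n ∈ Z2` is `cm (Xy (n.w / θ)) (Xb θ)` modulo `Z1`. -/
theorem isPGroup_OS : IsPGroup p (OS K) := by
  obtain ⟨θ, θ0, hθ⟩ := exists_pure (K := K)
  refine AC.isPGroup_of_coprime fun φ hφ ho => ?_
  have hy : ∀ u, (φ u).y = u.y := fun u => (hφ u).1
  have hb : ∀ u, (φ u).b = u.b := fun u => (hφ u).2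
  have hw : ∀ n ∈ Z2, (φ n).w = n.w := fun n hn => by
    have e : n.w = (cm (Xy (n.w / θ)) (Xb θ hθ)).w := by simp only [cm_w, UE, div_mul_cancel₀ _ θ0]
    rw [aS_w φ hn (cm_S_S _ _) e, aS_cm, cm_w, hy, hy, hb, hb, ← cm_w, ← e]
  have hc : ∀ z ∈ Z1, φ z = z := fun z hz => by
    obtain ⟨n, hn, e⟩ := exists_cm_Z2 (g := Xy (1 : K)) one_ne_zero hz
    have h1 := mem_Z1.1 (chr_mem φ hz)
    have h2 := mem_Z1.1 hz
    have h3 : (φ z).c = z.c := by rw [← e, aS_cm, cm_c2 _ (chr_mem φ hn), cm_c2 _ hn, hy, hw _ hn]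
    ext <;> simp only [h1, h2, h3]
  refine AC.eq_one_of_chain (isPGroup_U p) ho
    (fun i => match i with | 0 => ⊥ | 1 => Z1 | 2 => Z2 | _ => ⊤) 3 rfl
    bot_le (fun i hi x hx => ?_) fun i hi y h => ?_
  · interval_cases i
    · exact (mem_bot.1 hx) ▸ mem_bot.2 (map_one φ)
    · exact chr_mem (L := Z1) φ hx
    · exact chr_mem (L := Z2) φ hx
  · interval_cases i
    · exact mem_bot.2 (by rw [hc y h, inv_mul_cancel])
    · have h1 := mem_Z2.1 (chr_mem (L := Z2) φ h)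
      have h2 := mem_Z2.1 h
      change _ ∈ Z1
      simp only [mem_Z1, UE, h1, h2, hw y h, true_and]
      ring
    · change _ ∈ Z2
      simp only [mem_Z2, UE, hy, hb, neg_add_cancel, and_self]

theorem exists_form (h : SA p A₀) : ∃ γ : MulAut (U K), Form (A₀.map (MulAut.conj γ).toMonoidHom) := by
  have : (MulAut.conj (G := U K)).range.Normal := ⟨by
    rintro _ ⟨g, rfl⟩ α
    exact ⟨α g, MulEquiv.ext fun x => by simp⟩⟩
  obtain ⟨γ, hγ⟩ := sz (T := TF K) (isPGroup_OS p) (fun φ => by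
    obtain ⟨a, b, f, e⟩ := autS φ
    refine ⟨φ * (tf a b f)⁻¹, fun u => ?_, _, ⟨a, b, f, rfl⟩, by group⟩
    have h1 := e ((tf a b f)⁻¹ u)
    have h2 := MulAut.apply_inv_self _ (tf a b f) u
    exact ⟨h1.1.trans (congrArg U.y h2), h1.2.trans (congrArg U.b h2)⟩)
    (by rintro _ ⟨g, rfl⟩; exact h.conj g) h.syl
  refine ⟨γ, ?_⟩
  rintro _ ⟨φ, hφ, rfl⟩
  obtain ⟨_, ⟨g, rfl⟩, _, ⟨a, b, f, rfl⟩, e⟩ := hγ φ hφ
  exact ⟨g, a, b, f, e⟩

end Cfsg.Agent.U4F
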