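import Cfsg.Agent.U4F.U

/-!
Fusion systems on the Sylow `p`-subgroup of `SU₄(q)`: the automizers of `S`, `Q`, `A`.

`SA`, `Lc`, `Tn`, `St`, `Ker`, `sz`, `fc`, `inv_pres`, `afn_res`, `afn_dv`, `res_conj`, `chr_mem` come from `U5F/Gen`.
`tf r t f` applies the field automorphism `f` and scales `y` by `r`, `b` by `t σ t`, `w` by `r t σ t`, `c` by `r σ r t σ t`;
`h1 d`, `g2 e` (`e ∈ k`) generate the torus `T0` of `SU₄(q)`; `rQ φ`, `rA φ` are the restrictions, `cQ g`, `cA g` the restricted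
conjugations, `ω0`, `ψA` the involutory reflections, `ωQ = ω0 * rQ (g2 ϑ)` the reflection in `SU₄(q)`.  `OQ` is the kernel of
the action on `Q/Z1` (coordinates `y w`).  `zk κ` and `un n` are automorphisms of `S` trivial on `Q`, resp. `A`.
-/

set_option autoImplicit false
set_option linter.unusedSectionVars false
set_option linter.unusedSimpArgs false

namespace Cfsg.Agent.U4F

open Subgroup Cfsg.Agent.RFS Cfsg.Agent.Fus Cfsg.Agent.U5F

variable {K : Type*} [Field K] [Cj K]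

theorem mem_As_of_comm {y : U K} (h : ∀ w, y * Xw w = Xw w * y) : y ∈ As := eq_zero_of_real fun w => by
  have := cm_c2 y (n := Xw w) ⟨rfl, rfl⟩
  rw [cm_eq_one.2 (h w)] at this
  simp only [UE] at this
  grind

theorem mem_Z2_of_cm {y : U K} (h : ∀ g, (cm y g).w = 0) : y ∈ Z2 := by
  obtain ⟨θ, h0, hθ⟩ := exists_pure (K := K)
  have a := h (Xb θ hθ)
  have b := h (Xy 1)
  simp only [cm_w, UE, neg_eq_zero] at a b
  exact ⟨(mul_eq_zero.1 a).resolve_right h0, b⟩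

theorem mem_Z1_of_Q {y : U K} (hy : y ∈ Qs) (h : ∀ g ∈ Qs, y * g = g * y) : y ∈ Z1 := by
  refine ⟨mem_As_of_comm fun _ => h _ rfl, hy, eq_zero_of_real fun w => ?_⟩
  simpa only [hf, UE] using (com_Q hy (h := Xy w) rfl).1 (h _ rfl)

instance chr_Z1 : (Z1 : Subgroup (U K)).Characteristic := char_of_cm (L := ⊤) (M := ⊥) fun y => by
  simp only [mem_bot, cm_eq_one]
  exact ⟨fun h g _ => (com_Z1 g h).symm, fun h =>
    mem_Z1_of_Q (mem_Z2_of_cm fun g => by rw [cm_eq_one.2 (h g trivial)]; rfl).2 fun g _ => h g trivial⟩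

instance chr_Z2 : (Z2 : Subgroup (U K)).Characteristic := char_of_cm (L := ⊤) (M := Z1) fun _ =>
  ⟨fun h g _ => cm_comm (cm_S_Z2 g h), fun h => mem_Z2_of_cm fun g => (h g trivial).2.2⟩

instance chr_As : (As : Subgroup (U K)).Characteristic := char_of_cm (L := Z2) (M := ⊥) fun _ =>
  ⟨fun h _ hg => cm_eq_one.2 (com_As h hg.1), fun h => mem_As_of_comm fun _ => cm_eq_one.1 (h _ ⟨rfl, rfl⟩)⟩

instance chr_Qs : (Qs : Subgroup (U K)).Characteristic := char_of_ex (L := ⊤) (M := Z1) (N := As) fun g => by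
  refine ⟨fun h => ⟨trivial, fun u _ => ⟨Xy u.y, trivial, cm_Qs_Qs h rfl, by simp [mem_As, UE]⟩⟩, fun h => ?_⟩
  by_contra c
  refine not_all_pr (t := g.y) fun y => ?_
  obtain ⟨u, -, h1, h2⟩ := h.2 (Xy y) trivial
  have h3 := h1.2.2
  simp only [cm_w, mem_As, UE] at h2 h3
  have c' : g.b ≠ 0 := c
  refine ⟨u.b / g.b, by simp only [UE]; field_simp, ?_⟩
  field_simp
  grind

theorem chQ_Z1 : Ch (Qs : Subgroup (U K)) Z1 := Ch.top.of_cen fun _ hy =>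
  ⟨fun h g _ _ => (com_Z1 g h).symm, fun h => mem_Z1_of_Q hy fun g hg => h g hg trivial⟩

/-- The kernel of the action on `Q / Z1`. -/
def OQ (K : Type*) [Field K] [Cj K] : Subgroup (MulAut (Qs : Subgroup (U K))) := Ker Qs Z1 chQ_Z1

instance : (OQ K).Normal := Ker.normal _ _ _

theorem dv_Z1 {u v : U K} (hu : u ∈ Qs) (hv : v ∈ Qs) : u⁻¹ * v ∈ Z1 ↔ v.y = u.y ∧ v.w = u.w := by
  simp only [mem_Z1, UE, mem_Qs.1 hu, mem_Qs.1 hv]
  grind

theorem mem_OQ {α : MulAut (Qs : Subgroup (U K))} : α ∈ OQ K ↔ ∀ x ∈ Qs, (afn α x).y = x.y ∧ (afn α x).w = x.w :=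
  forall₂_congr fun _ hx => dv_Z1 hx (afn_mem α hx)

/-- The coordinates of `α u` modulo `Z1` depend only on those of `u`. -/
theorem congQ (α : MulAut (Qs : Subgroup (U K))) {u v : U K} (hu : u ∈ Qs) (hv : v ∈ Qs) (h : v.y = u.y ∧ v.w = u.w) :
    (afn α v).y = (afn α u).y ∧ (afn α v).w = (afn α u).w := by
  rw [← dv_Z1 (afn_mem α hu) (afn_mem α hv), ← afn_dv α hu hv]
  exact chQ_Z1 α _ (mul_mem (inv_mem hu) hv) ((dv_Z1 hu hv).2 h)

/-- Restriction to `Q`. -/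
abbrev rQ : MulAut (U K) →* MulAut (Qs : Subgroup (U K)) := MulAut.characteristic Qs
/-- Restriction to `A`. -/
abbrev rA : MulAut (U K) →* MulAut (As : Subgroup (U K)) := MulAut.characteristic As
/-- Conjugation on `Q`. -/
abbrev cQ (g : U K) : MulAut (Qs : Subgroup (U K)) := rQ (MulAut.conj g)
/-- Conjugation on `A`. -/
abbrev cA (g : U K) : MulAut (As : Subgroup (U K)) := rA (MulAut.conj g)

theorem afn_cQ (g : U K) {x : U K} (hx : x ∈ Qs) : afn (cQ g) x = g * x * g⁻¹ := afn_res _ hx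
theorem afn_cA (g : U K) {x : U K} (hx : x ∈ As) : afn (cA g) x = g * x * g⁻¹ := afn_res _ hx

/-- The action of `S` on `Q / Z1`. -/
theorem cjQ (g : U K) {u : U K} (hu : u ∈ Qs) : (afn (cQ g) u).y = u.y ∧ (afn (cQ g) u).w = u.w - g.b * u.y := by
  rw [afn_cQ g hu]
  simp only [UE, mem_Qs.1 hu]
  exact ⟨by ring, by ring⟩

/-- The action of `S` on `A`. -/
theorem cjA (g : U K) {u : U K} (hu : u ∈ As) : (afn (cA g) u).b = u.b ∧ (afn (cA g) u).w = u.w + g.y * u.b ∧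
    (afn (cA g) u).c = u.c + σ g.y * u.w - g.y * σ u.w + g.y * σ g.y * u.b := by
  rw [afn_cA g hu]
  simp only [UE, mem_As.1 hu]
  exact ⟨by ring, by ring, by ring⟩

theorem cQ_Z1 (g : U K) {z : U K} (hz : z ∈ Z1) : afn (cQ g) z = z := by
  rw [afn_cQ g hz.2.1, com_Z1 g hz, mul_inv_cancel_right]

theorem cA_Z1 (g : U K) {z : U K} (hz : z ∈ Z1) : afn (cA g) z = z := by
  rw [afn_cA g hz.1, com_Z1 g hz, mul_inv_cancel_right]

/-- On `A` the coordinates are additive. -/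
theorem mulA {u v : U K} (hu : u ∈ As) : (u * v).b = u.b + v.b ∧ (u * v).w = u.w + v.w ∧ (u * v).c = u.c + v.c := by
  simp only [UE, mem_As.1 hu, and_self]

theorem extA' {u v : U K} (hu : u ∈ As) (hv : v ∈ As) (h : u.b = v.b ∧ u.w = v.w ∧ u.c = v.c) : u = v :=
  U.ext (hu.trans hv.symm) h.1 h.2.1 h.2.2

theorem cA_mul (g h : U K) : cA (g * h) = cA g * cA h := by rw [cA, map_mul, map_mul]

theorem cA_congr {g h : U K} (e : g.y = h.y) : cA g = cA h := aut_ext fun x hx =>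
  extA' (afn_mem _ hx) (afn_mem _ hx) (by simp only [cjA _ hx, e, and_self])

/-- The torus and the field automorphisms. -/
def tfn (r t : K) (f : K ≃+* K) (u : U K) : U K where
  y := r * f u.y
  b := t * σ t * f u.b
  w := r * t * σ t * f u.w
  c := r * σ r * (t * σ t) * f u.c
  hb := by simp only [map_mul, σσ, ← fσ, u.hb, map_neg]; ring
  hc := by simp only [map_mul, σσ, ← fσ, u.hc, map_neg]; ring

theorem tfn_mul (r s : K) (f : K ≃+* K) (u v : U K) : tfn r s f (u * v) = tfn r s f u * tfn r s f v := by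
  ext <;> simp only [UE, tfn, map_add, map_sub, map_mul, fσ] <;> ring

theorem tfn_tfn (r s r' s' : K) (f f' : K ≃+* K) (u : U K) :
    tfn r s f (tfn r' s' f' u) = tfn (r * f r') (s * f s') (f * f') u := by
  ext <;> simp only [tfn, map_mul, fσ, RingAut.mul_apply] <;> ring

theorem tfn_one (u : U K) : tfn 1 1 (1 : K ≃+* K) u = u := by
  ext <;> simp [tfn]

/-- The torus and the field automorphisms. -/
def tf (r s : Kˣ) (f : K ≃+* K) : MulAut (U K) where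
  toFun := tfn r s f
  invFun := tfn (um f⁻¹ r⁻¹) (um f⁻¹ s⁻¹) f⁻¹
  left_inv u := by
    rw [tfn_tfn, um_val, um_val, ← map_mul, ← map_mul, inv_mul_cancel, Units.inv_mul, Units.inv_mul, map_one, tfn_one]
  right_inv u := by
    rw [tfn_tfn, um_val, um_val, ← RingAut.mul_apply, ← RingAut.mul_apply, mul_inv_cancel, RingAut.one_apply,
      RingAut.one_apply, Units.mul_inv, Units.mul_inv, tfn_one]
  map_mul' := tfn_mul _ _ f

theorem tf_apply (r s : Kˣ) (f : K ≃+* K) (u : U K) : tf r s f u = tfn (r : K) s f u := rfl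

theorem tf_mul (r s r' s' : Kˣ) (f f' : K ≃+* K) :
    tf r s f * tf r' s' f' = tf (r * um f r') (s * um f s') (f * f') := MulEquiv.ext (tfn_tfn _ _ _ _ f f')

theorem tf_one : tf (1 : Kˣ) 1 1 = 1 := MulEquiv.ext tfn_one

theorem tf_inv (r s : Kˣ) (f : K ≃+* K) : (tf r s f)⁻¹ = tf (um f⁻¹ r⁻¹) (um f⁻¹ s⁻¹) f⁻¹ := MulEquiv.ext fun _ => rfl

/-- Equalities in the torus. -/
theorem tf_congr {r s r' s' : Kˣ} {f : K ≃+* K} (h : (r : K) = r') (h' : (s : K) * σ (s : K) = s' * σ (s' : K)) :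
    tf r s f = tf r' s' f := MulEquiv.ext fun u => by
  ext <;> simp only [tf_apply, tfn, h, h', mul_assoc]

theorem tf_inj {r s r' s' : Kˣ} {f f' : K ≃+* K}
    (h : ∀ u, (tf r s f u).y = (tf r' s' f' u).y ∧ (tf r s f u).b = (tf r' s' f' u).b) :
    r = r' ∧ (s : K) * σ (s : K) = s' * σ (s' : K) ∧ f = f' := by
  obtain ⟨θ, h0, hθ⟩ := exists_pure (K := K)
  have a : ∀ t, (r : K) * f t = r' * f' t := fun t => (h (Xy t)).1
  obtain rfl : r = r' := Units.ext (by simpa using a 1)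
  obtain rfl : f = f' := RingEquiv.ext fun t => mul_left_cancel₀ r.ne_zero (a t)
  exact ⟨rfl, mul_right_cancel₀ ((map_ne_zero f).2 h0) (h (Xb θ hθ)).2, rfl⟩

/-- The group `H Φ`. -/
def TF (K : Type*) [Field K] [Cj K] : Subgroup (MulAut (U K)) where
  carrier := {φ | ∃ r s f, φ = tf r s f}
  one_mem' := ⟨1, 1, 1, tf_one.symm⟩
  mul_mem' := by rintro _ _ ⟨a, b, f, rfl⟩ ⟨a', b', f', rfl⟩; exact ⟨_, _, _, tf_mul ..⟩
  inv_mem' := by rintro _ ⟨a, b, f, rfl⟩; exact ⟨_, _, _, tf_inv ..⟩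

/-- The torus of `SL₂(q²)`: `y, b, w, c` have the weights `d², (d σ d)⁻¹, d / σ d, d σ d`. -/
def h1 (d : Kˣ) : MulAut (U K) := tf (d ^ 2) d⁻¹ 1

/-- The torus of `GU₂(q)`: `y, b, w, c` have the weights `μ⁻¹, μ σ μ, σ μ, 1`. -/
def g2 (μ : Kˣ) : MulAut (U K) := tf μ⁻¹ μ 1

theorem h12 (d μ : Kˣ) : h1 d * g2 μ = tf (d ^ 2 * μ⁻¹) (d⁻¹ * μ) 1 := tf_mul ..

theorem h1_one : h1 (1 : Kˣ) = 1 := by rw [← tf_one]; exact tf_congr (by simp) (by simp)

theorem g2_one : g2 (1 : Kˣ) = 1 := by rw [← tf_one]; exact tf_congr (by simp) (by simp)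

theorem h12_mul (d μ d' μ' : Kˣ) : h1 d * g2 μ * (h1 d' * g2 μ') = h1 (d * d') * g2 (μ * μ') := by
  simp only [h12, tf_mul]
  exact tf_congr (by simp only [UV, mul_inv]; ring) (by simp only [UV, UE, mul_inv]; ring)

theorem h1_mul (d d' : Kˣ) : h1 d * h1 d' = h1 (d * d') := by simpa only [g2_one, mul_one] using h12_mul d 1 d' 1

theorem g2_mul (d d' : Kˣ) : g2 d * g2 d' = g2 (d * d') := by simpa only [h1_one, mul_one, one_mul] using h12_mul 1 d 1 d'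

/-- The torus of `SU₄(q)`. -/
def T0 (K : Type*) [Field K] [Cj K] : Subgroup (MulAut (U K)) where
  carrier := {φ | ∃ d e : Kˣ, σ (e : K) = e ∧ φ = h1 d * g2 e}
  one_mem' := ⟨1, 1, map_one _, by rw [h1_one, g2_one, mul_one]⟩
  mul_mem' := by
    rintro _ _ ⟨a, b, h, rfl⟩ ⟨a', b', h', rfl⟩
    exact ⟨_, _, by simp only [UV, UE, h, h'], h12_mul ..⟩
  inv_mem' := by
    rintro _ ⟨a, b, h, rfl⟩
    exact ⟨a⁻¹, b⁻¹, by simp only [UV, UE, h],
      inv_eq_of_mul_eq_one_right (by rw [h12_mul, mul_inv_cancel, mul_inv_cancel, h1_one, g2_one, mul_one])⟩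

theorem h1_mem (d : Kˣ) : h1 d ∈ T0 K := ⟨d, 1, map_one _, by rw [g2_one, mul_one]⟩

theorem g2_mem {e : Kˣ} (h : σ (e : K) = e) : g2 e ∈ T0 K := ⟨1, e, h, by rw [h1_one, one_mul]⟩

/-- The reflection on `Q`. -/
def ω (u : U K) : U K := ⟨u.w, 0, u.y, u.c - σ u.y * u.w + σ u.w * u.y, by simp, by simp only [UE]; ring⟩

/-- The reflection on `A`. -/
def ψ (u : U K) : U K := ⟨0, u.c, -σ u.w, u.b, u.hc, u.hb⟩

theorem ω_mem (u : U K) : ω u ∈ Qs := rfl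

theorem ψ_mem (u : U K) : ψ u ∈ As := rfl

theorem ω_ω {u : U K} (hu : u ∈ Qs) : ω (ω u) = u := by
  ext <;> simp only [ω, UE, mem_Qs.1 hu] <;> ring

theorem ψ_ψ {u : U K} (hu : u ∈ As) : ψ (ψ u) = u := by
  ext <;> simp only [ψ, UE, mem_As.1 hu]

theorem ω_mul {u v : U K} (hv : v ∈ Qs) : ω (u * v) = ω u * ω v := by
  ext <;> simp only [ω, UE, mem_Qs.1 hv] <;> ring

theorem ψ_mul {u v : U K} (hu : u ∈ As) : ψ (u * v) = ψ u * ψ v := by
  ext <;> simp only [ψ, UE, mem_As.1 hu] <;> ring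

/-- The reflection on `Q` (in `GU₄(q)`). -/
def ω0 (K : Type*) [Field K] [Cj K] : MulAut (Qs : Subgroup (U K)) where
  toFun x := ⟨ω x, ω_mem _⟩
  invFun x := ⟨ω x, ω_mem _⟩
  left_inv x := Subtype.ext (ω_ω x.2)
  right_inv x := Subtype.ext (ω_ω x.2)
  map_mul' _ y := Subtype.ext (ω_mul y.2)

/-- The reflection on `A`. -/
def ψA (K : Type*) [Field K] [Cj K] : MulAut (As : Subgroup (U K)) where
  toFun x := ⟨ψ x, ψ_mem _⟩
  invFun x := ⟨ψ x, ψ_mem _⟩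
  left_inv x := Subtype.ext (ψ_ψ x.2)
  right_inv x := Subtype.ext (ψ_ψ x.2)
  map_mul' x _ := Subtype.ext (ψ_mul x.2)

theorem afn_ω0 {x : U K} (hx : x ∈ Qs) : afn (ω0 K) x = ω x := by rw [afn_apply _ hx]; rfl
theorem afn_ψA {x : U K} (hx : x ∈ As) : afn (ψA K) x = ψ x := by rw [afn_apply _ hx]; rfl

theorem ω0_sq : ω0 K * ω0 K = 1 := MulEquiv.ext (ω0 K).left_inv
theorem ψA_sq : ψA K * ψA K = 1 := MulEquiv.ext (ψA K).left_inv
theorem ω0_inv : (ω0 K)⁻¹ = ω0 K := inv_eq_of_mul_eq_one_left ω0_sq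
theorem ψA_inv : (ψA K)⁻¹ = ψA K := inv_eq_of_mul_eq_one_left ψA_sq

/-- A pure unit. -/
noncomputable def ϑ : Kˣ := Units.mk0 _ (exists_pure (K := K)).choose_spec.1

theorem σϑ : σ ((ϑ : Kˣ) : K) = -(ϑ : Kˣ) := (exists_pure (K := K)).choose_spec.2

/-- The reflection on `Q` in `SU₄(q)`: `(y, w) ↦ (-ϑ w, ϑ⁻¹ y)`. -/
noncomputable def ωQ (K : Type*) [Field K] [Cj K] : MulAut (Qs : Subgroup (U K)) := ω0 K * rQ (g2 ϑ)

theorem afn_ωQ {x : U K} (hx : x ∈ Qs) : afn (ωQ K) x = ω (g2 ϑ x) := by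
  rw [ωQ, afn_mul _ _ hx, afn_res _ hx, afn_ω0 (chr_mem _ hx)]

theorem ω0_tf (r s : Kˣ) (f : K ≃+* K) : ω0 K * rQ (tf r s f) * ω0 K = rQ (tf (r * s * σu s) s⁻¹ f) := by
  refine aut_ext fun x hx => ?_
  have a1 := ω_mem x
  rw [afn_mul _ _ hx, afn_ω0 hx, afn_mul _ _ a1, afn_ω0 (afn_mem _ a1), afn_res _ hx, afn_res _ a1]
  have h1 := s.ne_zero
  have h2 := σu_ne s
  ext <;> simp only [ω, UE, UV, tf_apply, tfn, map_add, map_sub, map_neg, map_mul, map_zero, fσ, mem_Qs.1 hx] <;> field_simp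
  ring

theorem ψA_tf (r s : Kˣ) (f : K ≃+* K) : ψA K * rA (tf r s f) * ψA K = rA (tf r⁻¹ (r * s) f) := by
  refine aut_ext fun x hx => ?_
  have a1 := ψ_mem x
  rw [afn_mul _ _ hx, afn_ψA hx, afn_mul _ _ a1, afn_ψA (afn_mem _ a1), afn_res _ hx, afn_res _ a1]
  have h1 := r.ne_zero
  have h2 := σu_ne r
  ext <;> simp only [ψ, UE, UV, tf_apply, tfn, map_add, map_sub, map_neg, map_mul, map_zero, fσ, mem_As.1 hx] <;> field_simp

theorem ω0_g2 (μ : Kˣ) : ω0 K * rQ (g2 μ) * ω0 K = rQ (g2 (σu μ)⁻¹) := by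
  have := μ.ne_zero
  have := σu_ne μ
  rw [g2, g2, ω0_tf]
  exact congrArg _ (tf_congr (by simp only [UV, UE]; field_simp) (by simp only [UV, UE]; field_simp))

theorem ω_rel {b : Kˣ} (h : σ (b : K) = -b) {h'} :
    ω0 K * cQ (Xb (b : K) h) * ω0 K = cQ (Xb (b : K)⁻¹ h') * (ω0 K * rQ (g2 b)) * cQ (Xb (b : K)⁻¹ h') := by
  refine aut_ext fun x hx => ?_
  have n := fun (g : U K) {y} (hy : y ∈ Qs) => (inferInstance : (Qs : Subgroup (U K)).Normal).conj_mem y hy g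
  rw [afn_mul _ _ hx, afn_ω0 hx, afn_mul _ _ (ω_mem _), afn_cQ _ (ω_mem _), afn_ω0 (n _ (ω_mem _)), afn_mul _ _ hx, afn_cQ _ hx,
    afn_mul _ _ (n _ hx), afn_mul _ _ (n _ hx), afn_res _ (n _ hx), afn_ω0 (chr_mem _ (n _ hx)), afn_cQ _ (ω_mem _)]
  have h1 := b.ne_zero
  ext <;> simp only [ω, UE, UV, g2, tf_apply, tfn, mem_Qs.1 hx, h] <;> field_simp <;> ring

theorem ψ_rel (y : Kˣ) :
    ψA K * cA (Xy (y : K)) * ψA K = cA (Xy (y : K)⁻¹) * (ψA K * rA (h1 y * g2 (-1))) * cA (Xy (y : K)⁻¹) := by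
  refine aut_ext fun x hx => ?_
  have n := fun (g : U K) {y} (hy : y ∈ As) => (inferInstance : (As : Subgroup (U K)).Normal).conj_mem y hy g
  rw [afn_mul _ _ hx, afn_ψA hx, afn_mul _ _ (ψ_mem _), afn_cA _ (ψ_mem _), afn_ψA (n _ (ψ_mem _)), afn_mul _ _ hx, afn_cA _ hx,
    afn_mul _ _ (n _ hx), afn_mul _ _ (n _ hx), afn_res _ (n _ hx), afn_ψA (chr_mem _ (n _ hx)), afn_cA _ (ψ_mem _), h12]
  have h1 := y.ne_zero
  have h2 := σu_ne y
  ext <;> simp only [ψ, UE, UV, tf_apply, tfn, mem_As.1 hx] <;> field_simp <;> ring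

/-- A central automorphism, trivial on `Q`. -/
def zk (κ : K) (h : σ κ = κ) : MulAut (U K) where
  toFun u := ⟨u.y, u.b, u.w, u.c + κ * u.b, u.hb, by simp only [UE, h]; ring⟩
  invFun u := ⟨u.y, u.b, u.w, u.c - κ * u.b, u.hb, by simp only [UE, h]; ring⟩
  left_inv u := by ext <;> simp
  right_inv u := by ext <;> simp
  map_mul' u v := by ext <;> simp only [UE]; ring

theorem zk_apply (κ : K) (h : σ κ = κ) (u : U K) :
    (zk κ h u).y = u.y ∧ (zk κ h u).b = u.b ∧ (zk κ h u).w = u.w ∧ (zk κ h u).c = u.c + κ * u.b := ⟨rfl, rfl, rfl, rfl⟩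

/-- An automorphism which is trivial on `A`: `w ↦ w + 2 n σ y`. -/
def un (n : K) : MulAut (U K) where
  toFun u := ⟨u.y, u.b, u.w + 2 * n * σ u.y, u.c + n * σ u.y ^ 2 - σ n * u.y ^ 2, u.hb, by simp only [UE]; ring⟩
  invFun u := ⟨u.y, u.b, u.w - 2 * n * σ u.y, u.c - n * σ u.y ^ 2 + σ n * u.y ^ 2, u.hb, by simp only [UE]; ring⟩
  left_inv u := by ext <;> simp only <;> ring
  right_inv u := by ext <;> simp only <;> ring
  map_mul' u v := by ext <;> simp only [UE, map_ofNat] <;> ring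

theorem un_apply (n : K) (u : U K) : (un n u).y = u.y ∧ (un n u).b = u.b ∧ (un n u).w = u.w + 2 * n * σ u.y ∧
    (un n u).c = u.c + n * σ u.y ^ 2 - σ n * u.y ^ 2 := ⟨rfl, rfl, rfl, rfl⟩

/-- Every element of `A₀` is inner times an element of `H Φ`. -/
def Form (A₀ : Subgroup (MulAut (U K))) : Prop := ∀ φ ∈ A₀, ∃ (g : U K) (r s : Kˣ) (f : K ≃+* K), φ = MulAut.conj g * tf r s f

/-- `α` preserves `Z2`. -/
def PQ (α : MulAut (Qs : Subgroup (U K))) : Prop := ∀ x ∈ Z2, afn α x ∈ Z2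

/-- `α` preserves `Z1` and `Z2`. -/
def PA (α : MulAut (As : Subgroup (U K))) : Prop := (∀ x ∈ Z1, afn α x ∈ Z1) ∧ ∀ x ∈ Z2, afn α x ∈ Z2

/-- `α` maps `Z1` into `{w = 0, c = κ b}` and `Z2` into `{c = κ b}`. -/
def Std (κ : K) (α : MulAut (As : Subgroup (U K))) : Prop :=
  (∀ x ∈ Z1, (afn α x).w = 0) ∧ ∀ x ∈ Z2, (afn α x).c = κ * (afn α x).b

/-- `q > 2`. -/
def G2 (K : Type*) [Field K] [Cj K] : Prop := ∃ s : K, σ s = s ∧ s ≠ 0 ∧ s ≠ 1

/-- `q > 3`. -/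
def G3 (K : Type*) [Field K] [Cj K] : Prop := ∃ s : K, σ s = s ∧ s ≠ 0 ∧ s ^ 2 ≠ 1

theorem G3.g2 (h : G3 K) : G2 K := let ⟨s, a, b, c⟩ := h; ⟨s, a, b, fun e => c (by rw [e, one_pow])⟩

end Cfsg.Agent.U4F
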