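import Cfsg.Agent.U4F.Def

/-!
Dickson's lemma.
Read the headers and signatures of `U4F/U`, `U4F/Def`, `U5F/Gen`.  `k` is the fixed field of `σ`, "pure" is `σ b = -b`, `N t = t * σ t`,
`ι` is from `exists_ι`, `θ` from `exists_pure`.  Tools: `simp only [mem_X, UE, UV, h..]` then `ring`, `field_simp`, `grind`; `afn_mul`,
`afn_mem`, `afn_cm`, `afn_dv`, `afn_res`, `afn_inv_afn`, `cjQ`, `cjA`, `congQ`, `mem_OQ`, `com_Q`, `mulA`, `extA'`, `eq_zero_of_real`,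
`exists_pr`, `surj_pure`, `exists_ne_of_pure`.
-/

set_option autoImplicit false
set_option linter.unusedSectionVars false
set_option linter.unusedSimpArgs false

namespace Cfsg.Agent.U4F

open Subgroup Cfsg.Agent.RFS Cfsg.Agent.Fus Cfsg.Agent.U5F

variable {K : Type*} [Field K] [Cj K]

namespace Dik

/-- `Ψ` -/
def P (m η z : K) : K := m * z + η * σ z

theorem ind {m η α β : K} (h0 : η ≠ 0) (h : ∀ t, α * t + β * P m η t = 0) : α = 0 ∧ β = 0 := by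
  obtain ⟨ι, hι⟩ := exists_ι (K := K)
  have a := h 1
  have b := h ι
  simp only [P, UE] at a b
  have e : β * η * (σ ι - ι) = 0 := by linear_combination b - ι * a
  have c := (mul_eq_zero.1 ((mul_eq_zero.1 e).resolve_right (sub_ne_zero.2 hι))).resolve_right h0
  exact ⟨by linear_combination a - (m + η) * c, c⟩

theorem ex {m η α β : K} (h0 : η ≠ 0) (h : β ≠ 0) : ∃ t, α * t + β * P m η t ≠ 0 := by
  by_contra! c
  exact h (ind h0 c).2

end Dik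

open Dik in
/-- PROOF.  `ε z = η σ z`, `ε² = δ = N η ∈ k`, `Ψ = m + ε`; the maps `a₀ + a₁ ε` (`aᵢ ∈ k`) form a commutative ring; `x s = [[1, 0], [s, 1]]`,
`y r = [[1, r Ψ], [0, 1]]`.  Suppose `η ≠ 0`.  `Ψ` is injective (`h1` for `y 1`).  For `a' ∈ k`, `a' ≠ 0`: `Δ = (1 + a' m)² - a'² δ ≠ 0`; otherwise
`1 + a' Ψ` kills some `z ≠ 0` (`z = (1 + a' m) t - a' ε t` for `t = 1` or `t = ι`), and `y 1 ∘ x (2 a') ∘ y 1` has upper right entry `2 Ψ (1 + a' Ψ)`, so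
`1 + a' Ψ = 0` by `h1`, `a' η = 0`.  For `a, a' ∈ k` nonzero let `Λ = λ₀ + λ₁ ε = (1 + a Ψ) (1 + a' Ψ)⁻¹`:
`λ₀ = ((1 + a m) (1 + a' m) - a a' δ) / Δ`, `λ₁ = (a - a') / Δ`.  Write `Λ = μ₀ + λ₁ Ψ`, `μ₀ = λ₀ - λ₁ m`; `r₂ = -λ₁ / a`, `r₁ = -μ₀ - r₂ ≠ 0` (else
`Λ = μ₀ (1 + a Ψ)`, impossible for `a' ≠ 0`), `s₁ = a / r₁`.  `g = y r₁ ∘ x s₁ ∘ y r₂ ∘ x a' ∘ y 1` has upper right entry `0`, upper left entry `Λ`, lower
right entry `Λ⁻¹`.  By `h2'`, `1 = s Λ²`, so `2 λ₀ λ₁ = 0`.  Thus `(1 + a m) (1 + a' m) = a a' δ` for `a ≠ a'`.  Use the pairs `(s₀, 1)`, `(s₀, -1)` with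
`s₀` from `h3`: `(1 + s₀ m) (1 + m) = s₀ δ`, `(1 + s₀ m) (1 - m) = -s₀ δ`, so `1 + s₀ m = 0`, `δ = 0`. -/
theorem dickson (h2 : (2 : K) ≠ 0) (h3 : G3 K) {m η : K} (hm : σ m = m) {X : Set (K × K → K × K)}
    (hc : ∀ f ∈ X, ∀ g ∈ X, f ∘ g ∈ X) (hx : ∀ s, σ s = s → (fun v : K × K => (v.1, v.2 + s * v.1)) ∈ X)
    (hy : ∀ r, σ r = r → (fun v : K × K => (v.1 + r * (m * v.2 + η * σ v.2), v.2)) ∈ X)
    (h1 : ∀ g ∈ X, ∀ z, z ≠ 0 → (g (0, z)).1 = 0 → ∀ z', (g (0, z')).1 = 0)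
    (h2' : ∀ g ∈ X, (∀ z, (g (0, z)).1 = 0) → ∃ s, σ s = s ∧ ∀ y, (g (0, y)).2 = s * (g (y, 0)).1) : η = 0 := by
  by_contra h0
  obtain ⟨n, hn⟩ : ∃ n, n = η * σ η - m ^ 2 := ⟨_, rfl⟩
  have σn : σ n = n := by simp only [hn, UE, hm]; ring
  have σ2 : σ (2 : K) = 2 := map_ofNat _ 2
  have y1 := hy 1 (map_one _)
  have n0 : n ≠ 0 := fun e => by
    obtain ⟨t, ht⟩ := ex (m := m) (α := -2 * m) h0 one_ne_zero
    refine one_ne_zero (ind (m := m) (α := 0) h0 fun z => ?_).2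
    have := h1 _ y1 _ ht (by
      simp only [P, UE, hm, σ2]
      linear_combination t * e - t * hn) z
    simpa only [P, UE] using this
  have hΔ : ∀ a, σ a = a → a ≠ 0 → 1 + 2 * m * a - a ^ 2 * n ≠ 0 := fun a ha a0 e => by
    obtain ⟨t, ht⟩ := ex (m := m) (α := 1 + 2 * m * a) h0 (neg_ne_zero.2 a0)
    have := h1 _ (hc _ y1 _ (hc _ (hx (2 * a) (by simp only [UE, ha, σ2])) _ y1)) _ ht (by
      simp only [P, UE, hm, σ2, ha, Function.comp]
      subst hn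
      linear_combination 2 * (m * t + η * σ t) * e)
    refine mul_ne_zero (mul_ne_zero h2 a0) n0 (ind (m := m) (β := 2 + 4 * m * a) h0 fun z => ?_).1
    have := this z
    simp only [P, UE, hm, σ2, ha, Function.comp] at this ⊢
    subst hn
    linear_combination this
  have key : ∀ r₁ s₁ r₂ b : K, σ r₁ = r₁ → σ s₁ = s₁ → σ r₂ = r₂ → σ b = b →
      1 + r₂ * (1 + r₁ * s₁ * b * n) + r₁ = 0 →
      r₁ * s₁ + r₂ * (r₁ * s₁ + b + 2 * m * (r₁ * s₁) * b) + r₁ * b = 0 →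
      (r₁ * s₁ - b) * (1 + m * (r₁ * s₁ + b) - r₁ * s₁ * b * n) = 0 := by
    intro r₁ s₁ r₂ b k1 k2 k3 k4 c0 c1
    obtain ⟨s, -, hs⟩ := h2' _ (hc _ (hy r₁ k1) _ (hc _ (hx s₁ k2) _ (hc _ (hy r₂ k3) _
      (hc _ (hx b k4) _ y1)))) fun z => by
        simp only [UE, hm, k1, k2, k3, k4, Function.comp]
        subst hn
        linear_combination (norm := (simp only [P, UE, hm]; ring1))
          P m η z * c0 + P m η (P m η z) * c1
    obtain ⟨e0, e1⟩ := ind (m := m) (α := 1 + b ^ 2 * n - s * (1 + (r₁ * s₁) ^ 2 * n))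
      (β := 2 * (b + m * b ^ 2 - s * (r₁ * s₁ + m * (r₁ * s₁) ^ 2))) h0 fun t => by
        have := hs (t + (r₁ * s₁ + b) * P m η t + r₁ * s₁ * b * P m η (P m η t))
        simp only [P, UE, hm, k1, k2, k3, k4, Function.comp] at this
        subst hn
        linear_combination (norm := (simp only [P, UE, hm]; ring1)) this
          - s₁ * ((P m η t + b * P m η (P m η t)) * c0
            + (P m η (P m η t) + b * P m η (P m η (P m η t))) * c1)
          + s * b * ((P m η t + r₁ * s₁ * P m η (P m η t)) * c0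
            + (P m η (P m η t) + r₁ * s₁ * P m η (P m η (P m η t))) * c1)
    have e2 := (mul_eq_zero.1 e1).resolve_left h2
    linear_combination (r₁ * s₁ + m * (r₁ * s₁) ^ 2) * e0 - (1 + (r₁ * s₁) ^ 2 * n) * e2
  have main : ∀ a b : K, σ a = a → σ b = b → a ≠ 0 → b ≠ 0 → a ≠ b →
      1 + m * (a + b) - a * b * n = 0 := fun a b ha hb a0 b0 ab => by
    have d1 := hΔ a ha a0
    have d2 := hΔ b hb b0
    obtain ⟨u, hu⟩ : ∃ u, u = 1 + 2 * m * a - a ^ 2 * n := ⟨_, rfl⟩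
    obtain ⟨v, hv⟩ : ∃ v, v = 1 + 2 * m * b - b ^ 2 * n := ⟨_, rfl⟩
    have σu : σ u = u := by simp only [hu, UE, hm, ha, σ2, σn]
    have σv : σ v = v := by simp only [hv, UE, hm, hb, σ2, σn]
    rw [← hu] at d1
    rw [← hv] at d2
    have e : -b * u / (a * v) * (-a ^ 2 * v / (b * u)) = a := by field_simp
    have := key (-b * u / (a * v)) (-a ^ 2 * v / (b * u)) ((b - a) / (a * v)) b
      (by simp only [UE, ha, hb, σu, σv]) (by simp only [UE, ha, hb, σu, σv])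
      (by simp only [UE, ha, hb, σu, σv]) hb
      (by rw [e]; field_simp; rw [hu, hv]; ring) (by rw [e]; field_simp; rw [hu, hv]; ring)
    rw [e] at this
    exact (mul_eq_zero.1 this).resolve_left (sub_ne_zero.2 ab)
  obtain ⟨s, hs, s0, s1⟩ := h3
  have e1 := main s 1 hs (map_one _) s0 one_ne_zero fun e => s1 (by rw [e]; ring)
  have e2 := main s (-1) hs (by simp only [UE]) s0 (neg_ne_zero.2 one_ne_zero) fun e => s1 (by rw [e]; ring)
  refine mul_ne_zero (mul_ne_zero h2 s0) (mul_ne_zero h0 (σ_ne_zero h0)) ?_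
  subst hn
  linear_combination (m - 1) * e1 + (m + 1) * e2

end Cfsg.Agent.U4F
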