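import Cfsg.Agent.U4F.Abs

/-!
Essential subgroups inside `Qs` or not containing `Z2`.
Read the headers and signatures of `U4F/U`, `U4F/Def`, `U5F/Gen`, `U5F/Es`, `U4F/Abs`.  `k` is the fixed field of `σ`, "pure" is `σ b = -b`, `N t = t * σ t`,
`ι` is from `exists_ι`, `θ` from `exists_pure`.  Tools: `simp only [mem_X, UE, UV, h..]` then `ring`, `field_simp`, `grind`; `afn_mul`,
`afn_mem`, `afn_cm`, `afn_dv`, `afn_res`, `afn_inv_afn`, `cjQ`, `cjA`, `congQ`, `mem_OQ`, `com_Q`, `mulA`, `extA'`, `eq_zero_of_real`,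
`exists_pr`, `surj_pure`, `exists_ne_of_pure`.
-/

set_option autoImplicit false
set_option linter.unusedSectionVars false
set_option linter.unusedSimpArgs false

namespace Cfsg.Agent.U4F

open Subgroup Cfsg.Agent.RFS Cfsg.Agent.Fus Cfsg.Agent.U5F

variable {K : Type*} [Field K] [Cj K] {p : ℕ} [Fact p.Prime] {E : Subgroup (U K)}

theorem ep_Z1 (h : Ep E) : Z1 ≤ Zc E := by
  exact fun z hz => h.mem_Zc_of_comm fun g _ => com_Z1 g hz

theorem caseA (h : Ep E) (hA : E ≤ As) : E = As := by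
  exact hA.antisymm fun x hx => h.cen x fun y hy => com_As (hA hy) hx

/-- PROOF.  If `Z1 ≤ D = Dm E ⊤ ⊤` then `D = Z1` (`cm_Qs_Qs`), and `h.c1` shows `Qs ≤ E`.  Otherwise apply `ff0` with `C = Z1`, `B = Qs` (if `¬ Qs ≤ E`):
let `e ∈ E \ Z1` and suppose every `b ∈ Qs` commuting with `e` lies in `E`.  If `y = e.y ≠ 0`: `g = Xw (s y)` (`s ∈ k`) and
`g' = Xq (ι y) (-ι y σ e.w / σ y)` commute with `e` (`com_Q`), and `(cm g g').c = s (ι - σ ι) N y` is any pure element, so `Z1 ≤ D`.  If `e.y = 0`,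
`w = e.w ≠ 0`: `g = Xy (s w)`, `g' = Xw (ι w)`. -/
theorem caseQ (h : Ep E) (hp : IsPGroup p E) (hd : Disc p E) (hQ : E ≤ Qs) : E = Qs := by
  have ZE : Z1 ≤ E := fun z hz => (mem_Zc.1 (ep_Z1 h hz)).1
  refine hQ.antisymm (by_contra fun h0 => ff0 hp hd ZE h0 (fun b hb y hy => cm_Qs_Qs hb (hQ hy))
    (fun b _ c hc => com_Z1 b hc) fun e he eZ => by_contra fun k => h0 ?_)
  have k' : ∀ b ∈ Qs, σ (hf b e) = hf b e → b ∈ E := fun b hb c =>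
    by_contra fun n => k ⟨b, hb, n, (com_Q hb (hQ he)).2 c⟩
  suffices D : Z1 ≤ Dm E ⊤ ⊤ from fun x hx => h.c1 (ch_Dm Ch.top Ch.top)
    (nm_of_cm fun y hy => ZE (cm_Qs_Qs hx (hQ hy)))
    (fun y _ hy => com_Z1 x (Dm_le (fun a ha _ b hb _ => cm_Qs_Qs (hQ ha) (hQ hb)) hy))
    fun y hy => D (cm_Qs_Qs hx (hQ hy))
  intro z hz
  suffices ∃ g ∈ Qs, ∃ g' ∈ Qs, σ (hf g e) = hf g e ∧ hf g' e = 0 ∧ σ (hf g g') - hf g g' = z.c by
    obtain ⟨g, hg, g', hg', c, c', e⟩ := this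
    have k1 := cm_Qs_Qs hg hg'
    exact U.ext (k1.1.trans hz.1.symm) (k1.2.1.trans hz.2.1.symm) (k1.2.2.trans hz.2.2.symm)
      ((cm_cQ hg hg').trans e) ▸ mem_Dm (k' g hg c) trivial (k' g' hg' (by rw [c', map_zero])) trivial
  by_cases hy : e.y = 0
  · have w0 : e.w ≠ 0 := fun k => eZ ⟨hy, hQ he, k⟩
    have := σ_ne_zero w0
    refine ⟨Xy e.w, rfl, Xw (z.c * (1 - τ) / σ e.w), rfl, ?_, ?_, ?_⟩ <;> simp only [hf, UE, hy] <;>
      field_simp <;> ring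
  · have := σ_ne_zero hy
    refine ⟨Xw e.y, rfl, Xq (z.c * (1 - τ) / σ e.y) (-(z.c * (1 - τ) / σ e.y) * σ e.w / σ e.y), rfl,
      ?_, ?_, ?_⟩ <;> simp only [hf, UE] <;> field_simp <;> ring

/-- PROOF.  Suppose not.  If `Zc E ≤ As` then `h.c1 (ch_Zc E)` gives `Z2 ≤ E`.  So there is `e₀ ∈ Zc E`, `y₀ = e₀.y ≠ 0`; `y₀ g.b = g.y e₀.b` for `g ∈ E`
(`cm_w`), so `b₀ = e₀.b ≠ 0` and `(g.y, g.b) = s (y₀, b₀)`, `s = g.b / b₀ ∈ k`.  `C0 y₀ ≤ E` (`com_C0`, `h.cen`), and `g ∈ E`, `g.b = 0` gives `g ∈ C0 y₀`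
(`cm_c2`).  `E` is abelian: with `I w = σ y₀ w - y₀ σ w`, commuting with `e₀` gives `I g.w = s I e₀.w + (s² - s) N y₀ b₀`, and this makes the `c`
coordinates of `g h`, `h g` equal.  Apply `pearl` with `Z = Z1`, `C = C0 y₀`, `B = Z2`.  `hc`: `g ↦ Xc g.b _` is a homomorphism `E → Z1` with kernel
in `C`.  `h3`: `exists_cm_Z2`, `cm_swap`.  `h4`: `x = Xy (d.w / e.b) * n`; `x.y σ y₀` is pure, so `(cm x g).w = x.y g.b ∈ k y₀` and `x` normalises `E`;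
`n ∈ Z2` adjusts `c`; `x ∉ E` because `E` is abelian. -/
theorem Z2_le_of (h : Ep E) (hp : IsPGroup p E) (hd : Disc p E) (hQ : ¬ E ≤ Qs) : Z2 ≤ E := by
  by_contra hn
  have ZE : Z1 ≤ E := fun z hz => (mem_Zc.1 (ep_Z1 h hz)).1
  obtain ⟨e₀, he₀, y0⟩ : ∃ e₀ ∈ Zc E, e₀.y ≠ 0 := SetLike.not_le_iff_exists.1 fun hA : Zc E ≤ As =>
    hn fun x hx => h.c1 (ch_Zc E) (nm_of_cm fun y _ => ZE (cm_comm (cm_S_Z2 y hx)))
      (fun y _ hy => com_As hx.1 (hA hy)) fun y _ => ep_Z1 h (cm_comm (cm_S_Z2 y hx))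
  have k0 : ∀ g ∈ E, e₀.y * g.b = g.y * e₀.b := fun g hg => by
    rw [← sub_eq_zero, ← cm_w, cm_eq_one.2 ((mem_Zc.1 he₀).2 g hg)]; rfl
  have b0 : e₀.b ≠ 0 := fun k => hQ fun g hg =>
    (mul_eq_zero.1 ((k0 g hg).trans (by rw [k, mul_zero]))).resolve_left y0
  have k1 : ∀ g ∈ E, ∃ s, σ s = s ∧ g.y = s * e₀.y ∧ g.b = s * e₀.b ∧ σ e₀.y * g.w - e₀.y * σ g.w =
      s * (σ e₀.y * e₀.w - e₀.y * σ e₀.w) + (s ^ 2 - s) * (e₀.y * σ e₀.y) * e₀.b := fun g hg => by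
    have a1 : σ (g.b / e₀.b) = g.b / e₀.b := by simp only [UE, neg_div_neg_eq]
    have a2 : g.y = g.b / e₀.b * e₀.y := by field_simp; linear_combination -k0 g hg
    have a3 : g.b = g.b / e₀.b * e₀.b := by field_simp
    refine ⟨_, a1, a2, a3, ?_⟩
    generalize g.b / e₀.b = s at *
    have := congrArg U.c ((mem_Zc.1 he₀).2 g hg)
    simp only [UE, a1, a2, a3] at this
    linear_combination this
  have CE : C0 e₀.y ≤ E := fun n hn => h.cen n fun g hg => com_C0 y0 (by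
    obtain ⟨s, a1, a2, -⟩ := k1 g hg
    simp only [mem_Ey, UE, a1, a2]; ring) hn
  have k2 : ∀ g ∈ E, g.y = 0 ∨ g.b = 0 → g ∈ C0 e₀.y := fun g hg k => by
    obtain ⟨s, -, a2, a3, a4⟩ := k1 g hg
    obtain rfl : s = 0 := by rw [a2, a3] at k; simpa [y0, b0] using k
    exact ⟨by simp [a2], by simp [a3], by linear_combination a4⟩
  have ab : ∀ g ∈ E, ∀ g' ∈ E, g * g' = g' * g := fun g hg g' hg' => by
    obtain ⟨s, a1, a2, a3, a4⟩ := k1 g hg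
    obtain ⟨t, b1, b2, b3, b4⟩ := k1 g' hg'
    ext <;> simp only [UE, a1, a2, a3, b1, b2, b3] <;> try ring
    linear_combination s * b4 - t * a4
  obtain ⟨θ, θ0, hθ⟩ := exists_pure (K := K)
  refine pearl hp hd (Z := Z1) (B := Z2) (fun k => θ0 (congrArg U.c (mem_bot.1
    (k.le (show Xc θ hθ ∈ Z1 from ⟨rfl, rfl, rfl⟩))))) (Z1_le_C0.lt_of_ne fun k => y0 (k.ge
      (show Xw e₀.y ∈ C0 e₀.y from ⟨rfl, rfl, mul_comm _ _⟩)).2.2) CE ?_ hn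
    (fun b hb y _ => Z1_le_C0 (cm_comm (cm_S_Z2 y hb))) (fun b hb c hc => com_As hb.1 hc.1)
    (fun e he eC z hz z1 => ?_) fun e he eC d hd d1 => ?_
  · let f : E →* U K := MonoidHom.mk' (fun g => Xc g.1.b g.1.hb) fun g g' => by
      ext <;> simp only [coe_mul, UE]
    rw [← f.ker.card_mul_index, index_ker, ← card_map_of_injective E.subtype_injective]
    refine Nat.mul_le_mul (Subgroup.card_le_of_le ?_) (Subgroup.card_le_of_le ?_)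
    · rintro _ ⟨g, hg, rfl⟩
      exact k2 g g.2 (.inr (congrArg U.c (MonoidHom.mem_ker.1 hg)))
    · rintro _ ⟨g, rfl⟩
      exact ⟨rfl, rfl, rfl⟩
  · obtain ⟨n, hn, k⟩ := exists_cm_Z2 (fun k => eC (k2 e he (.inl k))) (inv_mem hz)
    have k' : cm n e = z := by rw [cm_swap, k, inv_inv]
    exact ⟨n, hn, fun m => z1 (k' ▸ cm_eq_one.2 (ab n m e he)), k'⟩
  have eb : e.b ≠ 0 := fun k => eC (k2 e he (.inr k))
  have z1 : cm (Xy (d.w / e.b)) e * d⁻¹ ∈ Z1 := by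
    simp only [mem_Z1, cm_y, cm_b, cm_w, UE, hd.1, hd.2.1, div_mul_cancel₀ _ eb, add_neg_cancel, and_self]
  obtain ⟨n, hn, k⟩ := exists_cm_Z2 (fun k => eC (k2 e he (.inl k))) z1
  have k' : Xy (d.w / e.b) * n * e * (Xy (d.w / e.b) * n)⁻¹ = d * e := by
    rw [show ∀ a b : U K, a * b * e * (a * b)⁻¹ = a * (cm e b)⁻¹ * a⁻¹ * cm a e * e from fun a b => by
      simp only [cm]; group, k, com_Z1 _ (inv_mem z1)]
    group
  refine ⟨_, fun m => d1 ?_, nm_of_cm fun g _ => CE ⟨cm_y _ _, cm_b _ _, ?_⟩, k'⟩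
  · rwa [ab _ m e he, mul_inv_cancel_right, eq_comm, mul_eq_right] at k'
  · simp only [cm_w, UE, hn.1, hn.2]
    linear_combination g.b / e.b * hd.2.2

end Cfsg.Agent.U4F
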