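import Cfsg.Agent.U4F.EQ

/-!
The essential subgroups.
Read the headers and signatures of `U4F/U`, `U4F/Def`, `U5F/Gen`, `U5F/Es`, `U4F/EQ`.  `k` is the fixed field of `σ`, "pure" is `σ b = -b`, `N t = t * σ t`,
`ι` is from `exists_ι`, `θ` from `exists_pure`.  Tools: `simp only [mem_X, UE, UV, h..]` then `ring`, `field_simp`, `grind`; `afn_mul`,
`afn_mem`, `afn_cm`, `afn_dv`, `afn_res`, `afn_inv_afn`, `cjQ`, `cjA`, `congQ`, `mem_OQ`, `com_Q`, `mulA`, `extA'`, `eq_zero_of_real`,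
`exists_pr`, `surj_pure`, `exists_ne_of_pure`.
-/

set_option autoImplicit false
set_option linter.unusedSectionVars false
set_option linter.unusedSimpArgs false

namespace Cfsg.Agent.U4F

open Subgroup Cfsg.Agent.RFS Cfsg.Agent.Fus Cfsg.Agent.U5F

variable {K : Type*} [Field K] [Cj K] {p : ℕ} [Fact p.Prime] {E : Subgroup (U K)}

/-- `h.c2` with `Z1`, `Z2` for every `x` (`cm_S_S`, `cm_S_Z2`), `h.ne`. -/
theorem not_ch (h : Ep E) (h2 : Z2 ≤ E) (c1 : Ch E Z1) (c2 : Ch E Z2) : False := by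
  exact h.ne (eq_top_iff.2 fun x _ => h.c2 c1 c2 (nm_of_cm fun y _ => h2 (cm_S_S x y))
    (fun _ _ hy => com_Z1 x hy) (fun _ _ hy => cm_S_Z2 x hy) fun y _ => cm_S_S x y)

theorem zc_C0 (h2 : Z2 ≤ E) {g z : U K} (hg : g ∈ E) (h0 : g.y ≠ 0) (hz : z ∈ Zc E) :
    z ∈ Z2 ∧ ∀ u ∈ E, z.w * σ u.y = σ z.w * u.y := by
  have hz := (mem_Zc.1 hz).2
  have a : z ∈ As := mem_As_of_comm fun w => hz _ (h2 ⟨rfl, rfl⟩)
  have b := cm_w g z
  rw [cm_eq_one.2 (hz g hg).symm, mem_As.1 a] at b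
  simp only [UE] at b
  have c : z ∈ Z2 := ⟨a, (mul_eq_zero.1 b.symm).resolve_left h0⟩
  refine ⟨c, fun u hu => ?_⟩
  have d := cm_c2 u c
  rw [cm_eq_one.2 (hz u hu).symm] at d
  simp only [UE] at d
  linear_combination -d

theorem ch_C0 (h : Ep E) (h2 : Z2 ≤ E) {g : U K} (hg : g ∈ E) (h0 : g.y ≠ 0) (hE : E ≤ Ey g.y) :
    Ch E (C0 g.y) := (ch_Zc E).congr fun _ _ =>
  ⟨fun hz => let ⟨a, b⟩ := zc_C0 h2 hg h0 hz; ⟨a.1, a.2, b g hg⟩,
    fun hz => h.mem_Zc_of_comm fun _ hk => com_C0 h0 (hE hk) hz⟩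

theorem ch_As (h2 : (2 : K) = 0) {y₀ : K} (h0 : y₀ ≠ 0) (cC : Ch (Ey y₀) (C0 y₀)) : Ch (Ey y₀) As := by
  refine (ch_Sm cC).congr fun n hn => ⟨fun k => Sm_le (N := As) (fun g hg g0 r _ hr => ?_) k, fun k => ?_⟩
  · have g0 : g.y ≠ 0 := g0
    obtain ⟨s, hs, e⟩ := exists_pr h0 hg
    obtain ⟨t, ht, e'⟩ := exists_pr h0 hr.2.2
    have s0 : s ≠ 0 := fun c => g0 (by rw [e, c, zero_mul])
    have hb : σ (t / s) = -(t / s) := by
      simp only [UE, hs, ht]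
      linear_combination (t / s) * h2
    obtain ⟨m, hm, e2⟩ := exists_cm_Z2 (z := (cm g (Xb _ hb))⁻¹ * r) g0 (by
      simp only [mem_Z1, UE, cm_y, cm_b, cm_w, hr.1, hr.2.1, e, e', true_and]
      field_simp
      ring)
    refine ⟨Xb _ hb * m, As_le_Ey (mul_mem rfl hm.1), ?_⟩
    rw [show cm g (Xb _ hb * m) = cm g (Xb _ hb) * (Xb _ hb * cm g m * (Xb _ hb)⁻¹) by
      simp only [cm]; group, com_Z1 _ (cm_S_Z2 g hm), mul_inv_cancel_right, e2, mul_inv_cancel_left]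
  · by_cases b : n.b = 0
    · have m : Xw y₀ ∈ C0 y₀ := ⟨rfl, rfl, mul_comm _ _⟩
      refine mem_Sm hn (As_le_Ey m.1) m fun g _ e => h0 ?_
      simpa only [cm_w, mem_As.1 k, b, UE] using (congrArg U.w e).symm
    · obtain ⟨θ, θ0, hθ⟩ := exists_pure (K := K)
      refine mem_Sm (r := Xc θ hθ) hn (As_le_Ey rfl) (Z1_le_C0 ⟨rfl, rfl, rfl⟩) fun g _ e => θ0 ?_
      have a := congrArg U.w e
      simp only [cm_w, mem_As.1 k, UE, neg_eq_zero] at a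
      rw [cm_eq_one.2 (com_As k ((mul_eq_zero.1 a).resolve_right b))] at e
      exact (congrArg U.c e).symm

theorem ch_Z2 (hq : G2 K) {y₀ : K} (h0 : y₀ ≠ 0) (cC : Ch (Ey y₀) (C0 y₀)) (cA : Ch (Ey y₀) As) :
    Ch (Ey y₀) Z2 := by
  obtain ⟨s, hs, s0, s1⟩ := hq
  have h1 := σ_ne_zero h0
  refine Ch.of_gen (fun n => n ∈ As ∧ ∃ n' ∈ Ey y₀, n' ∈ As ∧ n⁻¹ * n' ∉ C0 y₀ ∧
    ∀ h ∈ Ey y₀, ∃ h' ∈ Ey y₀, cm h n = cm h' n') ?_ ?_ ?_
  · rintro α n hn ⟨a, n', b, c, d, e⟩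
    refine ⟨cA α n hn a, _, afn_mem α b, cA α n' b c, fun k => d ?_, fun h hh => ?_⟩
    · have m := mul_mem (inv_mem hn) b
      rw [← afn_dv α hn b] at k
      have := cC α⁻¹ _ (afn_mem α m) k
      rwa [afn_inv_afn α m] at this
    · obtain ⟨k, hk, f⟩ := e _ (afn_mem α⁻¹ hh)
      exact ⟨_, afn_mem α hk, by
        rw [← afn_cm α hk b, ← f, afn_cm α (afn_mem α⁻¹ hh) hn, afn_afn_inv α hh]⟩
  · rintro n - ⟨a, n', -, c, d, e⟩
    refine ⟨a, by_contra fun b => d ?_⟩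
    obtain ⟨k, hk, f⟩ := e (Xy y₀) (mul_comm _ _)
    obtain ⟨l, hl, f'⟩ := e (Xy (s * y₀)) (by simp only [mem_Ey, UE, hs]; ring)
    obtain ⟨u, hu, e1⟩ := exists_pr h0 hk
    obtain ⟨v, hv, e2⟩ := exists_pr h0 hl
    have a1 := congrArg U.w f
    have a2 := congrArg U.c f
    have a3 := congrArg U.w f'
    have a4 := congrArg U.c f'
    simp only [cm_w, cm_cA _ a, cm_cA _ c, mem_As.1 a, mem_As.1 c, e1, e2, UE, hs, hu, hv] at a1 a2 a3 a4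
    have b1 : n.b = u * n'.b := mul_left_cancel₀ h0 (by linear_combination a1)
    have b2 : n'.b ≠ 0 := fun z => b (by rw [b1, z, mul_zero])
    have b3 : u ≠ 0 := fun z => b (by rw [b1, z, zero_mul])
    have b4 : v = s * u := mul_right_cancel₀ (mul_ne_zero h0 b2) (by
      linear_combination s * a1 - a3)
    have b5 : u = 1 := mul_right_cancel₀ (mul_ne_zero (mul_ne_zero (mul_ne_zero s0 (sub_ne_zero.2 s1))
      (mul_ne_zero h0 h1)) (mul_ne_zero b3 b2)) (by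
        rw [b4, b1] at a4
        rw [b1] at a2
        linear_combination s * a2 - a4)
    rw [b5, one_mul] at b1
    simp only [mem_C0, UE, mem_As.1 a, mem_As.1 c, b1, neg_add_cancel, true_and]
    rw [b5, b1] at a2
    linear_combination -a2
  · intro T hT
    have k : ∀ n ∈ Z2, n ∉ C0 y₀ → n ∈ T := fun n hn c => by
      refine hT n (As_le_Ey hn.1) ⟨hn.1, Xw (s * n.w), As_le_Ey rfl, rfl, fun d => c ⟨hn.1, hn.2, ?_⟩,
        fun h hh => ⟨Xy (h.y / s), ?_, ?_⟩⟩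
      · have := d.2.2
        simp only [UE, hn.1, hs] at this
        exact mul_left_cancel₀ (sub_ne_zero.2 s1) (by linear_combination this)
      · simp only [mem_Ey, UE, hs]
        linear_combination s⁻¹ * mem_Ey.1 hh
      · have a := cm_S_Z2 h hn
        have m : Xw (s * n.w) ∈ Z2 := ⟨rfl, rfl⟩
        have b := cm_S_Z2 (Xy (h.y / s)) m
        refine U.ext (a.1.trans b.1.symm) (a.2.1.trans b.2.1.symm) (a.2.2.trans b.2.2.symm) ?_
        simp only [cm_c2 _ hn, cm_c2 _ m, UE, hs]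
        field_simp
    obtain ⟨ι, hι⟩ := exists_ι (K := K)
    have m : Xw (ι * y₀) ∈ Z2 := ⟨rfl, rfl⟩
    have m' : Xw (ι * y₀) ∉ C0 y₀ := fun c => hι (mul_right_cancel₀ (mul_ne_zero h0 h1) (by
      have := c.2.2
      simp only [UE] at this
      linear_combination -this))
    intro n hn
    by_cases c : n ∈ C0 y₀
    · exact (mul_mem_cancel_right (k _ m m')).1
        (k _ (mul_mem hn m) fun d => m' ((mul_mem_cancel_left c).1 d))
    · exact k n hn c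

/-- PROOF (`2 = 0`, pure means `∈ k`).  `W = Zc E = C0 y₀`.  `Ch E As`: `Sm E W = As` (for `g ∉ As` every element of `C0 y₀` is `cm g n`, `n ∈ As`,
by `cm_w`, `cm_cA`; for `n ∈ As`, `cm n h` has `w = h.y n.b`: if `n.b = 0` then `Xw y₀` is not such a commutator, otherwise `Xc 1 _` is not).
`Ch E Z2` by `Ch.of_gen` with `P n = n ∈ As ∧ ∃ n' ∈ E, n' ∈ As ∧ n⁻¹ * n' ∉ W ∧ ∀ h ∈ E, ∃ h' ∈ E, cm h n = cm h' n'`.  For `n ∈ Z2 \ C0 y₀` take
`n' = Xw (s₁ n.w)`, `h' = Xy (h.y / s₁)`, `s₁` from `G2`; these `n` generate `Z2`.  If `P n` and `b = n.b ≠ 0`: with `t = σ y₀ n.w + y₀ σ n.w`, `h = Xy (s y₀)`,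
`h'.y = s' y₀`: `s' b' = s b`, `s' t' + s'² N y₀ b' = s t + s² N y₀ b`; `s = 1, s₁` give `b' = b`, `t' = t`, so `n⁻¹ n' ∈ C0 y₀`.  `Z1 = Dm E Z2 ⊤`. -/
theorem not_Ey (h2 : (2 : K) = 0) (hq : G2 K) {y₀ : K} (h0 : y₀ ≠ 0) (h : Ep (Ey y₀)) : False := by
  have hZ : Z2 ≤ Ey y₀ := Z2_le_As.trans As_le_Ey
  have hg : Xy y₀ ∈ Ey y₀ := mul_comm _ _
  have cC : Ch (Ey y₀) (C0 y₀) := ch_C0 h hZ hg h0 le_rfl
  have c2 := ch_Z2 hq h0 cC (ch_As h2 h0 cC)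
  refine not_ch h hZ (Ch.top.of_comm c2 (fun a _ _ _ _ hb => cm_S_Z2 a hb) fun T hT z hz => ?_) c2
  obtain ⟨n, hn, rfl⟩ := exists_cm_Z2 (g := Xy y₀) h0 hz
  exact hT _ hg trivial n (hZ hn) hn

/-- PROOF.  `g ∈ E` with `y₀ = g.y ≠ 0`, `g.b ≠ 0` (`exists_not_two`).  `W = Zc E ≤ As` (`mem_As_of_comm`), and `W ≤ C0 y₀` (`cm_w`, `cm_c2`).
If `¬ E ≤ Ey y₀`, `u ∈ E \ Ey y₀`: `W = Z1`, and `Zd E = Z2` (for `v ∈ Zd E`: `v.y g.b = y₀ v.b`, `v.y u.b = u.y v.b`; if `v.b ≠ 0` then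
`u.y = y₀ u.b / g.b ∈ k y₀`); `not_ch`.  So `E ≤ Ey y₀`, `W = C0 y₀` (`com_C0`).  If `2 ≠ 0`: `D = Dm E ⊤ ⊤` has `w σ y₀` pure (use a subgroup like `C0 (θ y₀)`),
so `D ⊓ W = Z1` (`exists_cm_Z2`); `h.c2` with `Z1`, `C0 y₀` gives `Xy (θ y₀) ∈ E`, so `θ ∈ k`, absurd.  If `2 = 0`: `h.c1` with `C0 y₀` gives `Ey y₀ ≤ E`;
`not_Ey`. -/
theorem caseT (h : Ep E) (h2 : Z2 ≤ E) (hQ : ¬ E ≤ Qs) (hA : ¬ E ≤ As) : ¬ G2 K ∧ ∃ y₀, y₀ ≠ 0 ∧ E = Ey y₀ := by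
  obtain ⟨g, hg, gb, gy⟩ := exists_not_two hQ hA
  have gb : g.b ≠ 0 := gb
  have gy : g.y ≠ 0 := gy
  have g1 := σ_ne_zero gy
  have nm : ∀ x, Nm E x := fun x => nm_of_cm fun y _ => h2 (cm_S_S x y)
  have hE : E ≤ Ey g.y := fun u hu => by_contra fun c => by
    have c' := sub_ne_zero.2 (mt mem_Ey.2 c)
    have z1 : Zc E ≤ Z1 := fun z hz => by
      obtain ⟨a, b⟩ := zc_C0 h2 hg gy hz
      exact ⟨a.1, a.2, (mul_eq_zero.1 (by
        linear_combination u.y * b g hg - g.y * b u hu)).resolve_right c'⟩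
    refine not_ch h h2 ((ch_Zc E).congr fun _ _ => ⟨fun k => z1 k, fun k => ep_Z1 h k⟩)
      ((ch_Zd E).congr fun v hv => ⟨fun k => ?_, fun k =>
        ⟨hv, fun x _ => ep_Z1 h (cm_comm (cm_S_Z2 x k))⟩⟩)
    have a := (z1 (k.2 g hg)).2.2
    have b := (z1 (k.2 u hu)).2.2
    rw [cm_w] at a b
    have vb : v.b = 0 := by_contra fun vb => by
      have d : u.y * g.b = u.b * g.y := mul_right_cancel₀ vb (by linear_combination u.b * a - g.b * b)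
      have d' := congrArg σ d
      simp only [UE] at d'
      exact c' (mul_right_cancel₀ gb (by linear_combination σ g.y * d + g.y * d'))
    rw [vb, mul_zero, sub_zero] at a
    exact ⟨(mul_eq_zero.1 a).resolve_right gb, vb⟩
  have cC := ch_C0 h h2 hg gy hE
  by_cases t : (2 : K) = 0
  · have e : E = Ey g.y := le_antisymm hE fun x hx => h.c1 cC (nm x) (fun _ _ hy => com_C0 gy hx hy)
      fun y hy => ⟨cm_y _ _, cm_b _ _, by
        simp only [cm_w, UE]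
        linear_combination y.b * mem_Ey.1 hx - x.b * mem_Ey.1 (hE hy) +
          (σ x.y * y.b * g.y - σ y.y * x.b * g.y) * t⟩
    exact ⟨fun hq => not_Ey t hq gy (e ▸ h), _, gy, e⟩
  obtain ⟨θ, θ0, hθ⟩ := exists_pure (K := K)
  have dl : Dm E ⊤ ⊤ ≤ C0 (θ * g.y) := Dm_le fun x hx _ y hy _ => ⟨cm_y _ _, cm_b _ _, by
    simp only [cm_w, UE, hθ]
    linear_combination θ * x.b * mem_Ey.1 (hE hy) - θ * y.b * mem_Ey.1 (hE hx)⟩
  have c1 : Ch E Z1 := ((ch_Dm Ch.top Ch.top).inf cC).congr fun z _ => ⟨fun k => ⟨k.2.1, k.2.2.1, by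
      have a := (dl k.1).2.2
      simp only [UE, hθ] at a
      exact (mul_eq_zero.1 (by linear_combination θ * k.2.2.2 - a)).resolve_right
        (mul_ne_zero t (mul_ne_zero θ0 g1))⟩, fun k => ⟨by
      obtain ⟨n, hn, rfl⟩ := exists_cm_Z2 gy k
      exact mem_Dm hg trivial (h2 hn) trivial, Z1_le_C0 k⟩⟩
  have a := mem_Ey.1 (hE (h.c2 c1 cC (nm (Xy (θ * g.y))) (fun _ _ hy => com_Z1 _ hy)
    (fun _ _ hy => cm_S_Z2 _ (C0_le_Z2 hy)) fun y _ => ⟨cm_y _ _, cm_b _ _, by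
      simp only [cm_w, UE, hθ]; ring⟩))
  simp only [UE, hθ] at a
  exact absurd (by linear_combination a) (mul_ne_zero t (mul_ne_zero θ0 (mul_ne_zero gy g1)))

/-- `ep_of_essential`, `disc_of_essential`, `isPGroup_U`. -/
theorem ess [CharP K p] {F : FusionSystem (⊤ : Subgroup (U K))} (hF : F.IsSaturated p) (hE : F.IsEssential p E) :
    E = Qs ∨ E = As ∨ (¬ G2 K ∧ ∃ y₀, y₀ ≠ 0 ∧ E = Ey y₀) := by
  have hS := (isPGroup_U (K := K) p).to_subgroup ⊤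
  have hp := (isPGroup_U (K := K) p).to_subgroup E
  have h := ep_of_essential hS hF hE
  have hd := disc_of_essential hS hE
  by_cases hQ : E ≤ Qs
  · exact .inl (caseQ h hp hd hQ)
  by_cases hA : E ≤ As
  · exact .inr (.inl (caseA h hA))
  · exact .inr (.inr (caseT h (Z2_le_of h hp hd hQ) hQ hA))

end Cfsg.Agent.U4F
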