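import Cfsg.Agent.U4F.Nor
import Cfsg.Agent.U4F.Mat2

/-!
The groups `SU₄(q) Θ`.
-/

set_option autoImplicit false
set_option linter.unusedSectionVars false
set_option linter.unusedSimpArgs false

namespace Cfsg.Agent.U4F

open Subgroup Matrix Cfsg.Agent.U5F Cfsg.Agent.Fus

universe u

variable {K : Type u} [Field K] [Cj K] {p : ℕ} [Fact p.Prime] [CharP K p]

/-- The field automorphisms occurring in `Θ`. -/
def mdΦ (Θ : Subgroup (MulAut (U K))) : Subgroup (K ≃+* K) where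
  carrier := {f | ∃ r s, tf r s f ∈ Θ}
  one_mem' := ⟨1, 1, tf_one (K := K) ▸ one_mem _⟩
  mul_mem' := fun ⟨_, _, h⟩ ⟨_, _, h'⟩ => ⟨_, _, by rw [← tf_mul]; exact mul_mem h h'⟩
  inv_mem' := fun ⟨_, _, h⟩ => ⟨_, _, by rw [← tf_inv]; exact inv_mem h⟩

/-- The group `GU₄(q) Φ`. -/
def mdG' (Φ : Subgroup (K ≃+* K)) : Subgroup (GL (Fin 4) K ⋊[fA] (K ≃+* K)) where
  carrier := {x | x.left ∈ GJ K ∧ x.right ∈ Φ}
  one_mem' := ⟨one_mem _, one_mem _⟩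
  mul_mem' ha hb := ⟨mul_mem ha.1 (fA_mem _ hb.1), mul_mem ha.2 hb.2⟩
  inv_mem' ha := ⟨fA_mem _ (inv_mem ha.1), inv_mem ha.2⟩

/-- The group `SU₄(q) Θ`. -/
def mdG (Θ : Subgroup (MulAut (U K))) : Subgroup (GL (Fin 4) K ⋊[fA] (K ≃+* K)) where
  carrier := {x | x.left ∈ GJ K ∧ ∃ r s, tf r s x.right ∈ Θ ∧
    (x.left : Matrix (Fin 4) (Fin 4) K).det = (dg (r * s) s : Matrix (Fin 4) (Fin 4) K).det}
  one_mem' := ⟨one_mem _, 1, 1, tf_one (K := K) ▸ one_mem _, by simp [det_dg]⟩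
  mul_mem' := fun {a b} ⟨ha, r, s, h1, h2⟩ ⟨hb, r', s', h3, h4⟩ =>
    ⟨mul_mem ha (fA_mem _ hb), _, _, (tf_mul r s r' s' _ _).subst (motive := (· ∈ Θ)) (mul_mem h1 h3), by
      rw [SemidirectProduct.mul_left, Units.val_mul, det_mul, det_fA, h2, h4]
      simp only [det_dg, UV, UE, um_val, map_mul, map_inv₀, map_one, fσ, mul_inv]
      ring⟩
  inv_mem' := fun {a} ⟨ha, r, s, h1, h2⟩ => ⟨fA_mem _ (inv_mem ha), _, _, (tf_inv r s _).subst (motive := (· ∈ Θ)) (inv_mem h1), by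
      rw [SemidirectProduct.inv_left, det_fA, Matrix.coe_units_inv, det_nonsing_inv, h2]
      simp only [det_dg, UV, UE, um_val, map_mul, map_inv₀, map_one, fσ, mul_inv, Ring.inverse_eq_inv', inv_inv]⟩

theorem md_card (Φ : Subgroup (K ≃+* K)) : Nat.card (mdG' Φ) = Nat.card (GJ K) * Nat.card Φ := by
  rw [← Nat.card_prod]
  exact Nat.card_congr
    { toFun := fun x => (⟨x.1.left, x.2.1⟩, ⟨x.1.right, x.2.2⟩)
      invFun := fun p => ⟨⟨p.1, p.2⟩, p.1.2, p.2.2⟩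
      left_inv := fun _ => rfl
      right_inv := fun _ => rfl }

theorem md_conj (g : GL (Fin 4) K ⋊[fA] (K ≃+* K)) (y : GL (Fin 4) K) :
    g * SemidirectProduct.inl y * g⁻¹ = SemidirectProduct.inl (g.left * fA g.right y * g.left⁻¹) := by
  conv_lhs => rw [← SemidirectProduct.inl_left_mul_inr_right g]
  rw [map_mul, map_mul, SemidirectProduct.inl_aut, map_inv, map_inv]
  group

theorem md_pow (r s : Kˣ) (f : K ≃+* K) (n : ℕ) : ∃ r' s', tf r s f ^ n = tf r' s' (f ^ n) := by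
  induction n with
  | zero => exact ⟨1, 1, tf_one.symm⟩
  | succ n ih => obtain ⟨r', s', e⟩ := ih; exact ⟨_, _, by rw [pow_succ, e, tf_mul, pow_succ]⟩

theorem md_tf (r s : Kˣ) (f : K ≃+* K) : tf r s f = tf r s 1 * tf 1 1 f := by
  rw [tf_mul, um_one, mul_one, mul_one, one_mul]

theorem exists_mod {Θ : Subgroup (MulAut (U K))} (hΘ : Θ ≤ TF K) (hp : ¬ p ∣ Nat.card Θ) :
    ∃ (G : Type u) (_ : Group G) (_ : Finite G) (ι : U K →* G),
    Function.Injective ι ∧ ¬ p ∣ ι.range.index ∧ (∃ w, ∀ u ∈ Qs, w * ι u * w⁻¹ = ι (afn (ωQ K) u)) ∧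
    (∃ n, ∀ u ∈ As, n * ι u * n⁻¹ = ι (ψ u)) ∧ (∀ θ ∈ Θ, ∃ g, ∀ u, g * ι u * g⁻¹ = ι (θ u)) ∧
    ∀ (g : G) (φ : U K → U K), (∀ u, g * ι u * g⁻¹ = ι (φ u)) →
      ∃ s : U K, ∃ t ∈ T0 K, ∃ θ ∈ Θ, ∀ u, φ u = s * (t * θ) u * s⁻¹ := by
  have : Finite (K ≃+* K) := Finite.of_injective (fun f : K ≃+* K => (f : K → K)) DFunLike.coe_injective
  have : Finite (GL (Fin 4) K ⋊[fA] (K ≃+* K)) := Finite.of_equiv _ SemidirectProduct.equivProd.symm
  have one : ∀ M ∈ GJ K, (M : Matrix (Fin 4) (Fin 4) K).det = 1 → SemidirectProduct.inl M ∈ mdG Θ :=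
    fun M h1 h2 => ⟨h1, 1, 1, tf_one (K := K) ▸ one_mem _, h2.trans (by simp [det_dg])⟩
  let ι : U K →* mdG Θ :=
    (SemidirectProduct.inl.comp NM).codRestrict _ fun u => one _ (NM_mem u) (det_mat u)
  have hι : ∀ u, (ι u).1 = SemidirectProduct.inl (NM u) := fun _ => rfl
  have inj : Function.Injective ι := fun a b e =>
    NM_inj (SemidirectProduct.inl_injective ((hι a).symm.trans ((congrArg Subtype.val e).trans (hι b))))
  have key : ∀ (g : mdG Θ) (u v : U K), g * ι u * g⁻¹ = ι v ↔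
      g.1.left * NM (tf 1 1 g.1.right u) * g.1.left⁻¹ = NM v := fun g u v => by
    rw [Subtype.ext_iff, coe_mul, coe_mul, coe_inv, hι, hι, md_conj, fA_NM,
      SemidirectProduct.inl_injective.eq_iff]
  refine ⟨mdG Θ, inferInstance, inferInstance, ι, inj, fun c => ?_, ?_, ?_, ?_, ?_⟩
  · obtain ⟨m, hm, e⟩ := card_GJ (K := K) (p := p)
    have h1 : Nat.card (mdG Θ) ∣ Nat.card (mdG' (mdΦ Θ)) :=
      card_dvd_of_le fun x ⟨h, r, s, h', _⟩ => ⟨h, r, s, h'⟩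
    rw [md_card, e, ← ι.range.card_mul_index, ← Nat.card_congr (MonoidHom.ofInjective inj).toEquiv,
      mul_assoc, Nat.mul_dvd_mul_iff_left Nat.card_pos] at h1
    obtain ⟨⟨f, r, s, hf⟩, o⟩ := exists_prime_orderOf_dvd_card' p
      (((Fact.out : p.Prime).dvd_mul.1 (c.trans h1)).resolve_left hm)
    obtain ⟨r', s', e'⟩ := md_pow r s f (Nat.card Θ)
    rw [show tf r s f ^ Nat.card Θ = 1 from congrArg Subtype.val (pow_card_eq_one' (x := (⟨_, hf⟩ : Θ))),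
      ← tf_one] at e'
    replace o : orderOf f = p := (orderOf_mk _ _).symm.trans o
    exact hp (o ▸ orderOf_dvd_of_pow_eq_one (tf_inj fun u => by rw [e']; exact ⟨rfl, rfl⟩).2.2.symm)
  · obtain ⟨w, h1, h2, h3⟩ := exists_wM (K := K)
    refine ⟨⟨_, one w h1 h2⟩, fun u hu => (key _ _ _).2 ?_⟩
    show w * NM (tf 1 1 1 u) * w⁻¹ = _
    rw [tf_one]
    exact h3 u hu
  · obtain ⟨w, h1, h2, h3⟩ := exists_nM (K := K)
    refine ⟨⟨_, one w h1 h2⟩, fun u hu => (key _ _ _).2 ?_⟩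
    show w * NM (tf 1 1 1 u) * w⁻¹ = _
    rw [tf_one]
    exact h3 u hu
  · intro θ h
    obtain ⟨r, s, f, rfl⟩ := hΘ h
    refine ⟨⟨⟨dg (r * s) s, f⟩, dg_mem _ _, r, s, h, rfl⟩, fun u => (key _ _ _).2 ?_⟩
    show dg (r * s) s * NM (tf 1 1 f u) * (dg (r * s) s)⁻¹ = _
    rw [dg_NM, mul_inv_cancel_right, md_tf r s f, MulAut.mul_apply]
  · rintro ⟨g, hg, r, s', h1, h2⟩ φ h
    simp only [key] at h
    obtain ⟨s, t₁, t₂, e⟩ := exists_nor hg (φ := fun v => φ ((tf 1 1 g.right)⁻¹ v)) fun v => by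
      rw [← h, MulAut.apply_inv_self]
    rw [e, Units.val_mul, det_mul, NM_val, det_mat, one_mul] at h2
    obtain ⟨t, ht, e'⟩ := tf_of_det h2
    refine ⟨s, t, ht, _, h1, fun u => NM_inj ?_⟩
    rw [← h, e, md_tf r s', ← mul_assoc t, ← e', MulAut.mul_apply, map_mul, map_mul, map_inv, ← dg_NM]
    group

end Cfsg.Agent.U4F
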