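import Cfsg.Agent.U4F.QA
import Cfsg.Agent.U4F.Dik

/-!
The conjugates of `Z2 / Z1` as graphs.
Read the headers and signatures of `U4F/U`, `U4F/Def`, `U5F/Gen`.  `k` is the fixed field of `σ`, "pure" is `σ b = -b`, `N t = t * σ t`,
`ι` is from `exists_ι`, `θ` from `exists_pure`, `≡` is equality of the coordinates `y, w`.  Tools: `simp only [mem_X, UE, UV, h..]` then `ring`,
`field_simp`, `grind`; `afn_mul`, `afn_mem`, `afn_cm`, `afn_dv`, `afn_res`, `afn_inv_afn`, `homOn_afn`, `cjQ`, `congQ`, `mem_OQ`, `com_Q`, `cm_cQ`,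
`eq_zero_of_real`, `exists_pr`, `surj_pure`. `U5F/QC0`, `U5F/QD1` are similar.
-/

set_option autoImplicit false
set_option linter.unusedSectionVars false
set_option linter.unusedSimpArgs false

namespace Cfsg.Agent.U4F

open Subgroup Cfsg.Agent.RFS Cfsg.Agent.Fus Cfsg.Agent.U5F

variable {K : Type*} [Field K] [Cj K] {p : ℕ} [Fact p.Prime] [CharP K p] {A₀ : Subgroup (MulAut (U K))}
  {A : Subgroup (MulAut (Qs : Subgroup (U K)))} {α β : MulAut (Qs : Subgroup (U K))}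

theorem qc_add (α : MulAut (Qs : Subgroup (U K))) {u v x : U K} (hu : u ∈ Qs) (hv : v ∈ Qs) (hx : x ∈ Qs)
    (h : x.y = u.y + v.y ∧ x.w = u.w + v.w) :
    (afn α x).y = (afn α u).y + (afn α v).y ∧ (afn α x).w = (afn α u).w + (afn α v).w := by
  have a := congQ α (mul_mem hu hv) hx (by simp only [UE, mem_Qs.1 hv, h, and_self])
  rw [homOn_afn α _ hu _ hv] at a
  simpa only [UE, mem_Qs.1 (afn_mem α hv)] using a

theorem qc_inj (α : MulAut (Qs : Subgroup (U K))) {u v : U K} (hu : u ∈ Qs) (hv : v ∈ Qs)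
    (h : (afn α v).y = (afn α u).y ∧ (afn α v).w = (afn α u).w) : v.y = u.y ∧ v.w = u.w := by
  simpa only [afn_inv_afn _ hu, afn_inv_afn _ hv] using congQ α⁻¹ (afn_mem α hu) (afn_mem α hv) h

theorem qc_com (α : MulAut (Qs : Subgroup (U K))) {u v : U K} (hu : u ∈ Z2) (hv : v ∈ Z2) :
    σ (hf (afn α u) (afn α v)) = hf (afn α u) (afn α v) := by
  rw [← com_Q (afn_mem α hu.2) (afn_mem α hv.2), ← homOn_afn α _ hu.2 _ hv.2, ← homOn_afn α _ hv.2 _ hu.2, com_As hu.1 hv.1]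

theorem qc_sq (h2 : (2 : K) = 0) (α : MulAut (Qs : Subgroup (U K))) {u : U K} (hu : u ∈ Z2) :
    σ (afn α u).y * (afn α u).w = (afn α u).y * σ (afn α u).w := by
  have e : u * u = 1 := by
    ext <;> simp only [UE, hu.1, hu.2]
    · linear_combination u.w * h2
    · linear_combination u.c * h2
  have a := homOn_afn α _ hu.2 _ hu.2
  have o : afn α 1 = 1 := by
    have := homOn_afn α _ (one_mem _) _ (one_mem _)
    rw [one_mul] at this
    exact left_eq_mul.1 this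
  rw [e, o] at a
  have c := congrArg U.c a
  simp only [UE, mem_Qs.1 (afn_mem α hu.2)] at c
  linear_combination -c - (afn α u).c * h2

theorem qc_conj (α : MulAut (Qs : Subgroup (U K))) {b : K} (hb : σ b = -b) {u : U K} (hu : u ∈ Qs) :
    (afn (α * cQ (Xb b hb) * α⁻¹) u).y = u.y + (afn α (Xw (-(b * (afn α⁻¹ u).y)))).y ∧
      (afn (α * cQ (Xb b hb) * α⁻¹) u).w = u.w + (afn α (Xw (-(b * (afn α⁻¹ u).y)))).w := by
  have hv := afn_mem α⁻¹ hu
  rw [afn_mul _ _ hu, afn_mul _ _ hv]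
  have a := qc_add α hv (v := Xw (-(b * (afn α⁻¹ u).y))) rfl (afn_mem (cQ (Xb b hb)) hv)
    (by simp only [cjQ _ hv, UE, sub_eq_add_neg, and_self])
  rwa [afn_afn_inv _ hu] at a

/-- `w ↦ (α (Xw w)).y` is additive and injective. -/
theorem exists_y (h : ∀ x ∈ Z2, afn α x ∈ Z2 → x ∈ Z1) (y : K) : ∃ x ∈ Z2, (afn α x).y = y := by
  have a : ∀ w w', (afn α (Xw w)).y = (afn α (Xw w')).y → w = w' := fun w w' e => by
    have b := qc_add α (u := Xw (w - w')) (v := Xw w') (x := Xw w) rfl rfl rfl (by simp only [UE, sub_add_cancel, and_self])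
    have c := h (Xw (w - w')) ⟨rfl, rfl⟩ ⟨by linear_combination e - b.1, afn_mem α rfl⟩
    exact sub_eq_zero.1 c.2.2
  obtain ⟨w, e⟩ := (Finite.injective_iff_surjective (f := fun w : K => (afn α (Xw w)).y)).1 a y
  exact ⟨Xw w, ⟨rfl, rfl⟩, e⟩

/-- `y = 1`, `y' = t`: `eq_zero_of_real`. -/
theorem pure_of_iso {γ n : K} (h : ∀ y y' : K, σ (y * σ (γ * y' + n * σ y') + (γ * y + n * σ y) * σ y') =
    y * σ (γ * y' + n * σ y') + (γ * y + n * σ y) * σ y') : σ γ = -γ := by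
  have a : γ + σ γ = 0 := eq_zero_of_real fun t => by
    have := h 1 t
    simp only [UE] at this ⊢
    linear_combination this
  linear_combination a

/-- Squaring is onto; `eq_zero_of_real`. -/
theorem zero_of_sq (h2 : (2 : K) = 0) {n : K} (h : ∀ y : K, σ n * y ^ 2 = n * σ y ^ 2) : n = 0 := by
  refine eq_zero_of_real fun w => ?_
  obtain ⟨y, rfl⟩ := (Finite.injective_iff_surjective (f := fun y : K => y ^ 2)).1 (fun y y' e => by
    have e' : y ^ 2 = y' ^ 2 := e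
    have : (y - y') ^ 2 = 0 := by linear_combination e' + (y' ^ 2 - y * y') * h2
    exact sub_eq_zero.1 (pow_eq_zero_iff two_ne_zero |>.1 this)) w
  simpa only [UE] using h y

/-- PROOF.  `f y = (α x).w` for `x ∈ Z2` with `(α x).y = y` (`exists_y`; well defined by `h`, `chQ_Z1`) is additive and `k`-linear (`semi'`): `exists_lin`.
`α Z2` is abelian: `com_Q`, `pure_of_iso`.  For `2 = 0`: `x * x = 1` on `Z2`, the coordinate `c` of `α x * α x`, `zero_of_sq`. -/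
theorem graph (h : ∀ x ∈ Z2, afn α x ∈ Z2 → x ∈ Z1) : ∃ γ n : K, σ γ = -γ ∧ ((2 : K) = 0 → n = 0) ∧
    ∀ x ∈ Z2, (afn α x).w = γ * (afn α x).y + n * σ (afn α x).y := by
  choose g hg hy using exists_y h
  have wd : ∀ x ∈ Z2, (afn α x).w = (afn α (g (afn α x).y)).w := fun x hx => by
    have hx' := hg (afn α x).y
    have a := h _ (mul_mem (inv_mem hx') hx) ⟨by rw [afn_dv α hx'.2 hx.2]; simp only [UE, hy, neg_add_cancel],
      afn_mem α (mul_mem (inv_mem hx') hx).2⟩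
    exact (congQ α hx'.2 hx.2 ((dv_Z1 hx'.2 hx.2).1 a)).2
  obtain ⟨γ, n, e⟩ := exists_lin (f := fun y => (afn α (g y)).w) (fun y y' => by
    have a := qc_add α (hg y).2 (hg y').2 (mul_mem (hg y) (hg y')).2 (by simp only [UE, (hg y').2, and_self])
    have b := wd _ (mul_mem (hg y) (hg y'))
    rw [a.1, a.2, hy, hy] at b
    exact b.symm) (fun s y hs => by
    obtain ⟨t, -, ht⟩ := semi' α hs
    have a := ht (Xw (t * (g y).w)) rfl _ (hg y).2 (by simp only [UE, (hg y).1, and_self])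
    have b := wd (Xw (t * (g y).w)) ⟨rfl, rfl⟩
    rw [a.1, a.2, hy] at b
    exact b.symm)
  have hγ : σ γ = -γ := pure_of_iso (n := n) fun y y' => by
    have a := qc_com α (hg y) (hg y')
    simpa only [hf, hy, e] using a
  refine ⟨γ, n, hγ, fun h2 => zero_of_sq h2 fun y => ?_, fun x hx => (wd x hx).trans (e _)⟩
  have a := qc_sq h2 α (hg y)
  simp only [hy, e, UE, hγ] at a
  linear_combination -a + γ * y * σ y * h2

/-- The properties of `A OQ` which are used. -/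
structure Gd (A : Subgroup (MulAut (Qs : Subgroup (U K)))) : Prop where
  cj : ∀ g, cQ g ∈ A
  oq : OQ K ≤ A
  np : ∀ β ∈ A, ¬ PQ β → ∀ x ∈ Z2, afn β x ∈ Z2 → x ∈ Z1
  nm : ∀ β ∈ A, PQ β → ∀ θ, σ θ = -θ → ∃ s, σ s = s ∧ ∀ y, (afn β (Xw (θ * y))).w = s * θ * (afn β (Xy y)).y

/-- PROOF.  `α Z2 ≡ {w = 0}`: `w ↦ (α (Xw w)).y` is injective (`chQ_Z1` for `α⁻¹`), so onto.  `τ = α * cQ (Xb b) * α⁻¹` fixes `Z1` (`cQ_Z1`, `chQ_Z1`), fixes `Xy y`
modulo `Z1`, and `(u⁻¹ * τ u).w = 0`.  `w ↦ (τ (Xw w)).y` is additive and `k`-linear (`lin`): `exists_lin`.  `Z2` is abelian: `pure_of_iso`; for `2 = 0`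
`zero_of_sq`. -/
theorem tau_act (h : ∀ x ∈ Z2, (afn α x).w = 0) {b : K} (hb : σ b = -b) : ∃ μ ν : K, σ μ = -μ ∧ ((2 : K) = 0 → ν = 0) ∧ ∀ u ∈ Qs,
    (afn (α * cQ (Xb b hb) * α⁻¹) u).y = u.y + μ * u.w + ν * σ u.w ∧ (afn (α * cQ (Xb b hb) * α⁻¹) u).w = u.w := by
  have hz : ∀ z ∈ Z1, afn (α * cQ (Xb b hb) * α⁻¹) z = z := fun z hz => by
    have a := chQ_Z1 α⁻¹ z hz.2.1 hz
    rw [afn_mul _ _ hz.2.1, afn_mul _ _ a.2.1, cQ_Z1 _ a, afn_afn_inv _ hz.2.1]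
  have hw : ∀ u ∈ Qs, (afn (α * cQ (Xb b hb) * α⁻¹) u).w = u.w := fun u hu => by
    rw [(qc_conj α hb hu).2, h _ ⟨rfl, rfl⟩, add_zero]
  have o : (afn α (Xw 0)).y = 0 := (chQ_Z1 α (Xw 0) rfl ⟨rfl, rfl, rfl⟩).1
  have hy : ∀ y, (afn (α * cQ (Xb b hb) * α⁻¹) (Xy y)).y = y := fun y => by
    obtain ⟨x, hx, e⟩ := exists_y (α := α) (fun x hx k => by
      have := chQ_Z1 α⁻¹ _ k.2 ⟨k.1, k.2, h x hx⟩
      rwa [afn_inv_afn _ hx.2] at this) y
    have a := congQ α⁻¹ (afn_mem α hx.2) (v := Xy y) rfl ⟨e.symm, (h x hx).symm⟩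
    rw [afn_inv_afn _ hx.2] at a
    rw [(qc_conj α hb (u := Xy y) rfl).1, a.1, hx.1, mul_zero, neg_zero, o, add_zero]
    rfl
  generalize α * cQ (Xb b hb) * α⁻¹ = T at hz hw hy ⊢
  obtain ⟨μ, ν, e⟩ := exists_lin (f := fun w => (afn T (Xw w)).y)
    (fun w w' => (qc_add T (u := Xw w) (v := Xw w') (x := Xw (w + w')) rfl rfl rfl (by simp only [UE, and_self])).1)
    fun s w hs => (lin hz (u := Xw (s * w)) (v := Xw w) rfl rfl hs (by simp only [UE, and_self])).1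
  have hw' : ∀ w, (afn T (Xw w)).w = w := fun w => hw (Xw w) rfl
  have hμ : σ μ = -μ := pure_of_iso (n := ν) fun y y' => by
    have a := qc_com T (u := Xw y) (v := Xw y') ⟨rfl, rfl⟩ ⟨rfl, rfl⟩
    simp only [hf, hw', e] at a
    rwa [add_comm (y * _)]
  refine ⟨μ, ν, hμ, fun h2 => zero_of_sq h2 fun y => ?_, fun u hu => ⟨?_, hw u hu⟩⟩
  · have a := qc_sq h2 T (u := Xw y) ⟨rfl, rfl⟩
    simp only [hw', e, UE, hμ] at a
    linear_combination a + μ * y * σ y * h2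
  · have a := (qc_add T (u := Xy u.y) (v := Xw u.w) rfl rfl hu (by simp only [UE, and_self])).1
    rw [a, hy, e, add_assoc]

/-- PROOF.  `dickson` with `X = {f | ∃ β ∈ A, ∀ u ∈ Qs, f (u.y, u.w / θ) = ((β u).y, (β u).w / θ)}` (evaluate at `u = Xq y (θ z)`), `m = μ θ`, `η = -ν θ`.
`hx`: `cQ (Xb (-(s θ)))`.  `hy`: `α * cQ (Xb (s b)) * α⁻¹` with `s` from `semi' α` for `r`: `u⁻¹ * τ u = α (D (α⁻¹ u))`, `D v ≡ (0, -b v.y)`.  `h1`: `G.np`; `h2'`: `G.nm`. -/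
theorem nu_zero (h2 : (2 : K) ≠ 0) (h3 : G3 K) (G : Gd A) (hα : α ∈ A) {b : K} (hb : σ b = -b) {μ ν : K} (hμ : σ μ = -μ)
    (h : ∀ u ∈ Qs, (afn (α * cQ (Xb b hb) * α⁻¹) u).y = u.y + μ * u.w + ν * σ u.w ∧
      (afn (α * cQ (Xb b hb) * α⁻¹) u).w = u.w) : ν = 0 := by
  obtain ⟨θ, h0, hθ⟩ := exists_pure (K := K)
  have ev : ∀ z : K, θ * z / θ = z := fun z => mul_div_cancel_left₀ z h0
  have key := dickson h2 h3 (m := μ * θ) (η := -(ν * θ)) (by simp only [UE, hμ, hθ]; ring)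
    (X := {f | ∃ β ∈ A, ∀ u ∈ Qs, f (u.y, u.w / θ) = ((afn β u).y, (afn β u).w / θ)}) ?_ ?_ ?_ ?_ ?_
  · exact (mul_eq_zero.1 (neg_eq_zero.1 key)).resolve_right h0
  · rintro f ⟨β, hβ, e⟩ g ⟨β', hβ', e'⟩
    exact ⟨β * β', mul_mem hβ hβ', fun u hu => by rw [Function.comp_apply, e' u hu, e _ (afn_mem β' hu), afn_mul _ _ hu]⟩
  · intro s hs
    refine ⟨cQ (Xb (-(s * θ)) (by simp only [UE, hs, hθ]; ring)), G.cj _, fun u hu => ?_⟩
    simp only [cjQ _ hu, UE, Prod.mk.injEq, true_and]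
    field_simp
    ring
  · intro r hr
    obtain ⟨s, hs, k⟩ := semi' α hr
    refine ⟨α * cQ (Xb (s * b) (by simp only [UE, hs, hb]; ring)) * α⁻¹, mul_mem (mul_mem hα (G.cj _)) (inv_mem hα), fun u hu => ?_⟩
    have a := qc_conj α hb hu
    have c := k (Xw (-(s * b * (afn α⁻¹ u).y))) rfl (Xw (-(b * (afn α⁻¹ u).y))) rfl (by simp only [UE, true_and]; ring)
    rw [(h u hu).1, (h u hu).2] at a
    rw [(qc_conj α _ hu).1, (qc_conj α _ hu).2, c.1, c.2, ← add_left_cancel (a.1.symm.trans (add_assoc ..)).symm,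
      left_eq_add.1 a.2]
    simp only [UE, hθ, Prod.mk.injEq, and_true]
    field_simp
  · rintro g ⟨β, hβ, e⟩ z hz k z'
    have a := fun z => e (Xw (θ * z)) rfl
    simp only [UE, ev] at a
    rw [a] at k ⊢
    by_cases c : PQ β
    · exact (c _ ⟨rfl, rfl⟩).1
    · exact absurd (G.np β hβ c (Xw (θ * z)) ⟨rfl, rfl⟩ ⟨k, afn_mem β rfl⟩).2.2 (mul_ne_zero h0 hz)
  · rintro g ⟨β, hβ, e⟩ k
    have c : PQ β := fun x hx => ⟨by have := k (x.w / θ); rwa [← hx.1, e x hx.2, hx.1] at this, afn_mem β hx.2⟩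
    obtain ⟨s, hs, l⟩ := G.nm β hβ c θ hθ
    refine ⟨s, hs, fun y => ?_⟩
    have a := e (Xw (θ * y)) rfl
    have a' := e (Xy y) rfl
    simp only [UE, ev, zero_div] at a a'
    rw [a, a', l]
    field_simp

/-- PROOF.  `tau_act`, `nu_zero`: `τ b` acts as `y ↦ y + μ b * w`.  `μ b = μ b'` gives `τ b * (τ b')⁻¹ ∈ OQ K`, so `cQ (Xb b * (Xb b')⁻¹) ∈ OQ K`, `b = b'` (`cQ_mem_OQ`).
`surj_pure`: `μ b₁ = -b`, so `(τ b₁)⁻¹ * (ω0 K * cQ (Xb b) * ω0 K) ∈ OQ K`; `ω_rel`. -/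
theorem stdQ (h3 : G3 K) (G : Gd A) (hα : α ∈ A) (h : ∀ x ∈ Z2, (afn α x).w = 0) {b : Kˣ} (hb : σ (b : K) = -b) :
    ω0 K * rQ (g2 b) ∈ A := by
  have t : ∀ (b : K) (hb : σ b = -b), ∃ μ, σ μ = -μ ∧ ∀ u ∈ Qs, (afn (α * cQ (Xb b hb) * α⁻¹) u).y = u.y + μ * u.w ∧
      (afn (α * cQ (Xb b hb) * α⁻¹) u).w = u.w := fun b hb => by
    obtain ⟨μ, ν, h1, h2, k⟩ := tau_act h hb
    obtain rfl : ν = 0 := by
      by_cases c : (2 : K) = 0
      · exact h2 c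
      · exact nu_zero c h3 G hα hb h1 k
    exact ⟨μ, h1, by simpa only [zero_mul, add_zero] using k⟩
  choose μ hμ k using t
  obtain ⟨b₁, hb₁, e⟩ := surj_pure μ hμ (fun b hb b' hb' e => by
    have hu := afn_mem α (x := Xy 1) rfl
    have a := qc_conj α hb hu
    have a' := qc_conj α hb' hu
    rw [(k _ _ _ hu).1, (k _ _ _ hu).2, afn_inv_afn _ (x := Xy 1) rfl] at a a'
    have c := qc_inj α (u := Xw (-(b * (Xy 1).y))) (v := Xw (-(b' * (Xy 1).y))) rfl rfl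
      ⟨by rw [e] at a; exact add_left_cancel (a'.1.symm.trans a.1), add_left_cancel (a'.2.symm.trans a.2)⟩
    simpa only [UE, neg_inj] using c.2.symm) (c := -b) (by simp only [UE, hb])
  have hT : α * cQ (Xb b₁ hb₁) * α⁻¹ ∈ A := mul_mem (mul_mem hα (G.cj _)) (inv_mem hα)
  have ho : (α * cQ (Xb b₁ hb₁) * α⁻¹)⁻¹ * (ω0 K * cQ (Xb (b : K) hb) * ω0 K) ∈ OQ K := mem_OQ.2 fun x hx => by
    have a := congQ (α * cQ (Xb b₁ hb₁) * α⁻¹)⁻¹ (afn_mem (α * cQ (Xb b₁ hb₁) * α⁻¹) hx)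
      (afn_mem (ω0 K * cQ (Xb (b : K) hb) * ω0 K) hx) (by
        rw [(k _ _ _ hx).1, (k _ _ _ hx).2, e, afn_mul _ _ hx, afn_ω0 hx, afn_mul _ _ (ω_mem _), afn_ω0 (afn_mem _ (ω_mem _))]
        have c := cjQ (Xb (b : K) hb) (ω_mem x)
        refine ⟨c.2.trans ?_, c.1⟩
        simp only [ω, UE]
        ring)
    rwa [afn_inv_afn _ hx, ← afn_mul _ _ hx] at a
  have hm := mul_mem hT (G.oq ho)
  have h' : σ (b : K)⁻¹ = -(b : K)⁻¹ := by simp only [UE, hb, inv_neg]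
  rw [mul_inv_cancel_left, ω_rel hb (h' := h')] at hm
  exact (A.mul_mem_cancel_left (G.cj _)).1 ((A.mul_mem_cancel_right (G.cj _)).1 hm)

end Cfsg.Agent.U4F
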