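import Cfsg.Agent.U4F.QB
import Cfsg.Agent.U4F.QC

/-!
The torus and the reflection in the automizer of `Q`.
Read the headers and signatures of `U4F/U`, `U4F/Def`, `U5F/Gen`.  `k` is the fixed field of `σ`, "pure" is `σ b = -b`, `N t = t * σ t`,
`ι` is from `exists_ι`, `θ` from `exists_pure`, `≡` is equality of the coordinates `y, w`.  Tools: `simp only [mem_X, UE, UV, h..]` then `ring`,
`field_simp`, `grind`; `afn_mul`, `afn_mem`, `afn_cm`, `afn_dv`, `afn_res`, `afn_inv_afn`, `homOn_afn`, `cjQ`, `congQ`, `mem_OQ`, `com_Q`, `cm_cQ`,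
`eq_zero_of_real`, `exists_pr`, `surj_pure`. `U5F/QD` is similar.
-/

set_option autoImplicit false
set_option linter.unusedSectionVars false
set_option linter.unusedSimpArgs false

namespace Cfsg.Agent.U4F

open Subgroup Cfsg.Agent.RFS Cfsg.Agent.Fus Cfsg.Agent.U5F

variable {K : Type*} [Field K] [Cj K] {p : ℕ} [Fact p.Prime] [CharP K p] {A₀ : Subgroup (MulAut (U K))}
  {A : Subgroup (MulAut (Qs : Subgroup (U K)))} {α β : MulAut (Qs : Subgroup (U K))}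

theorem qd_dec (h : β ∈ A ⊔ OQ K) : ∃ a ∈ A, (∃ o ∈ OQ K, a * o = β) ∧
    ∀ x ∈ Qs, (afn β x).y = (afn a x).y ∧ (afn β x).w = (afn a x).w := by
  obtain ⟨a, ha, o, ho, rfl⟩ := mem_sup_of_normal_right.1 h
  exact ⟨a, ha, ⟨o, ho, rfl⟩, fun x hx => by
    rw [afn_mul _ _ hx]; exact congQ a hx (afn_mem o hx) (mem_OQ.1 ho x hx)⟩

theorem qd_ext (h₀ : SA p A₀) (hf : Form A₀) (L : Lc p A₀ Qs A) (h : β ∈ A ⊔ OQ K) (hβ : PQ β) :
    ∃ (g : U K) (r t : Kˣ) (f : K ≃+* K), tf r t f ∈ A₀ ∧ ∀ x ∈ Qs, (afn β x).y = r * f x.y ∧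
      (afn β x).w = r * t * σ (t : K) * f x.w - g.b * (r * f x.y) := by
  obtain ⟨a, ha, ⟨o, ho, e⟩, k⟩ := qd_dec h
  obtain ⟨φ, h1, rfl⟩ := extQ h₀ L ha (by
    rw [eq_mul_inv_of_mul_eq e]; exact hβ.mul (pq_OQ ho).inv)
  obtain ⟨g, r, t, f, rfl⟩ := hf φ h1
  refine ⟨g, r, t, f, (A₀.mul_mem_cancel_left (h₀.conj g)).1 h1, fun x hx => ?_⟩
  rw [(k x hx).1, (k x hx).2, map_mul, afn_mul _ _ hx, (cjQ g (afn_mem _ hx)).1, (cjQ g (afn_mem _ hx)).2,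
    afn_res _ hx]
  exact ⟨rfl, rfl⟩

theorem qd_un (m : K) {x : U K} (hx : x ∈ Qs) :
    (afn (rQ (un m)) x).y = x.y ∧ (afn (rQ (un m)) x).w = x.w + 2 * m * σ x.y := by
  rw [afn_res _ hx]; exact ⟨rfl, rfl⟩

theorem qd_un' (m : K) {x : U K} (hx : x ∈ Qs) :
    (afn (rQ (un m))⁻¹ x).y = x.y ∧ (afn (rQ (un m))⁻¹ x).w = x.w - 2 * m * σ x.y := by
  rw [← map_inv, afn_res _ hx]; exact ⟨rfl, rfl⟩

/-- PROOF.  `β ∈ A ⊔ OQ K` is `a * o` (`mem_sup_of_normal_right`, or `Subgroup.mul_normal`).  `u = rQ (un m)` has `PQ u`, acts trivially on `y` and on `Z2`, and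
`u * cQ g * u⁻¹ = cQ (un m g)` (`res_conj`).  `np`: `nonperpQ`.  `nm`: `a = rQ (conj g * tf r t f)` (`extQ`, `hf`), `s = N t * f θ / θ`. -/
theorem gd_conj (h3 : G3 K) (h₀ : SA p A₀) (hf : Form A₀) (L : Lc p A₀ Qs A) (m : K) :
    Gd ((A ⊔ OQ K).comap (MulAut.conj (rQ (un m))).toMonoidHom) := by
  have pu := pq_res (un m)
  have key : ∀ β : MulAut (Qs : Subgroup (U K)), ∀ x ∈ Qs,
      afn (rQ (un m) * β * (rQ (un m))⁻¹) (afn (rQ (un m)) x) = afn (rQ (un m)) (afn β x) := fun β x hx => by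
    rw [afn_mul _ _ (afn_mem _ hx), afn_inv_afn _ hx, afn_mul _ _ hx]
  refine ⟨fun g => ?_, fun β hβ => mem_sup_right ((inferInstance : (OQ K).Normal).conj_mem β hβ _),
    fun β hβ hn x hx e => ?_, fun β hβ hp θ hθ => ?_⟩
  · show rQ (un m) * cQ g * (rQ (un m))⁻¹ ∈ A ⊔ OQ K
    rw [res_conj]
    exact mem_sup_left (L.cj h₀ _)
  · obtain ⟨a, ha, ⟨o, ho, e1⟩, k⟩ := qd_dec (β := rQ (un m) * β * (rQ (un m))⁻¹) hβ
    have n : ¬ PQ a := fun c => hn (by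
      rw [show β = (rQ (un m))⁻¹ * (a * o) * rQ (un m) by rw [e1]; group]
      exact (pu.inv.mul (c.mul (pq_OQ ho))).mul pu)
    have x1 := pu x hx
    have := nonperpQ h3 h₀ L ha n x1 ⟨by
      rw [← (k _ x1.2).1, key β x hx.2]; exact (pu _ e).1, mem_Qs.1 (afn_mem a x1.2)⟩
    rw [← afn_inv_afn (rQ (un m)) hx.2]
    exact chQ_Z1 _ _ x1.2 this
  · obtain ⟨g, r, t, f, -, k⟩ := qd_ext h₀ hf L (β := rQ (un m) * β * (rQ (un m))⁻¹) hβ ((pu.mul hp).mul pu.inv)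
    refine ⟨t * σ (t : K) * f θ / θ, by
      simp only [UE, ← fσ, hθ, map_neg, neg_div_neg_eq, mul_neg]; ring, fun y => ?_⟩
    have a1 : Xw (θ * y) ∈ Qs := rfl
    have a2 : Xy y ∈ Qs := rfl
    have b1 := k _ (afn_mem (rQ (un m)) a1)
    have b2 := (k _ (afn_mem (rQ (un m)) a2)).1
    rw [key β _ a1, (qd_un m (afn_mem β a1)).1, (qd_un m (afn_mem β a1)).2, (qd_un m a1).1, (qd_un m a1).2] at b1
    rw [key β _ a2, (qd_un m (afn_mem β a2)).1, (qd_un m a2).1] at b2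
    obtain ⟨b0, b1⟩ := b1
    rw [b0] at b1
    simp only [UE, map_zero, map_mul] at b1 b2
    rw [b1, b2]
    by_cases c : θ = 0
    · simp only [c, map_zero, UE]
    · field_simp

/-- PROOF.  `u * rQ (g2 e) * u⁻¹ = a * o`, `a = rQ (conj g * tf r t f)`.  On `Qs / Z1` the left side is `(y, w) ↦ (e⁻¹ y, e w + 2 m (e⁻¹ - e) σ y)`, the right side
`(r f y, r N t f w - g.b r f y)`.  So `r = e⁻¹`, `f = 1`, `N t = N e`, `tf r t f = g2 e` (`tf_congr`), and `ind_σ`. -/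
theorem g2_of_mem (h₀ : SA p A₀) (hf : Form A₀) (L : Lc p A₀ Qs A) {m : K} {e : Kˣ} (he : σ (e : K) = e)
    (h : rQ (un m) * rQ (g2 e) * (rQ (un m))⁻¹ ∈ A ⊔ OQ K) : g2 e ∈ A₀ ∧ 2 * m * ((e : K)⁻¹ - e) = 0 := by
  have pu := pq_res (un m)
  obtain ⟨g, r, t, f, h1, k⟩ := qd_ext h₀ hf L h ((pu.mul (pq_res _)).mul pu.inv)
  have k' : ∀ y w : K, (e : K)⁻¹ * y = r * f y ∧
      e * (w - 2 * m * σ y) + 2 * m * ((e : K)⁻¹ * σ y) = r * t * σ (t : K) * f w - g.b * (r * f y) := fun y w => by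
    have a : Xq y w ∈ Qs := rfl
    have b := k _ a
    have c := afn_mem (rQ (un m))⁻¹ a
    rw [afn_mul _ _ a, afn_mul _ _ c, (qd_un m (afn_mem _ c)).1, (qd_un m (afn_mem _ c)).2, afn_res _ c] at b
    simp only [g2, tf_apply, tfn, (qd_un' m a).1, (qd_un' m a).2, UE, UV, he, e.ne_zero, ne_eq, not_false_eq_true,
      inv_mul_cancel₀] at b
    exact b
  have e0 := e.ne_zero
  have r1 : (r : K) = (e : K)⁻¹ := by simpa using (k' 1 0).1.symm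
  obtain rfl : f = 1 := RingEquiv.ext fun y => by
    have := (k' y 0).1
    rw [r1] at this
    exact (mul_left_cancel₀ (inv_ne_zero e0) this).symm
  have t1 : (t : K) * σ (t : K) = e * σ (e : K) := by
    have := (k' 0 1).2
    simp only [UE, map_zero, map_one, r1] at this
    rw [he]
    field_simp at this
    linear_combination -this
  refine ⟨by rwa [g2, ← tf_congr (r' := e⁻¹) (by rw [r1, Units.val_inv_eq_inv_val]) t1],
    (ind_σ (b := -(g.b * r)) fun y => ?_).1⟩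
  have := (k' y 0).2
  simp only [UE, map_zero, RingAut.one_apply] at this
  linear_combination this

/-- PROOF.  `graph` (`nonperpQ`), `2 m = n`, `u = rQ (un m)`, `A'` as in `gd_conj`.  `α' = cQ (Xb γ) * (u⁻¹ * α * u) ∈ A'` maps `Z2` into `{w = 0}`.  `stdQ` for `ϑ` and
`ϑ * e`: `rQ (g2 e) ∈ A'` (`g2_mul`); `g2_of_mem`.  With `e` from `h3`: `2 m = 0`, so `u ∈ OQ K`, and `ωQ K ∈ A ⊔ OQ K`. -/
theorem torQ (h3 : G3 K) (h₀ : SA p A₀) (hf : Form A₀) (L : Lc p A₀ Qs A) (hα : α ∈ A) (hn : ¬ PQ α) :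
    (∃ γ : K, σ γ = -γ ∧ ∀ x ∈ Z2, (afn α x).w = γ * (afn α x).y) ∧ (∀ e : Kˣ, σ (e : K) = e → g2 e ∈ A₀) ∧
      ∃ a ∈ A, (ωQ K)⁻¹ * a ∈ OQ K := by
  obtain ⟨γ, n, hγ, h2, k⟩ := graph fun x hx e => nonperpQ h3 h₀ L hα hn hx e
  obtain ⟨m, rfl⟩ : ∃ m : K, n = 2 * m := by
    by_cases c : (2 : K) = 0
    · exact ⟨0, by rw [h2 c, mul_zero]⟩
    · exact ⟨n / 2, by field_simp⟩
  have G := gd_conj h3 h₀ hf L m
  have m1 : cQ (Xb γ hγ) * ((rQ (un m))⁻¹ * α * rQ (un m)) ∈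
      (A ⊔ OQ K).comap (MulAut.conj (rQ (un m))).toMonoidHom := Subgroup.mul_mem _ (G.cj _) (by
    show rQ (un m) * ((rQ (un m))⁻¹ * α * rQ (un m)) * (rQ (un m))⁻¹ ∈ A ⊔ OQ K
    rw [show ∀ u : MulAut (Qs : Subgroup (U K)), u * (u⁻¹ * α * u) * u⁻¹ = α from fun u => by group]
    exact mem_sup_left hα)
  have st := fun b => stdQ (b := b) h3 G m1 fun x hx => by
    have x1 := pq_res (un m) x hx
    have x2 := afn_mem α x1.2
    rw [afn_mul _ _ hx.2, (cjQ _ (afn_mem _ hx.2)).2, afn_mul _ _ hx.2, afn_mul _ _ x1.2, (qd_un' m x2).1,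
      (qd_un' m x2).2, k _ x1]
    simp only [UE]
    ring
  have g2m : ∀ e : Kˣ, σ (e : K) = e → g2 e ∈ A₀ ∧ 2 * m * ((e : K)⁻¹ - e) = 0 := fun e he => by
    have := Subgroup.mul_mem _ (Subgroup.inv_mem _ (st ϑ σϑ)) (st (ϑ * e) (by simp only [UV, UE, he, σϑ, neg_mul]))
    rw [← g2_mul, map_mul, ← mul_assoc (ω0 K), inv_mul_cancel_left] at this
    exact g2_of_mem h₀ hf L he this
  obtain ⟨s, s1, s2, s3⟩ := h3
  have m0 : 2 * m = 0 := (mul_eq_zero.1 (g2m (Units.mk0 s s2) s1).2).resolve_right fun c => s3 (by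
    rw [Units.val_mk0, sub_eq_zero] at c
    rw [pow_two]
    nth_rewrite 1 [← c]
    exact inv_mul_cancel₀ s2)
  refine ⟨⟨γ, hγ, fun x hx => by rw [k x hx, m0, zero_mul, add_zero]⟩, fun e he => (g2m e he).1, ?_⟩
  have uo : rQ (un m) ∈ A ⊔ OQ K := mem_sup_right (mem_OQ.2 fun x hx => by
    rw [(qd_un m hx).1, (qd_un m hx).2, m0, zero_mul, add_zero]; exact ⟨rfl, rfl⟩)
  have w : rQ (un m) * ωQ K * (rQ (un m))⁻¹ ∈ A ⊔ OQ K := st ϑ σϑ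
  rw [Subgroup.mul_mem_cancel_right _ (Subgroup.inv_mem _ uo), Subgroup.mul_mem_cancel_left _ uo] at w
  obtain ⟨a, ha, ⟨o, ho, e⟩, -⟩ := qd_dec w
  exact ⟨a, ha, by rw [← e, mul_inv_rev, inv_mul_cancel_right]; exact (OQ K).inv_mem ho⟩

/-- `Lc.exists_not_res`, `extQ`. -/
theorem exists_not_PQ (h₀ : SA p A₀) (L : Lc p A₀ Qs A) : ∃ α ∈ A, ¬ PQ α := 
  let ⟨α, hα, n⟩ := L.exists_not_res; ⟨α, hα, fun h => n (extQ h₀ L hα h)⟩

/-- PROOF.  `extQ`; `(ωQ K)⁻¹ * cQ (Xb γ) * α` has `PQ`: `ωQ K` maps `x ∈ Qs` to `w = ϑ⁻¹ x.y` (`afn_ωQ`). -/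
theorem genQ_of (h₀ : SA p A₀) (L : Lc p A₀ Qs A) (hω : ωQ K ∈ A) (hα : α ∈ A)
    (h : ¬ PQ α → ∃ γ : K, σ γ = -γ ∧ ∀ x ∈ Z2, (afn α x).w = γ * (afn α x).y) :
    ∃ φ ∈ A₀, α = rQ φ ∨ ∃ g, α = cQ g * ωQ K * rQ φ := by
  by_cases hp : PQ α
  · obtain ⟨φ, h1, e⟩ := extQ h₀ L hα hp
    exact ⟨φ, h1, .inl e.symm⟩
  obtain ⟨γ, hγ, k⟩ := h hp
  obtain ⟨φ, h1, e⟩ := extQ h₀ L (A.mul_mem (A.inv_mem hω) (A.mul_mem (L.cj h₀ (Xb γ hγ)) hα)) fun x hx => by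
    have x1 := afn_mem (cQ (Xb γ hγ) * α) hx.2
    have x2 := afn_mem (ωQ K)⁻¹ x1
    have e := congrArg U.w (afn_afn_inv (ωQ K) x1)
    rw [afn_ωQ x2] at e
    rw [afn_mul _ _ hx.2]
    generalize afn (ωQ K)⁻¹ (afn (cQ (Xb γ hγ) * α) x) = z at x2 e
    rw [afn_mul _ _ hx.2, (cjQ _ (afn_mem _ hx.2)).2, k x hx] at e
    simp only [ω, g2, tf_apply, tfn, UE, UV, sub_self, mul_eq_zero, inv_eq_zero, Units.ne_zero, false_or] at e
    exact ⟨e, x2⟩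
  refine ⟨φ, h1, .inr ⟨(Xb γ hγ)⁻¹, ?_⟩⟩
  rw [e, cQ, map_inv, map_inv]
  group

theorem genQ (h3 : G3 K) (h₀ : SA p A₀) (hf : Form A₀) (L : Lc p A₀ Qs A) (hω : ωQ K ∈ A) (hα : α ∈ A) :
    ∃ φ ∈ A₀, α = rQ φ ∨ ∃ g, α = cQ g * ωQ K * rQ φ :=
  genQ_of h₀ L hω hα fun hn => (torQ h3 h₀ hf L hα hn).1

end Cfsg.Agent.U4F
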