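import Cfsg.Agent.U4F.ET
import Cfsg.Agent.U4F.AC
import Cfsg.Agent.U4F.QD
import Cfsg.Agent.U4F.AutS
import Cfsg.Agent.U4F.Mod
import Cfsg.Agent.U5F.Fin

/-! Every saturated fusion system on the Sylow `p`-subgroup of `SU₄(q)`, `q > 3`, is realizable. -/

set_option autoImplicit false
set_option linter.unusedSectionVars false

namespace Cfsg.Agent.U4F

open Subgroup Cfsg.Agent.RFS Cfsg.Agent.Fus Cfsg.FusionSystem Cfsg.Agent.SpF Cfsg.Agent.U5F

variable {p : ℕ} [Fact p.Prime] {K : Type*} [Field K] [Cj K] [CharP K p] {F F' : FusionSystem (⊤ : Subgroup (U K))}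

theorem pT : IsPGroup p (⊤ : Subgroup (U K)) := (isPGroup_U p).to_subgroup _

theorem ess_QA (hq : G2 K) (hF : F.IsSaturated p) {E : Subgroup (U K)} (hE : F.IsEssential p E) : E = Qs ∨ E = As :=
  (ess hF hE).imp_right fun h => h.resolve_right fun k => k.1 hq

/-- The fusion system of `SU₄(q) Θ`. -/
theorem exists_model {A₀ : Subgroup (MulAut (U K))} (h₀ : SA p A₀) (hf : Form A₀) (hT : T0 K ≤ A₀) :
    ∃ F₀ : FusionSystem (⊤ : Subgroup (U K)), F₀.IsRealizable p ∧ F₀.IsSaturated p ∧ AS F₀ = A₀ ∧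
      ωQ K ∈ F₀.autGroup Qs ∧ ψA K ∈ F₀.autGroup As := by
  obtain ⟨G, _, _, ι, hι, hi, ⟨w, hw⟩, ⟨n, hn⟩, h1, h2⟩ := exists_mod inf_le_right (not_dvd_TF h₀)
  let j := ι.comp (⊤ : Subgroup (U K)).subtype
  have hr : j.range = ι.range := by rw [MonoidHom.range_comp, range_subtype, ← MonoidHom.range_eq_map]
  obtain ⟨b, hb⟩ := gIso_of_injective j (hι.comp Subtype.val_injective)
  obtain ⟨F₀, h⟩ := exists_fIso (groupFusionSystem j.range) hb.symm
  have h3 : F₀.IsRealizedBy j := isRealizedBy_of_fIso h.symm fun x => (hfn_apply j x.2).symm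
  have h4 : ∃ T : Sylow p G, (T : Subgroup G) = j.range :=
    ⟨((isPGroup_U p).of_surjective _ ι.rangeRestrict_surjective).toSylow hi, hr.symm⟩
  have e : ∀ x, hfn j x = ι x := fun x => hfn_apply j (mem_top x)
  have k : ∀ {P f} (g : G), (∀ u ∈ P, g * ι u * g⁻¹ = ι (f u)) → IsMap F₀ P f := fun g hg =>
    IsRealizedBy_isMap h3 le_top (fun _ _ => trivial) g fun z hz => by rw [e, e, hg z hz]
  refine ⟨F₀, isRealizable_of_isRealizedBy h3 h4, saturated_of_isRealizedBy h3 h4, le_antisymm (fun φ hφ => ?_) fun φ hφ => ?_,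
    mem_autGroup_of_isMap (k w hw) fun _ _ => rfl, mem_autGroup_of_isMap (k n hn) fun _ => afn_ψA⟩
  · obtain ⟨g, hg⟩ := IsRealizedBy_exists_conj h3 hφ
    obtain ⟨s, t, ht, θ, hθ, h6⟩ := h2 g φ fun u => by rw [← e, ← e, hg u trivial]
    rw [show φ = MulAut.conj s * (t * θ) from MulEquiv.ext h6]
    exact mul_mem (h₀.conj s) (mul_mem (hT ht) hθ.1)
  · obtain ⟨g, r, s, f, rfl⟩ := hf φ hφ
    obtain ⟨x, hx⟩ := h1 _ ⟨(mul_mem_cancel_left (h₀.conj g)).1 hφ, r, s, f, rfl⟩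
    exact mul_mem (conj_mem_AS F₀ g) (k x fun u _ => hx u)

/-- Alperin's fusion theorem; `hQ` is `genQ` or `genQ_of`. -/
theorem le_of (hq : G2 K) (hF : F.IsSaturated p) (h : AS F ≤ AS F')
    (hQ : F.IsEssential p Qs → ∀ α ∈ F.autGroup Qs, ∃ φ ∈ AS F, α = rQ φ ∨ ∃ g, α = cQ g * ωQ K * rQ φ)
    (hψ : ψA K ∈ F.autGroup As) (hω' : ωQ K ∈ F'.autGroup Qs) (hψ' : ψA K ∈ F'.autGroup As) : F ≤ F' := by
  refine alperin_le pT hF F' ?_
  rintro P (rfl | hP) α hα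
  · obtain ⟨φ, h1, h2⟩ := exists_AS ((mem_autGroup le_rfl).1 hα)
    exact mem_autGroup_of_isMap (h h1) fun x _ => (h2 x).symm
  obtain rfl | rfl := ess_QA hq hF hP
  · obtain ⟨φ, h1, rfl | ⟨g, rfl⟩⟩ := hQ hP α hα
    exacts [res_mem (h h1), mul_mem (mul_mem (res_mem (conj_mem_AS F' g)) hω') (res_mem (h h1))]
  · obtain ⟨φ, h1, rfl | ⟨g, rfl⟩⟩ := genA hq (sa_AS pT hF) (lc_AS pT hF hP) hψ hα
    exacts [res_mem (h h1), mul_mem (mul_mem (res_mem (conj_mem_AS F' g)) hψ') (res_mem (h h1))]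

theorem real_of (h3 : G3 K) (hF : F.IsSaturated p) (hf : Form (AS F)) (hT : T0 K ≤ AS F)
    (hω : ωQ K ∈ F.autGroup Qs) (hψ : ψA K ∈ F.autGroup As) : F.IsRealizable p := by
  obtain ⟨F₀, h1, h2, e, hω', hψ'⟩ := exists_model (sa_AS pT hF) hf hT
  rwa [fs_le_antisymm
    (le_of h3.g2 hF e.ge (fun k _ => genQ h3 (sa_AS pT hF) hf (lc_AS pT hF k) hω) hψ hω' hψ')
    (le_of h3.g2 h2 e.le (fun k _ => genQ h3 (sa_AS pT h2) (e ▸ hf) (lc_AS pT h2 k) hω') hψ' hω hψ)]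

/-- If `A` is not essential. -/
theorem real_of_not_A (hq : G2 K) (hF : F.IsSaturated p) (h : ¬ F.IsEssential p As) : F.IsRealizable p := by
  refine isRealizable_of_uniq pT hF (Q := Qs) (fun x hx => ?_)
    (fun E hE => (ess_QA hq hF hE).resolve_right fun e => h (e ▸ hE)) fun φ _ x hx => chr_mem φ hx
  have b := congrArg U.w (hx (Xy 1) rfl)
  simp only [UE] at b
  exact (by grind : x.b = 0)

/-- If `Q` is not essential. -/
theorem real_of_not_Q (hq : G2 K) (hF : F.IsSaturated p) (h : ¬ F.IsEssential p Qs) : F.IsRealizable p :=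
  isRealizable_of_uniq pT hF (Q := As) (fun _ hx => mem_As_of_comm fun _ => (hx _ rfl).symm)
    (fun _ hE => (ess_QA hq hF hE).resolve_left fun e => h (e ▸ hE)) fun φ _ _ hx => chr_mem φ hx

/-- Reduction to systems with `Form` in which `Q` and `A` are essential. -/
theorem real_of_form (hq : G2 K) (h : ∀ F : FusionSystem (⊤ : Subgroup (U K)), F.IsSaturated p → Form (AS F) →
    F.IsEssential p Qs → F.IsEssential p As → F.IsRealizable p) (hF : F.IsSaturated p) : F.IsRealizable p := by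
  by_cases hA : F.IsEssential p As
  swap
  · exact real_of_not_A hq hF hA
  by_cases hQ : F.IsEssential p Qs
  swap
  · exact real_of_not_Q hq hF hQ
  obtain ⟨γ, hγ⟩ := exists_form (sa_AS pT hF)
  obtain ⟨F₁, e⟩ := exists_push' (F' := F) γ
  exact isRealizable_of_push e (h F₁ (e.saturated hF) (fun φ hφ => hγ φ (push_AS e hφ)) (imX_chr γ Qs ▸ e.essential hQ)
    (imX_chr γ As ▸ e.essential hA))

theorem isRealizable_U (h3 : G3 K) (hF : F.IsSaturated p) : F.IsRealizable p := by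
  refine real_of_form h3.g2 (fun F hF f hQ hA => ?_) hF
  have a := sa_AS pT hF
  have lQ := lc_AS pT hF hQ
  obtain ⟨α, hα, hn⟩ := exists_not_PQ a lQ
  obtain ⟨-, t2, hω⟩ := torQ h3 a f lQ hα hn
  obtain ⟨t1, hψ⟩ := torA h3 a f (lc_AS pT hF hA) t2
  exact real_of h3 hF f (by rintro _ ⟨d, μ, h, rfl⟩; exact mul_mem (t1 d) (t2 μ h)) (ω_mem_of h3.g2 a lQ t2 hω) hψ

end Cfsg.Agent.U4F
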