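import Cfsg.Agent.U4F.Def

/-!
The matrix model: `GJ K` is the unitary group of the antidiagonal form, `NM : U K →* GL (Fin 4) K`.
Entries: `ext i j; fin_cases i <;> fin_cases j <;> simp [Matrix.mul_apply, Fin.sum_univ_four, ..] <;> ring`.
-/

set_option autoImplicit false
set_option linter.unusedSectionVars false
set_option linter.unusedSimpArgs false

namespace Cfsg.Agent.U4F

open Subgroup Matrix Cfsg.Agent.U5F Cfsg.Agent.Fus

variable {K : Type*} [Field K] [Cj K]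

/-- The matrix of `u`. -/
def mat (u : U K) : Matrix (Fin 4) (Fin 4) K :=
  !![1, u.y, u.w, u.c - u.w * σ u.y; 0, 1, u.b, -σ u.w - u.b * σ u.y; 0, 0, 1, -σ u.y; 0, 0, 0, 1]

/-- The Gram matrix. -/
def JJ (K : Type*) [Field K] : Matrix (Fin 4) (Fin 4) K := !![0, 0, 0, 1; 0, 0, 1, 0; 0, 1, 0, 0; 1, 0, 0, 0]

theorem mat_mul (u v : U K) : mat (u * v) = mat u * mat v := by
  ext i j
  fin_cases i <;> fin_cases j <;> simp [mat, Matrix.mul_apply, Fin.sum_univ_four, UE] <;> ring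

theorem mat_one : mat (1 : U K) = 1 := by
  ext i j
  fin_cases i <;> fin_cases j <;> simp [mat, UE]

/-- The embedding. -/
def NM : U K →* GL (Fin 4) K := MonoidHom.toHomUnits ⟨⟨mat, mat_one⟩, mat_mul⟩

theorem NM_val (u : U K) : (NM u : Matrix (Fin 4) (Fin 4) K) = mat u := rfl

/-- The unitary group. -/
def GJ (K : Type*) [Field K] [Cj K] : Subgroup (GL (Fin 4) K) where
  carrier := {M | (M : Matrix (Fin 4) (Fin 4) K)ᵀ * JJ K * (M : Matrix (Fin 4) (Fin 4) K).map σ = JJ K}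
  one_mem' := by simp
  mul_mem' {M N} hM hN := by
    simp only [Set.mem_ofPred_eq, Units.val_mul, transpose_mul, Matrix.map_mul] at hM hN ⊢
    conv_rhs => rw [← hN, ← hM]
    simp only [Matrix.mul_assoc]
  inv_mem' {M} hM := by
    simp only [Set.mem_ofPred_eq] at hM ⊢
    conv_lhs => rw [← hM]
    simp only [Matrix.mul_assoc]
    rw [← Matrix.map_mul, Units.mul_inv, Matrix.map_one _ (map_zero σ) (map_one σ), Matrix.mul_one, ← Matrix.mul_assoc,
      ← transpose_mul, Units.mul_inv, transpose_one, Matrix.one_mul]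

theorem mem_GJ {M : GL (Fin 4) K} :
    M ∈ GJ K ↔ (M : Matrix (Fin 4) (Fin 4) K)ᵀ * JJ K * (M : Matrix (Fin 4) (Fin 4) K).map σ = JJ K := Iff.rfl

/-- Diagonal matrices. -/
def dg (t₁ t₂ : Kˣ) : GL (Fin 4) K :=
  ⟨diagonal ![t₁, t₂, (σ (t₂ : K))⁻¹, (σ (t₁ : K))⁻¹], diagonal ![(t₁ : K)⁻¹, (t₂ : K)⁻¹, σ (t₂ : K), σ (t₁ : K)],
    by
      rw [diagonal_mul_diagonal, ← diagonal_one]
      congr 1
      ext i
      fin_cases i <;> simp [σu_ne],
    by
      rw [diagonal_mul_diagonal, ← diagonal_one]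
      congr 1
      ext i
      fin_cases i <;> simp [σu_ne]⟩

theorem dg_val (t₁ t₂ : Kˣ) : (dg t₁ t₂ : Matrix (Fin 4) (Fin 4) K) =
    diagonal ![(t₁ : K), t₂, (σ (t₂ : K))⁻¹, (σ (t₁ : K))⁻¹] := rfl

/-- Field automorphisms. -/
def fA : (K ≃+* K) →* MulAut (GL (Fin 4) K) where
  toFun f := Units.mapEquiv (f.mapMatrix (m := Fin 4)).toMulEquiv
  map_one' := rfl
  map_mul' _ _ := rfl

theorem fA_val (f : K ≃+* K) (M : GL (Fin 4) K) :
    (fA f M : Matrix (Fin 4) (Fin 4) K) = (M : Matrix (Fin 4) (Fin 4) K).map f := rfl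

theorem NM_inj : Function.Injective (NM : U K → GL (Fin 4) K) := fun u v h => by
  have e : ∀ i j, mat u i j = mat v i j := fun i j => by rw [← NM_val, h, NM_val]
  have a := e 0 1
  have b := e 0 2
  have c := e 0 3
  simp only [mat, of_apply, cons_val', cons_val] at a b c
  exact U.ext a (e 1 2) b (by rw [a, b] at c; exact sub_left_injective c)

theorem NM_mem (u : U K) : NM u ∈ GJ K := by
  rw [mem_GJ, NM_val]
  ext i j
  fin_cases i <;> fin_cases j <;> simp [mat, JJ, Matrix.mul_apply, Fin.sum_univ_four, UE] <;> ring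

theorem det_mat (u : U K) : (mat u).det = 1 := by
  rw [det_of_upperTriangular]
  · simp [mat, Fin.prod_univ_four]
  · intro i j h
    fin_cases i <;> fin_cases j <;> simp_all [mat]

theorem dg_mem (t₁ t₂ : Kˣ) : dg t₁ t₂ ∈ GJ K := by
  rw [mem_GJ, dg_val]
  ext i j
  fin_cases i <;> fin_cases j <;> simp [JJ, Matrix.mul_apply, Fin.sum_univ_four, UE, σu_ne]

theorem det_dg (t₁ t₂ : Kˣ) :
    (dg t₁ t₂ : Matrix (Fin 4) (Fin 4) K).det = t₁ * t₂ * (σ (t₂ : K))⁻¹ * (σ (t₁ : K))⁻¹ := by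
  simp [dg_val, Fin.prod_univ_four]

theorem dg_NM (t₁ t₂ : Kˣ) (u : U K) : dg t₁ t₂ * NM u * (dg t₁ t₂)⁻¹ = NM (tf (t₁ * t₂⁻¹) t₂ 1 u) := by
  rw [mul_inv_eq_iff_eq_mul]
  have h1 := σu_ne t₁
  have h2 := σu_ne t₂
  ext i j
  fin_cases i <;> fin_cases j <;> simp [NM_val, dg_val, mat, tf_apply, tfn] <;> field_simp

theorem fA_NM (f : K ≃+* K) (u : U K) : fA f (NM u) = NM (tf 1 1 f u) := by
  ext i j
  fin_cases i <;> fin_cases j <;> simp [fA_val, NM_val, mat, tf_apply, tfn, fσ]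

theorem fA_mem (f : K ≃+* K) {M : GL (Fin 4) K} (h : M ∈ GJ K) : fA f M ∈ GJ K := by
  have e : (JJ K).map f = JJ K := by
    ext i j
    fin_cases i <;> fin_cases j <;> simp [JJ]
  have := congrArg (fun X => X.map f) (mem_GJ.1 h)
  simp only [Matrix.map_mul, e] at this
  rw [mem_GJ, fA_val, ← this, transpose_map, map_map, map_map]
  congr 2
  exact funext fun t => (fσ f t).symm

theorem det_fA (f : K ≃+* K) (M : GL (Fin 4) K) :
    (fA f M : Matrix (Fin 4) (Fin 4) K).det = f (M : Matrix (Fin 4) (Fin 4) K).det := (f.map_det _).symm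

theorem exists_wM : ∃ w ∈ GJ K, (w : Matrix (Fin 4) (Fin 4) K).det = 1 ∧ ∀ u ∈ Qs, w * NM u * w⁻¹ = NM (afn (ωQ K) u) := by
  let W : Matrix (Fin 4) (Fin 4) K := !![1, 0, 0, 0; 0, 0, 1, 0; 0, 1, 0, 0; 0, 0, 0, 1]
  have e : W * W = 1 := by
    ext i j
    fin_cases i <;> fin_cases j <;> simp [W, Matrix.mul_apply, Fin.sum_univ_four]
  let w : GL (Fin 4) K := ⟨W, W, e, e⟩
  have k : ∀ u ∈ Qs, w * NM u * w⁻¹ = NM (ω u) := fun u hu => by
    rw [mul_inv_eq_iff_eq_mul]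
    ext i j
    fin_cases i <;> fin_cases j <;> simp [w, W, NM_val, mat, ω, Matrix.mul_apply, Fin.sum_univ_four, mem_Qs.1 hu] <;> ring
  refine ⟨w * dg 1 ϑ, mul_mem ?_ (dg_mem _ _), ?_, fun u hu => ?_⟩
  · rw [mem_GJ]
    ext i j
    fin_cases i <;> fin_cases j <;> simp [w, W, JJ, Matrix.mul_apply, Fin.sum_univ_four]
  · rw [Units.val_mul, det_mul, det_dg, σϑ]
    simp [w, W, det_succ_row_zero, Fin.sum_univ_succ, Fin.succAbove]
  · rw [afn_ωQ hu, ← k _ (chr_mem _ hu), g2, ← one_mul (ϑ : Kˣ)⁻¹, ← dg_NM]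
    group

theorem exists_nM : ∃ n ∈ GJ K, (n : Matrix (Fin 4) (Fin 4) K).det = 1 ∧ ∀ u ∈ As, n * NM u * n⁻¹ = NM (ψ u) := by
  let W : Matrix (Fin 4) (Fin 4) K := !![0, 1, 0, 0; 1, 0, 0, 0; 0, 0, 0, 1; 0, 0, 1, 0]
  have e : W * W = 1 := by
    ext i j
    fin_cases i <;> fin_cases j <;> simp [W, Matrix.mul_apply, Fin.sum_univ_four]
  refine ⟨⟨W, W, e, e⟩, ?_, ?_, fun u hu => ?_⟩
  · rw [mem_GJ]
    ext i j
    fin_cases i <;> fin_cases j <;> simp [W, JJ, Matrix.mul_apply, Fin.sum_univ_four]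
  · simp [W, det_succ_row_zero, Fin.sum_univ_succ, Fin.succAbove]
  · rw [mul_inv_eq_iff_eq_mul]
    ext i j
    fin_cases i <;> fin_cases j <;> simp [W, NM_val, mat, ψ, Matrix.mul_apply, Fin.sum_univ_four, mem_As.1 hu, UE]

end Cfsg.Agent.U4F
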