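import Cfsg.Agent.U4F.Mat

/-! The normaliser of `NM (U K)` in the unitary group. -/

set_option autoImplicit false
set_option linter.unusedSectionVars false
set_option linter.unusedSimpArgs false

namespace Cfsg.Agent.U4F

open Subgroup Matrix Cfsg.Agent.U5F

universe u

variable {K : Type u} [Field K] [Cj K] {p : ℕ} [Fact p.Prime] [CharP K p]

theorem GJ_entry {M : GL (Fin 4) K} (hM : M ∈ GJ K) (i j : Fin 4) :
    M.1 0 i * σ (M.1 3 j) + M.1 1 i * σ (M.1 2 j) + M.1 2 i * σ (M.1 1 j) + M.1 3 i * σ (M.1 0 j) = JJ K i j := by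
  rw [← mem_GJ.1 hM]
  simp [JJ, Matrix.mul_apply, Fin.sum_univ_four]
  ring

theorem exists_NM {M : GL (Fin 4) K} (hM : M ∈ GJ K) (h : ∀ i j, j < i → (M : Matrix (Fin 4) (Fin 4) K) i j = 0)
    (h' : ∀ i, (M : Matrix (Fin 4) (Fin 4) K) i i = 1) : ∃ s, M = NM s := by
  have e31 := GJ_entry hM 3 1
  have e22 := GJ_entry hM 2 2
  have e32 := GJ_entry hM 3 2
  have e33 := GJ_entry hM 3 3
  simp [JJ, h, h'] at e31 e22 e32 e33
  have a1 : M.1 2 3 = -σ (M.1 0 1) := by linear_combination e31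
  have a2 : σ (M.1 1 2) = -M.1 1 2 := by linear_combination e22
  have a3 : M.1 1 3 = -σ (M.1 0 2) - M.1 1 2 * σ (M.1 0 1) := by
    simp only [a1, a2, UE] at e32; linear_combination e32
  refine ⟨⟨M.1 0 1, M.1 1 2, M.1 0 2, M.1 0 3 + M.1 0 2 * σ (M.1 0 1), a2, ?_⟩, ?_⟩
  · simp only [a1, a2, a3, UE] at e33 ⊢
    linear_combination e33
  · ext i j
    fin_cases i <;> fin_cases j <;> simp [NM_val, mat, h, h', a1, a3]

theorem exists_nor {M : GL (Fin 4) K} (hM : M ∈ GJ K) {φ : U K → U K} (h : ∀ u, M * NM u * M⁻¹ = NM (φ u)) :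
    ∃ (s : U K) (t₁ t₂ : Kˣ), M = NM s * dg t₁ t₂ := by
  have sj : Function.Surjective φ := Finite.surjective_of_injective fun u v e => NM_inj (by
    have := h u
    rwa [e, ← h v, mul_left_inj, mul_right_inj] at this)
  have H : ∀ v : U K, ∃ u : U K, ∀ i j, (mat v * M.1) i j = (M.1 * mat u) i j := fun v => by
    obtain ⟨u, rfl⟩ := sj v
    refine ⟨u, fun i j => ?_⟩
    rw [← NM_val, ← NM_val, ← Units.val_mul, ← Units.val_mul, ← h, inv_mul_cancel_right]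
  have c0 : ∀ v : U K, v.y * M.1 1 0 + v.w * M.1 2 0 + (v.c - v.w * σ v.y) * M.1 3 0 = 0 :=
    fun v => by
      obtain ⟨u, e⟩ := H v
      have := e 0 0
      simp [mat, Matrix.mul_apply, Fin.sum_univ_four] at this
      linear_combination this
  obtain ⟨θ, θ0, θ1⟩ := exists_pure (K := K)
  have m30 : M.1 3 0 = 0 := by simpa [UE, θ0] using c0 (Xc θ θ1)
  have m10 : M.1 1 0 = 0 := by simpa [UE] using c0 (Xy 1)
  have m20 : M.1 2 0 = 0 := by simpa [UE] using c0 (Xw 1)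
  have m31 : M.1 3 1 = 0 := by
    obtain ⟨u, e⟩ := H (Xy 1)
    simpa [mat, Matrix.mul_apply, Fin.sum_univ_four, UE, m20] using e 2 1
  have m21 : M.1 2 1 = 0 := by
    obtain ⟨u, e⟩ := H (Xb θ θ1)
    simpa [mat, Matrix.mul_apply, Fin.sum_univ_four, UE, m10, θ0] using e 1 1
  have e4 := GJ_entry hM 0
  have e3 := GJ_entry hM 1
  simp only [m10, m20, m30, m21, m31, zero_mul, add_zero] at e4 e3
  have d0 : M.1 0 0 * σ (M.1 3 3) = 1 := e4 3
  have n0 := left_ne_zero_of_mul_eq_one d0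
  have m32 : M.1 3 2 = 0 := σ_eq_zero.1 ((mul_eq_zero.1 (e4 2)).resolve_left n0)
  have d1 : M.1 1 1 * σ (M.1 2 2) = 1 := by simpa [m32, JJ] using e3 2
  have n1 := left_ne_zero_of_mul_eq_one d1
  have d3 := congrArg σ d0
  have d4 := congrArg σ d1
  rw [map_mul, σσ, map_one, mul_comm] at d3 d4
  have v : ∀ i j, ((M * (dg (.mk0 _ n0) (.mk0 _ n1))⁻¹ : GL (Fin 4) K) : Matrix (Fin 4) (Fin 4) K) i j =
      M.1 i j * ![(M.1 0 0)⁻¹, (M.1 1 1)⁻¹, σ (M.1 1 1), σ (M.1 0 0)] j := fun i j =>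
    mul_diagonal ..
  obtain ⟨s, hs⟩ := exists_NM (mul_mem hM (inv_mem (dg_mem (.mk0 _ n0) (.mk0 _ n1)))) (fun i j c => by
      rw [v]
      fin_cases i <;> fin_cases j <;> simp [m10, m20, m30, m21, m31, m32] at c ⊢) fun i => by
      rw [v]
      fin_cases i <;> simp [n0, n1, d3, d4]
  exact ⟨s, _, _, mul_inv_eq_iff_eq_mul.1 hs⟩

theorem tf_of_det {t₁ t₂ r s : Kˣ}
    (h : (dg t₁ t₂ : Matrix (Fin 4) (Fin 4) K).det = (dg (r * s) s : Matrix (Fin 4) (Fin 4) K).det) :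
    ∃ t ∈ T0 K, tf (t₁ * t₂⁻¹) t₂ 1 = t * tf r s 1 := by
  rw [det_dg, det_dg] at h
  have := t₁.ne_zero
  have := t₂.ne_zero
  have := r.ne_zero
  have := s.ne_zero
  have := σu_ne t₁
  have := σu_ne t₂
  have := σu_ne r
  have := σu_ne s
  refine ⟨_, ⟨t₁ * (r * s)⁻¹, t₁ * (r * s)⁻¹ * t₂ * s⁻¹, ?_, rfl⟩, ?_⟩
  · simp only [UV, UE] at h ⊢
    field_simp at h ⊢
    linear_combination -h
  rw [h12, tf_mul]
  exact tf_congr (by simp only [UV, UE]; field_simp) (by simp only [UV, UE]; field_simp)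

end Cfsg.Agent.U4F
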