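import Cfsg.Agent.U4F.Ker

/-!
The stabiliser of `Z2` in the automizer of `Q`; semilinearity.
Read the headers and signatures of `U4F/U`, `U4F/Def`, `U5F/Gen`.  `k` is the fixed field of `σ`, "pure" is `σ b = -b`, `N t = t * σ t`,
`ι` is from `exists_ι`, `θ` from `exists_pure`, `≡` is equality of the coordinates `y, w`.  Tools: `simp only [mem_X, UE, UV, h..]` then `ring`,
`field_simp`, `grind`; `afn_mul`, `afn_mem`, `afn_cm`, `afn_dv`, `afn_res`, `afn_inv_afn`, `homOn_afn`, `cjQ`, `congQ`, `mem_OQ`, `com_Q`, `cm_cQ`,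
`eq_zero_of_real`, `exists_pr`, `surj_pure`. `U5F/QA` is the model.
-/

set_option autoImplicit false
set_option linter.unusedSectionVars false
set_option linter.unusedSimpArgs false

namespace Cfsg.Agent.U4F

open Subgroup Cfsg.Agent.RFS Cfsg.Agent.Fus Cfsg.Agent.U5F

variable {K : Type*} [Field K] [Cj K] {p : ℕ} [Fact p.Prime] [CharP K p] {A₀ : Subgroup (MulAut (U K))}
  {A : Subgroup (MulAut (Qs : Subgroup (U K)))} {α β : MulAut (Qs : Subgroup (U K))}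

namespace QA

/-- the commutator map -/
noncomputable def D (g v : U K) : U K := v⁻¹ * afn (cQ g) v

theorem D_mem (g : U K) {v : U K} (hv : v ∈ Qs) : D g v ∈ Qs := mul_mem (inv_mem hv) (afn_mem _ hv)

theorem D_co (g : U K) {v : U K} (hv : v ∈ Qs) : (D g v).y = 0 ∧ (D g v).w = -(g.b * v.y) := by
  obtain ⟨a, b⟩ := cjQ g hv
  simp only [D, UE, a, b, mem_Qs.1 hv, mem_Qs.1 (afn_mem (cQ g) hv)]
  exact ⟨by ring, by ring⟩

theorem D_conj {g g₁ : U K} (h : β * cQ g * β⁻¹ = cQ g₁) {v : U K} (hv : v ∈ Qs) :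
    afn β (D g v) = D g₁ (afn β v) := by
  rw [D, D, afn_dv β hv (afn_mem _ hv), ← afn_mul _ _ hv, ← afn_mul _ _ hv, ← h, inv_mul_cancel_right]

/-- the symplectic form -/
def B (g h : U K) : K := σ (hf g h) - hf g h

theorem σB (g h : U K) : σ (B g h) = -B g h := by simp only [B, UE]; ring

theorem com_B {g h : U K} (hg : g ∈ Qs) (hh : h ∈ Qs) : g * h = h * g ↔ B g h = 0 :=
  (com_Q hg hh).trans sub_eq_zero.symm

theorem B_smul {u v : U K} {s : K} (hs : σ s = s) (e : u.y = s * v.y ∧ u.w = s * v.w) (g : U K) :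
    B u g = s * B v g := by
  simp only [B, hf, UE, e, hs]; ring

theorem eq_of_B {u v : U K} {s : K} (hs : σ s = s) (h : ∀ g ∈ Qs, B u g = s * B v g) :
    u.y = s * v.y ∧ u.w = s * v.w := by
  refine ⟨sub_eq_zero.1 (eq_zero_of_real fun t => ?_), sub_eq_zero.1 (eq_zero_of_real fun t => ?_)⟩
  · have := h (Xw t) rfl
    simp only [B, hf, UE, hs] at this ⊢
    linear_combination this
  · have := h (Xy t) rfl
    simp only [B, hf, UE, hs] at this ⊢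
    linear_combination this

theorem com_afn (α : MulAut (Qs : Subgroup (U K))) {x y : U K} (hx : x ∈ Qs) (hy : y ∈ Qs) :
    afn α x * afn α y = afn α y * afn α x ↔ x * y = y * x := by
  rw [← homOn_afn α _ hx _ hy, ← homOn_afn α _ hy _ hx]
  exact ⟨afn_injOn α (mul_mem hx hy) (mul_mem hy hx), congrArg _⟩

theorem B_afn (α : MulAut (Qs : Subgroup (U K))) {u g : U K} (hu : u ∈ Qs) (hg : g ∈ Qs) {c : K} (hc : σ c = -c)
    (e : B u g = c) : B (afn α u) (afn α g) = (afn α (Xc c hc)).c := by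
  have k := cm_Qs_Qs hu hg
  rw [B, ← cm_cQ (afn_mem α hu) (afn_mem α hg), ← afn_cm α hu hg,
    show cm u g = Xc c hc from U.ext k.1 k.2.1 k.2.2 ((cm_cQ hu hg).trans e)]

theorem ex_B {v : U K} (h : ¬ (v.y = 0 ∧ v.w = 0)) {θ : K} (hθ : σ θ = -θ) : ∃ g ∈ Qs, B v g = θ := by
  rcases not_and_or.1 h with c | c
  · have := σ_ne_zero c
    exact ⟨Xw (θ * τ / σ v.y), rfl, by simp only [B, hf, UE, hθ]; field_simp; ring⟩
  · have := σ_ne_zero c
    exact ⟨Xy (θ * τ / σ v.w), rfl, by simp only [B, hf, UE, hθ]; field_simp; ring⟩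

end QA

open QA

theorem PQ.inv (h : PQ α) : PQ α⁻¹ :=
  fun x hx => inv_pres (fun y _ k => h y k) x (Z2_le_Qs hx) hx

theorem PQ.mul (h : PQ α) (h' : PQ β) : PQ (α * β) := fun x hx => by
  rw [afn_mul _ _ (Z2_le_Qs hx)]
  exact h _ (h' x hx)

theorem pq_res (φ : MulAut (U K)) : PQ (rQ φ) := fun x hx => by
  rw [afn_res _ (Z2_le_Qs hx)]
  exact chr_mem φ hx

theorem pq_OQ (h : α ∈ OQ K) : PQ α := fun x hx =>
  ⟨(mem_OQ.1 h x (Z2_le_Qs hx)).1.trans hx.1, afn_mem α (Z2_le_Qs hx)⟩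

theorem cQ_mem_St (g : U K) : cQ g ∈ St Qs [Z1, Z2] := by
  intro i x hx k
  obtain ⟨a', b'⟩ := D_co g hx
  have m' := D_mem g hx
  rcases i with _ | _ | _ | i
  · replace k : x ∈ Z1 := k
    rw [cQ_Z1 g k, inv_mul_cancel]
    exact ⟨k, one_mem _⟩
  · replace k : x ∈ Z2 := k
    exact ⟨pq_res _ x k, a', m', b'.trans (by rw [k.1]; ring)⟩
  · exact ⟨trivial, a', m'⟩
  · exact ⟨trivial, trivial⟩

/-- `Lc.ext'` with `N = St Qs [Z1, Z2]`. -/
theorem extQ (h₀ : SA p A₀) (L : Lc p A₀ Qs A) (hα : α ∈ A) (h : PQ α) : ∃ φ ∈ A₀, rQ φ = α := by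
  refine L.ext' h₀ (isPGroup_St ((isPGroup_U p).to_subgroup _) [Z1, Z2]) (by rintro _ ⟨g, rfl⟩; exact cQ_mem_St g) hα
    fun _ => St_conj fun i x hx => ?_
  have k : ∀ {P : Subgroup (U K)}, (∀ y ∈ Qs, y ∈ P → afn α y ∈ P) → (x ∈ P ↔ afn α x ∈ P) := fun k =>
    ⟨k x hx, fun m => afn_inv_afn α hx ▸ inv_pres k _ (afn_mem α hx) m⟩
  rcases i with _ | _ | i
  exacts [k (chQ_Z1 α), k fun y _ => h y, k fun _ _ _ => trivial]

/-- PROOF.  `D g v = v⁻¹ * cQ g v ≡ (0, -g.b v.y)`, `β (D g v) = D g₁ (β v) ∈ Z2`, and `x ∈ Z2` is `≡ D g (Xy _)`; `congQ`. -/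
theorem detQ {g g₁ : U K} (hg : g ∉ Qs) (h : β * cQ g * β⁻¹ = cQ g₁) : PQ β := by
  intro x hx
  have c : g.b ≠ 0 := hg
  have my : Xy (-(x.w / g.b)) ∈ Qs := rfl
  obtain ⟨a, b⟩ := D_co g my
  have a' := (D_co g₁ (afn_mem β my)).1
  rw [← D_conj h my] at a'
  refine ⟨(congQ β (D_mem g my) (Z2_le_Qs hx) ⟨hx.1.trans a.symm, ?_⟩).1.trans a', afn_mem β (Z2_le_Qs hx)⟩
  rw [b]
  simp only [UE]
  field_simp

/-- As `U5F.tiQ`. -/
theorem tiQ (h₀ : SA p A₀) (L : Lc p A₀ Qs A) (hα : α ∈ A) {g g' : U K} (hg : g ∉ Qs) (hg' : g' ∉ Qs)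
    {N : Subgroup (MulAut (Qs : Subgroup (U K)))} (hN : IsPGroup p N) (h1 : cQ g ∈ N) (h2 : α * cQ g' * α⁻¹ ∈ N) : PQ α := by
  obtain ⟨β, -, hβ⟩ := L.syl.exists_conj (hN.to_le (inf_le_left (b := A))) inf_le_right
  obtain ⟨g₁, e₁⟩ := hβ _ ⟨h1, L.cj h₀ g⟩
  obtain ⟨g₂, e₂⟩ := hβ _ ⟨h2, A.mul_mem (A.mul_mem hα (L.cj h₀ g')) (A.inv_mem hα)⟩
  have := (detQ hg e₁.symm).inv.mul (detQ (β := β * α) (g₁ := g₂) hg' (Eq.trans (by group) e₂.symm))
  rwa [inv_mul_cancel_left] at this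

/-- PROOF.  `B g h = (cm g h).c = σ (hf g h) - hf g h`.  If `B v _ = 0` then `v ∈ Z1` (`mem_Z1_of_Q`), so `u ∈ Z1`, `s = 0`.  Otherwise fix `h₀` with `B v h₀ ≠ 0`,
`s = B u h₀ / B v h₀`; `h - (B v h / B v h₀) h₀` (`Xq _ _`) commutes with `v`, so `B u h = s B v h`; `eq_zero_of_real` with `h = Xy t`, `Xw t`. -/
theorem smul_of_com {u v : U K} (hu : u ∈ Qs) (hv : v ∈ Qs) (h : ∀ g ∈ Qs, v * g = g * v → u * g = g * u) :
    ∃ s, σ s = s ∧ u.y = s * v.y ∧ u.w = s * v.w := by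
  have h' : ∀ g ∈ Qs, B v g = 0 → B u g = 0 := fun g hg e => (com_B hu hg).1 (h g hg ((com_B hv hg).2 e))
  by_cases c : ∀ g ∈ Qs, B v g = 0
  · exact ⟨0, map_zero _, eq_of_B (map_zero _) fun g hg => by rw [h' g hg (c g hg), zero_mul]⟩
  push Not at c
  obtain ⟨g₀, -, c⟩ := c
  have r : ∀ x y : U K, σ (B x y / B v g₀) = B x y / B v g₀ := fun x y => by
    rw [map_div₀, σB, σB, neg_div_neg_eq]
  refine ⟨_, r u g₀, eq_of_B (r u g₀) fun g _ => ?_⟩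
  have e : ∀ x : U K, ∀ t, σ t = t → B x (Xq (g.y - t * g₀.y) (g.w - t * g₀.w)) = B x g - t * B x g₀ :=
    fun x t ht => by simp only [B, hf, UE, ht]; ring
  have := h' _ rfl ((e v _ (r v g)).trans (by field_simp; ring))
  rw [e u _ (r v g)] at this
  field_simp at this ⊢
  linear_combination this

/-- `smul_of_com` for `α u`, `α v`. -/
theorem exists_smul (α : MulAut (Qs : Subgroup (U K))) {u v : U K} (hu : u ∈ Qs) (hv : v ∈ Qs) {s : K} (hs : σ s = s)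
    (h : u.y = s * v.y ∧ u.w = s * v.w) : ∃ s', σ s' = s' ∧ (afn α u).y = s' * (afn α v).y ∧ (afn α u).w = s' * (afn α v).w := by
  refine smul_of_com (afn_mem α hu) (afn_mem α hv) fun g hg => ?_
  have m := afn_mem α⁻¹ hg
  rw [← afn_afn_inv α hg, com_afn α hv m, com_afn α hu m, com_B hv m, com_B hu m, B_smul hs h]
  exact fun e => by rw [e, mul_zero]

/-- An automorphism fixing `Z1` preserves the form (`afn_cm`, `cm_cQ`). -/
theorem hf_pres (h : ∀ z ∈ Z1, afn α z = z) {u v : U K} (hu : u ∈ Qs) (hv : v ∈ Qs) :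
    σ (hf (afn α u) (afn α v)) - hf (afn α u) (afn α v) = σ (hf u v) - hf u v := by
  rw [← cm_cQ (afn_mem α hu) (afn_mem α hv), ← afn_cm α hu hv, h _ (cm_Qs_Qs hu hv), cm_cQ hu hv]

/-- PROOF.  `B (α u) (α g) = B u g = s B v g = s B (α v) (α g)` for all `g ∈ Qs`; take `α g = Xy t`, `Xw t`; `eq_zero_of_real`. -/
theorem lin (h : ∀ z ∈ Z1, afn α z = z) {u v : U K} (hu : u ∈ Qs) (hv : v ∈ Qs) {s : K} (hs : σ s = s)
    (e : u.y = s * v.y ∧ u.w = s * v.w) : (afn α u).y = s * (afn α v).y ∧ (afn α u).w = s * (afn α v).w := by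
  refine eq_of_B hs fun g hg => ?_
  have m := afn_mem α⁻¹ hg
  rw [← afn_afn_inv α hg]
  exact (hf_pres h hu m).trans ((B_smul hs e _).trans (congrArg _ (hf_pres h hv m).symm))

/-- PROOF.  `J c = (α (Xc c)).c`, `B (α u) (α g) = J (B u g)`, `J θ ≠ 0`, `s' = J (s θ) / J θ`.  If `v ∉ Z1`, let `ρ` be from `exists_smul` and `g` with `B v g = θ`
(`exists_cm_Z2` or its analogue with `g = Xy _`): `J (s θ) = B (α u) (α g) = ρ J θ`.  If `v ∈ Z1`, everything is zero (`chQ_Z1`). -/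
theorem semi (α : MulAut (Qs : Subgroup (U K))) {s : K} (hs : σ s = s) : ∃ s', σ s' = s' ∧ ∀ u ∈ Qs, ∀ v ∈ Qs,
    u.y = s * v.y ∧ u.w = s * v.w → (afn α u).y = s' * (afn α v).y ∧ (afn α u).w = s' * (afn α v).w := by
  obtain ⟨θ, h0, hθ⟩ := exists_pure (K := K)
  have hsθ : σ (s * θ) = -(s * θ) := by rw [map_mul, hs, hθ, mul_neg]
  have J : (afn α (Xc θ hθ)).c ≠ 0 := fun e => by
    have k := chQ_Z1 α (Xc θ hθ) rfl ⟨rfl, rfl, rfl⟩
    have k2 : afn α (Xc θ hθ) = afn α 1 := (U.ext k.1 k.2.1 k.2.2 e).trans (homOn_afn α).map_one.symm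
    exact h0 (congrArg U.c (afn_injOn α (show Xc θ hθ ∈ Qs from rfl) (one_mem _) k2))
  refine ⟨(afn α (Xc _ hsθ)).c / (afn α (Xc θ hθ)).c, by rw [map_div₀, U.hc, U.hc, neg_div_neg_eq],
    fun u hu v hv e => ?_⟩
  by_cases c : v.y = 0 ∧ v.w = 0
  · have a := chQ_Z1 α v hv ⟨c.1, hv, c.2⟩
    have b := chQ_Z1 α u hu ⟨by rw [e.1, c.1, mul_zero], hu, by rw [e.2, c.2, mul_zero]⟩
    rw [a.1, a.2.2, b.1, b.2.2, mul_zero]
    exact ⟨rfl, rfl⟩
  obtain ⟨ρ, hρ, e'⟩ := exists_smul α hu hv hs e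
  obtain ⟨g, hg, eg⟩ := ex_B c hθ
  rwa [← B_afn α hu hg hsθ (by rw [B_smul hs e, eg]), B_smul hρ e', B_afn α hv hg hθ eg, mul_div_cancel_right₀ _ J]

/-- PROOF.  `semi` for `α⁻¹` gives `s`; `x = Xq (s' (α v).y) (s' (α v).w)` has `α⁻¹ x ≡ s v ≡ u`, `congQ`. -/
theorem semi' (α : MulAut (Qs : Subgroup (U K))) {s' : K} (hs : σ s' = s') : ∃ s, σ s = s ∧ ∀ u ∈ Qs, ∀ v ∈ Qs,
    u.y = s * v.y ∧ u.w = s * v.w → (afn α u).y = s' * (afn α v).y ∧ (afn α u).w = s' * (afn α v).w := by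
  obtain ⟨s, h1, h2⟩ := semi α⁻¹ hs
  refine ⟨s, h1, fun u hu v hv e => ?_⟩
  have m : Xq (s' * (afn α v).y) (s' * (afn α v).w) ∈ Qs := rfl
  have a := h2 _ m _ (afn_mem α hv) ⟨rfl, rfl⟩
  rw [afn_inv_afn α hv] at a
  have b := congQ α (afn_mem α⁻¹ m) hu ⟨e.1.trans a.1.symm, e.2.trans a.2.symm⟩
  rwa [afn_afn_inv α m] at b

/-- A `k`-linear map: `γ + n = f 1`, `γ ι + n σ ι = f ι`, `y = a + b ι`. -/
theorem exists_lin {f : K → K} (ha : ∀ x y, f (x + y) = f x + f y) (hs : ∀ s y, σ s = s → f (s * y) = s * f y) :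
    ∃ γ n : K, ∀ y, f y = γ * y + n * σ y := by
  obtain ⟨ι, hι⟩ := exists_ι (K := K)
  have d : ι - σ ι ≠ 0 := sub_ne_zero.2 hι.symm
  have d' : σ ι - ι ≠ 0 := sub_ne_zero.2 hι
  refine ⟨(f ι - f 1 * σ ι) / (ι - σ ι), (f 1 * ι - f ι) / (ι - σ ι), fun y => ?_⟩
  have e : y = (σ y * ι - y * σ ι) / (ι - σ ι) * 1 + (y - σ y) / (ι - σ ι) * ι := by
    field_simp
    ring
  conv_lhs => rw [e]
  rw [ha, hs _ _ (by simp only [UE]; field_simp; ring), hs _ _ (by simp only [UE]; field_simp; ring)]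
  field_simp
  ring

/-- `y = 1`, `y = ι`. -/
theorem ind_σ {a b : K} (h : ∀ y, a * σ y = b * y) : a = 0 ∧ b = 0 := by
  obtain ⟨ι, hι⟩ := exists_ι (K := K)
  have a1 := h 1
  have a2 := h ι
  rw [map_one, mul_one, mul_one] at a1
  rw [← a1] at a2 ⊢
  rw [and_self]
  by_contra c
  exact hι (mul_left_cancel₀ c a2)

end Cfsg.Agent.U4F
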