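import Cfsg.Agent.U4F.QB0

/-!
Two different conjugates of `Z2 / Z1` intersect trivially.
Read the headers and signatures of `U4F/U`, `U4F/Def`, `U5F/Gen`.  `k` is the fixed field of `σ`, "pure" is `σ b = -b`, `N t = t * σ t`,
`ι` is from `exists_ι`, `θ` from `exists_pure`, `≡` is equality of the coordinates `y, w`.  Tools: `simp only [mem_X, UE, UV, h..]` then `ring`,
`field_simp`, `grind`; `afn_mul`, `afn_mem`, `afn_cm`, `afn_dv`, `afn_res`, `afn_inv_afn`, `homOn_afn`, `cjQ`, `congQ`, `mem_OQ`, `com_Q`, `cm_cQ`,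
`eq_zero_of_real`, `exists_pr`, `surj_pure`.
-/

set_option autoImplicit false
set_option linter.unusedSectionVars false
set_option linter.unusedSimpArgs false

namespace Cfsg.Agent.U4F

open Subgroup Cfsg.Agent.RFS Cfsg.Agent.Fus Cfsg.Agent.U5F

variable {K : Type*} [Field K] [Cj K] {p : ℕ} [Fact p.Prime] [CharP K p] {A₀ : Subgroup (MulAut (U K))}
  {A : Subgroup (MulAut (Qs : Subgroup (U K)))} {α β : MulAut (Qs : Subgroup (U K))}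

variable {w₀ θ : K}

theorem qb_mul (α : MulAut (Qs : Subgroup (U K))) {u v : U K} (hu : u ∈ Qs) (hv : v ∈ Qs) :
    (afn α (u * v)).y = (afn α u).y + (afn α v).y ∧ (afn α (u * v)).w = (afn α u).w + (afn α v).w := by
  rw [homOn_afn α _ hu _ hv]
  simp only [UE, mem_Qs.1 (afn_mem α hv), and_self]

theorem qb_ne {x : U K} (hx : x ∈ Z2) (hx' : x ∉ Z1) (h : afn α x ∈ Z2) : (afn α x).w ≠ 0 := fun e => hx' (by
  have := chQ_Z1 α⁻¹ _ (afn_mem α hx.2) ⟨h.1, h.2, e⟩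
  rwa [afn_inv_afn α hx.2] at this)

theorem Act.cg {a b c d a' b' c' d' : K} (h : Act w₀ θ α a b c d) (e : a = a' ∧ b = b' ∧ c = c' ∧ d = d') :
    Act w₀ θ α a' b' c' d' := by
  obtain ⟨rfl, rfl, rfl, rfl⟩ := e
  exact h

theorem Act.st (h2 : (2 : K) ≠ 0) (h0 : w₀ ≠ 0) (hθ : σ θ = -θ) (h1 : θ ≠ 0) {c : K} (h : Act w₀ θ α 1 0 c 1)
    (top : ∀ u ∈ Qs, u⁻¹ * afn α u ∈ Ey w₀) : α ∈ St Qs [Z1, C0 w₀, Z2, Ey w₀] := by
  intro i x hx k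
  have m := mem_Qs.1 (afn_mem α hx)
  rcases i with _ | _ | _ | _ | _ | i
  · change x ∈ Z1 at k
    rw [h.1 x k, inv_mul_cancel]
    exact ⟨k, one_mem _⟩
  · change x ∈ C0 w₀ at k
    obtain ⟨t, ht, e⟩ := exists_pr h0 k.2.2
    obtain ⟨a1, a2⟩ := lin h.1 hx (v := Xw w₀) rfl ht ⟨by simp only [k.1, UE], e⟩
    rw [h.2.1.1, mul_zero] at a1
    rw [h.2.1.2, ← e] at a2
    exact ⟨⟨a1, m, a2 ▸ k.2.2⟩, (dv_Z1 hx m).2 ⟨a1.trans k.1.symm, a2⟩⟩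
  · change x ∈ Z2 at k
    obtain ⟨η, t, hη, ht, e⟩ := exists_co h2 h0 hθ h1 x.w
    obtain ⟨t', ht', a1, a2⟩ := h.2.2 x hx 0 η t (map_zero _) hη ht (by simp only [k.1, UE]) e
    simp only [UE] at a1 a2
    refine ⟨⟨a1, m⟩, ?_⟩
    change _ ∈ C0 w₀
    simp only [mem_C0, UE, k.1, k.2, a1, a2, e, m, ht, ht', hη, hθ, true_and]
    ring
  · change x ∈ Ey w₀ at k
    obtain ⟨ξ, hξ, e'⟩ := exists_pr h0 k
    obtain ⟨η, t, hη, ht, e⟩ := exists_co h2 h0 hθ h1 x.w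
    obtain ⟨t', -, a1, -⟩ := h.2.2 x hx ξ η t hξ hη ht e' e
    simp only [UE, ← e'] at a1
    refine ⟨show _ ∈ Ey w₀ by rw [mem_Ey, a1]; exact k, ?_⟩
    change _ ∈ Z2
    simp only [mem_Z2, UE, a1, m, mem_Qs.1 hx, neg_add_cancel, and_self]
  · exact ⟨trivial, top x hx⟩
  · exact ⟨trivial, trivial⟩

theorem qb_cQ (g : U K) {u : U K} (hu : u ∈ Qs) : u⁻¹ * afn (cQ g) u ∈ Z2 := by
  simp only [mem_Z2, UE, (cjQ g hu).1, mem_Qs.1 hu, mem_Qs.1 (afn_mem (cQ g) hu), neg_add_cancel, and_self]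

/-- PROOF.  `x₁ ∈ Z2` with `α x₁ ∉ Z2`; `α x₁` commutes with `α x` (`com_As`), so `(α x₁).y = ξ w₀`, `ξ ∈ k`, `ξ ≠ 0`, `w₀ = (α x).w`.  By `semi'` replace `x₁` by
`Xw (s x₁.w)`: `ξ = 1`.  `g = Xb (η θ)` with `(α x₁).w = (t + η θ) w₀` (`exists_co`); multiply by `Xw (s' x.w)` (`semi'` for `-t`). -/
theorem exists_norm (h2 : (2 : K) ≠ 0) (hn : ¬ PQ α) {x : U K} (hx : x ∈ Z2) (hx' : x ∉ Z1) (h : afn α x ∈ Z2) :
    ∃ g : U K, ∃ x' ∈ Z2, (afn (cQ g * α) x').y = (afn α x).w ∧ (afn (cQ g * α) x').w = 0 := by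
  have h0 := qb_ne hx hx' h
  obtain ⟨θ, h1, hθ⟩ := exists_pure (K := K)
  simp only [PQ, not_forall] at hn
  obtain ⟨x₁, a1, a2⟩ := hn
  obtain ⟨ξ, hξ, e⟩ := exists_pr h0 ((pres_Ey hx h x₁ a1.2).1 (As_le_Ey a1.1))
  have ξ0 : ξ ≠ 0 := fun k => a2 ⟨by rw [e, k, zero_mul], afn_mem α a1.2⟩
  obtain ⟨s, -, b⟩ := semi' α (s' := ξ⁻¹) (by rw [map_inv₀, hξ])
  have b1 := (b (Xw (s * x₁.w)) rfl x₁ a1.2 ⟨by simp only [UE, a1.1], rfl⟩).1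
  rw [e, inv_mul_cancel_left₀ ξ0] at b1
  obtain ⟨η, t, hη, ht, b2⟩ := exists_co h2 h0 hθ h1 (afn α (Xw (s * x₁.w))).w
  obtain ⟨s', -, c⟩ := semi' α (s' := -t) (by rw [map_neg, ht])
  obtain ⟨c1, c2⟩ := c (Xw (s' * x.w)) rfl x hx.2 ⟨by simp only [UE, hx.1], rfl⟩
  have m : Xw (s * x₁.w) * Xw (s' * x.w) ∈ (Z2 : Subgroup (U K)) := mul_mem ⟨rfl, rfl⟩ ⟨rfl, rfl⟩
  obtain ⟨d1, d2⟩ := qb_mul α (u := Xw (s * x₁.w)) (v := Xw (s' * x.w)) rfl rfl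
  refine ⟨Xb (η * θ) (by simp only [UE, hη, hθ]; ring), _, m, ?_⟩
  rw [afn_mul _ _ m.2, (cjQ _ (afn_mem α m.2)).1, (cjQ _ (afn_mem α m.2)).2, d1, d2, b1, b2, c1, c2, h.1]
  simp only [UE]
  exact ⟨trivial, by ring⟩

/-- PROOF.  `W' = α Z2`; `x.w`, `x'.w` are independent over `k`, so every `n ∈ Z2` is `≡ s x + s' x'` and `α n ≡ (ρ' w₀, ρ w₀)` with `ρ, ρ' ∈ k` (`exists_smul`).
`τ b = α * cQ (Xb b) * α⁻¹` fixes `Z1`, fixes `α x`, `α x'` modulo `Z1`, is linear (`lin`), and `u⁻¹ * τ b u ∈ W'`.  So `Act w₀ θ (τ b) 1 (a b) 0 1` with `a b ∈ k`,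
`(τ b (Xw (θ w₀))).y = a b * w₀`.  If `a b = a b'`, then `τ (b - b') = τ b * (τ b')⁻¹` maps `Xw (θ w₀)` into `Z2`, so it lies in `St Qs [Z1, C0 w₀, Z2, Ey w₀]`
together with `cQ (Xb θ)`; `tiQ` gives `b = b'`.  `surj_pure` for `b ↦ a b * θ`. -/
theorem act_Y (h2 : (2 : K) ≠ 0) (h0 : w₀ ≠ 0) (hθ : σ θ = -θ) (h1 : θ ≠ 0) (h₀ : SA p A₀) (L : Lc p A₀ Qs A) (hα : α ∈ A)
    (hn : ¬ PQ α) {x x' : U K} (hx : x ∈ Z2) (hx' : x' ∈ Z2) (e : (afn α x).y = 0 ∧ (afn α x).w = w₀)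
    (e' : (afn α x').y = w₀ ∧ (afn α x').w = 0) {s : K} (hs : σ s = s) : ∃ τ ∈ A, Act w₀ θ τ 1 s 0 1 := by
  have k1 : ∀ n ∈ Z2, ∃ ρ' ρ, σ ρ' = ρ' ∧ σ ρ = ρ ∧ (afn α n).y = ρ' * w₀ ∧ (afn α n).w = ρ * w₀ := fun n hn => by
    have c : ∀ z ∈ Z2, σ (hf (afn α n) (afn α z)) = hf (afn α n) (afn α z) := fun z hz =>
      (com_Q (afn_mem α hn.2) (afn_mem α hz.2)).1 (by
        rw [← homOn_afn α _ hn.2 _ hz.2, ← homOn_afn α _ hz.2 _ hn.2, com_As hn.1 hz.1])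
    have c1 := c x hx
    have c2 := c x' hx'
    simp only [hf, e.1, e.2, e'.1, e'.2, UE] at c1 c2
    obtain ⟨ρ', a1, a2⟩ := exists_pr h0 c1.symm
    obtain ⟨ρ, b1, b2⟩ := exists_pr h0 c2.symm
    exact ⟨ρ', ρ, a1, b1, a2, b2⟩
  have k2 : ∀ g, ∀ u ∈ Qs, ∃ n ∈ Z2, afn (α * cQ g * α⁻¹) u = u * afn α n := fun g u hu => by
    have m := afn_mem α⁻¹ hu
    refine ⟨_, qb_cQ g m, ?_⟩
    rw [afn_dv α m (afn_mem _ m), afn_afn_inv α hu, mul_inv_cancel_left, afn_mul _ _ hu, afn_mul _ _ m]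
  have k3 : ∀ g, ∀ n ∈ Z2, ∀ v ∈ Qs, v.y = (afn α n).y → v.w = (afn α n).w →
      (afn (α * cQ g * α⁻¹) v).y = v.y ∧ (afn (α * cQ g * α⁻¹) v).w = v.w := fun g n hn v hv v1 v2 => by
    have m := afn_mem α hn.2
    have c1 := congQ (α * cQ g * α⁻¹) m hv ⟨v1, v2⟩
    have c2 := congQ α hn.2 (afn_mem (cQ g) hn.2) ⟨(cjQ g hn.2).1, by rw [(cjQ g hn.2).2, hn.1, mul_zero, sub_zero]⟩
    rw [afn_mul _ _ m, afn_inv_afn α hn.2, afn_mul _ _ (Z2_le_Qs hn), c2.1, c2.2] at c1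
    exact ⟨c1.1.trans v1.symm, c1.2.trans v2.symm⟩
  have k4 : ∀ g, ∃ a, σ a = a ∧ Act w₀ θ (α * cQ g * α⁻¹) 1 a 0 1 := fun g => by
    have z : ∀ z ∈ Z1, afn (α * cQ g * α⁻¹) z = z := fun z hz => by
      have m := afn_mem α⁻¹ hz.2.1
      rw [afn_mul _ _ hz.2.1, afn_mul _ _ m, cQ_Z1 g (chQ_Z1 α⁻¹ _ hz.2.1 hz), afn_afn_inv α hz.2.1]
    have f1 := k3 g x hx (Xw w₀) rfl e.1.symm e.2.symm
    have f2 := k3 g x' hx' (Xy w₀) rfl e'.1.symm e'.2.symm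
    obtain ⟨n, hn, f3⟩ := k2 g (Xw (θ * w₀)) rfl
    obtain ⟨a, -, ha, -, f4, -⟩ := k1 n hn
    refine ⟨a, ha, z, f1, fun u hu ξ η t hξ hη ht u1 u2 => ?_⟩
    obtain ⟨n', hn', g1⟩ := k2 g u hu
    obtain ⟨-, ρ, -, hρ, -, g2⟩ := k1 n' hn'
    refine ⟨t + ρ, by rw [map_add, ht, hρ], ?_, ?_⟩
    · generalize α * cQ g * α⁻¹ = τ at z f1 f2 f3
      have m : Xy (ξ * w₀) * Xw (t * w₀) ∈ (Qs : Subgroup (U K)) := mul_mem rfl rfl
      rw [(congQ τ (mul_mem m (show Xw (η * (θ * w₀)) ∈ Qs from rfl)) hu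
          ⟨by simp only [UE, u1], by simp only [UE, u2]; ring⟩).1, (qb_mul τ m rfl).1, (qb_mul τ rfl rfl).1,
        (lin z (u := Xy (ξ * w₀)) (v := Xy w₀) rfl rfl hξ ⟨rfl, by simp only [UE]⟩).1,
        (lin z (u := Xw (t * w₀)) (v := Xw w₀) rfl rfl ht ⟨by simp only [UE], rfl⟩).1,
        (lin z (u := Xw (η * (θ * w₀))) (v := Xw (θ * w₀)) rfl rfl hη ⟨by simp only [UE], rfl⟩).1, f1.1, f2.1, f3]
      simp only [UE, f4]
      ring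
    · rw [g1]
      simp only [UE, u2, g2, mem_Qs.1 (afn_mem α hn'.2)]
      ring
  choose a ha hA using k4
  have k5 : ∀ g g', a (g * g') = a g + a g' := fun g g' => by
    have c := (hA g).mul (hA g') (map_one _) (ha _) (map_zero _) (map_one _)
    rw [show α * cQ g * α⁻¹ * (α * cQ g' * α⁻¹) = α * cQ (g * g') * α⁻¹ by rw [cQ, cQ, cQ, map_mul, map_mul]; group] at c
    obtain ⟨-, -, c1, -⟩ := c.2.2 (Xw (θ * w₀)) rfl 0 1 0 (map_zero _) (map_one _) (map_zero _) (by simp only [UE])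
      (by simp only [UE])
    obtain ⟨-, -, c2, -⟩ := (hA (g * g')).2.2 (Xw (θ * w₀)) rfl 0 1 0 (map_zero _) (map_one _) (map_zero _)
      (by simp only [UE]) (by simp only [UE])
    refine mul_right_cancel₀ h0 ?_
    linear_combination c1 - c2
  have k6 : ∀ g, a g = 0 → g ∈ Qs := fun g hg => by_contra fun c => hn (tiQ h₀ L hα
    (g := Xb (-(1 * θ)) (by simp only [UE, hθ])) (by simpa only [mem_Qs, UE, neg_eq_zero] using h1) c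
    (isPGroup_St ((isPGroup_U p).to_subgroup _) _) (act_X.st h2 h0 hθ h1 fun u hu => As_le_Ey (qb_cQ _ hu).1)
    ((hg ▸ hA g).st h2 h0 hθ h1 fun u hu => by
      obtain ⟨n, hn, c1⟩ := k2 g u hu
      obtain ⟨ρ, -, hρ, -, c2, -⟩ := k1 n hn
      rw [c1, inv_mul_cancel_left, mem_Ey, c2, map_mul, hρ]
      ring))
  obtain ⟨b, hb, r⟩ := surj_pure (fun b hb => a (Xb b hb) * θ) (fun b hb => by simp only [UE, ha, hθ]; ring)
    (fun b hb b' hb' r => by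
      have c := k5 (Xb b' hb') ((Xb b' hb')⁻¹ * Xb b hb)
      rw [mul_inv_cancel_left, mul_right_cancel₀ h1 r, left_eq_add] at c
      have := mem_Qs.1 (k6 _ c)
      simp only [UE] at this
      linear_combination this) (c := s * θ) (by simp only [UE, hs, hθ]; ring)
  exact ⟨_, mul_mem (mul_mem hα (L.cj h₀ _)) (inv_mem hα), mul_right_cancel₀ h1 r ▸ hA _⟩

/-- PROOF.  Suppose `x ∉ Z1`.  `2 = 0`: `nonperp2`.  Otherwise `exists_norm`, `act_Y` for `cQ g * α` (`PQ.mul`, `PQ.inv`, `pq_res`), `act_X`, `Act.mul`: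
`Y s * X (-s⁻¹) * Y s * (Y (-1) * X 1 * Y (-1))` has the matrix `[[s, 0], [0, s⁻¹]]`; `act_diag` for `s` from `h3`. -/
theorem nonperpQ (h3 : G3 K) (h₀ : SA p A₀) (L : Lc p A₀ Qs A) (hα : α ∈ A) (hn : ¬ PQ α) {x : U K} (hx : x ∈ Z2)
    (h : afn α x ∈ Z2) : x ∈ Z1 := by
  by_contra hx'
  by_cases h2 : (2 : K) = 0
  · exact hn (nonperp2 h2 h₀ L hα hx hx' h)
  have h0 := qb_ne hx hx' h
  obtain ⟨θ, h1, hθ⟩ := exists_pure (K := K)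
  obtain ⟨g, x', a1, a2⟩ := exists_norm h2 hn hx hx' h
  have Y : ∀ s, σ s = s → ∃ τ ∈ A, Act (afn α x).w θ τ 1 s 0 1 := fun s hs =>
    act_Y h2 h0 hθ h1 h₀ L (mul_mem (L.cj h₀ g) hα)
      (fun c => hn (by simpa only [inv_mul_cancel_left] using (pq_res (MulAut.conj g)).inv.mul c)) hx a1 (by
        rw [afn_mul _ _ hx.2, (cjQ _ h.2).1, (cjQ _ h.2).2, h.1, mul_zero, sub_zero]
        exact ⟨rfl, rfl⟩) a2 hs
  have W : ∀ s, σ s = s → s ≠ 0 → ∃ τ ∈ A, Act (afn α x).w θ τ 0 s (-s⁻¹) 0 := fun s hs s0 => by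
    obtain ⟨τ, b1, b2⟩ := Y s hs
    exact ⟨_, mul_mem (mul_mem b1 (L.cj h₀ _)) b1, ((b2.mul (act_X (s := -s⁻¹) (h := by simp only [UE, hs, hθ]; ring))
      (map_one _) (map_zero _) (by simp only [UE, hs]) (map_one _)).mul b2 (map_one _) hs (map_zero _) (map_one _)).cg
        ⟨by field_simp; ring, by field_simp; ring, by ring, by field_simp; ring⟩⟩
  obtain ⟨s, hs, s0, s1⟩ := h3
  obtain ⟨τ, b1, b2⟩ := W s hs s0
  obtain ⟨τ', c1, c2⟩ := W (-1) (by simp only [UE]) (by simp)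
  exact s1 (act_diag h2 h0 hθ h1 h₀ L (mul_mem b1 c1) hs s0 ((b2.mul c2 (map_zero _) (by simp only [UE])
    (by simp only [UE]) (map_zero _)).cg ⟨by simp, by simp, by simp, by simp⟩))

end Cfsg.Agent.U4F
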