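import Cfsg.Agent.U4F.QA

/-!
The action on `v^⊥ / k v` for `v = Xw w₀`.
Read the headers and signatures of `U4F/U`, `U4F/Def`, `U5F/Gen`.  `k` is the fixed field of `σ`, "pure" is `σ b = -b`, `N t = t * σ t`,
`ι` is from `exists_ι`, `θ` from `exists_pure`, `≡` is equality of the coordinates `y, w`.  Tools: `simp only [mem_X, UE, UV, h..]` then `ring`,
`field_simp`, `grind`; `afn_mul`, `afn_mem`, `afn_cm`, `afn_dv`, `afn_res`, `afn_inv_afn`, `homOn_afn`, `cjQ`, `congQ`, `mem_OQ`, `com_Q`, `cm_cQ`,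
`eq_zero_of_real`, `exists_pr`, `surj_pure`.
-/

set_option autoImplicit false
set_option linter.unusedSectionVars false
set_option linter.unusedSimpArgs false

namespace Cfsg.Agent.U4F

open Subgroup Cfsg.Agent.RFS Cfsg.Agent.Fus Cfsg.Agent.U5F

variable {K : Type*} [Field K] [Cj K] {p : ℕ} [Fact p.Prime] [CharP K p] {A₀ : Subgroup (MulAut (U K))}
  {A : Subgroup (MulAut (Qs : Subgroup (U K)))} {α β : MulAut (Qs : Subgroup (U K))}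

/-- `τ` fixes `Z1` and `Xw w₀` modulo `Z1`, and acts on `v^⊥ / k v` with the matrix `[[a, b], [c, d]]`. -/
def Act (w₀ θ : K) (τ : MulAut (Qs : Subgroup (U K))) (a b c d : K) : Prop :=
  (∀ z ∈ Z1, afn τ z = z) ∧ ((afn τ (Xw w₀)).y = 0 ∧ (afn τ (Xw w₀)).w = w₀) ∧
  ∀ u ∈ Qs, ∀ ξ η t : K, σ ξ = ξ → σ η = η → σ t = t → u.y = ξ * w₀ → u.w = (t + η * θ) * w₀ →
    ∃ t', σ t' = t' ∧ (afn τ u).y = (a * ξ + b * η) * w₀ ∧ (afn τ u).w = (t' + (c * ξ + d * η) * θ) * w₀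

variable {w₀ θ : K}

theorem Act.mul {a b c d a' b' c' d' : K} (h : Act w₀ θ α a b c d) (h' : Act w₀ θ β a' b' c' d') (ha : σ a' = a') (hb : σ b' = b')
    (hc : σ c' = c') (hd : σ d' = d') :
    Act w₀ θ (α * β) (a * a' + b * c') (a * b' + b * d') (c * a' + d * c') (c * b' + d * d') := by
  refine ⟨fun z hz => by rw [afn_mul _ _ hz.2.1, h'.1 z hz, h.1 z hz], ?_, fun u hu ξ η t h1 h2 h3 h4 h5 => ?_⟩
  · have m : Xw w₀ ∈ Qs := rfl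
    have := congQ α m (afn_mem β m) h'.2.1
    rw [afn_mul _ _ m, this.1, this.2]
    exact h.2.1
  · obtain ⟨t', a1, a2, a3⟩ := h'.2.2 u hu ξ η t h1 h2 h3 h4 h5
    obtain ⟨t'', b1, b2, b3⟩ := h.2.2 _ (afn_mem β hu) _ _ t' (by simp only [UE, ha, hb, h1, h2])
      (by simp only [UE, hc, hd, h1, h2]) a1 a2 a3
    exact ⟨t'', b1, by rw [afn_mul _ _ hu, b2]; ring, by rw [afn_mul _ _ hu, b3]; ring⟩

theorem act_X {s : K} {h} : Act w₀ θ (cQ (Xb (-(s * θ)) h)) 1 0 s 1 := by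
  refine ⟨fun z => cQ_Z1 _, by simpa only [UE] using cjQ (Xb (-(s * θ)) h) (u := Xw w₀) rfl,
    fun u hu ξ η t _ _ h3 h4 h5 => ⟨t, h3, ?_⟩⟩
  simp only [cjQ _ hu, UE, h4, h5, true_and]
  ring

/-- Coordinates: `η = (x - σ x) / (2 θ)`, `t = (x + σ x) / 2`, `x = w / w₀`. -/
theorem exists_co (h2 : (2 : K) ≠ 0) (h0 : w₀ ≠ 0) (hθ : σ θ = -θ) (h1 : θ ≠ 0) (w : K) :
    ∃ η t, σ η = η ∧ σ t = t ∧ w = (t + η * θ) * w₀ := by
  refine ⟨(w / w₀ - σ (w / w₀)) / (2 * θ), (w / w₀ + σ (w / w₀)) / 2, ?_, ?_, by field_simp; ring⟩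
  · generalize w / w₀ = x
    simp only [UE, hθ, map_ofNat]
    field_simp
    ring
  · generalize w / w₀ = x
    simp only [UE, map_ofNat, add_comm]

/-- PROOF.  `PQ α` (`exists_co`, `ξ = 0`), so `α = rQ φ` (`extQ`), `α (cQ (Xb θ)) α⁻¹ = cQ g'` (`res_conj`), `b' = g'.b`.  With `D b u = u⁻¹ * cQ (..) u ≡ (0, -b u.y)`:
`α (D θ u) = D b' (α u)`.  `u = Xy w₀`: `(t - θ / s) w₀ = -b' s w₀` with `t ∈ k`, so `t = 0`, `b' s² = θ`.  `u = Xy (θ w₀)`: `D θ u ≡ -θ² (Xw w₀)`, by `lin`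
`θ² w₀ = b' y'`, `y' = (α u).y = θ s² w₀`.  `hf_pres` for `u`, `Xw w₀`: `-2 θ s² N w₀ = -2 θ N w₀`. -/
theorem act_diag (h2 : (2 : K) ≠ 0) (h0 : w₀ ≠ 0) (hθ : σ θ = -θ) (h1 : θ ≠ 0) (h₀ : SA p A₀) (L : Lc p A₀ Qs A) (hα : α ∈ A)
    {s : K} (hs : σ s = s) (hs' : s ≠ 0) (h : Act w₀ θ α s 0 0 s⁻¹) : s ^ 2 = 1 := by
  have pq : PQ α := fun x hx => by
    obtain ⟨η, t, a1, a2, a3⟩ := exists_co h2 h0 hθ h1 x.w
    obtain ⟨t', -, b, -⟩ := h.2.2 x hx.2 0 η t (map_zero _) a1 a2 (by rw [hx.1, zero_mul]) a3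
    exact ⟨by simpa only [UE] using b, afn_mem α (P := Qs) hx.2⟩
  obtain ⟨φ, -, e⟩ := extQ h₀ L hα pq
  have e1 := res_conj (E := Qs) φ (Xb θ hθ)
  rw [show MulAut.characteristic Qs φ = α from e, mul_inv_eq_iff_eq_mul] at e1
  generalize φ (Xb θ hθ) = g at e1
  have key : ∀ u ∈ Qs, (afn α (afn (cQ (Xb θ hθ)) u)).y = (afn α u).y ∧
      (afn α (afn (cQ (Xb θ hθ)) u)).w = (afn α u).w - g.b * (afn α u).y := fun u hu => by
    rw [← afn_mul _ _ hu, e1, afn_mul _ _ hu]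
    exact cjQ g (afn_mem α hu)
  have m1 : Xy w₀ ∈ Qs := rfl
  obtain ⟨t₁, a1, a2, a3⟩ := h.2.2 _ m1 1 0 0 (map_one _) (map_zero _) (map_zero _) (by simp only [UE]) (by simp only [UE])
  obtain ⟨t₂, b1, -, b3⟩ := h.2.2 _ (afn_mem (cQ (Xb θ hθ)) m1) 1 (-1) 0 (map_one _) (by simp only [UE]) (map_zero _)
    (by simp only [cjQ _ m1, UE]) (by simp only [cjQ _ m1, UE]; ring)
  rw [(key _ m1).2, a2, a3] at b3
  have c1 : t₁ - g.b * s = t₂ - s⁻¹ * θ := mul_right_cancel₀ h0 (by linear_combination b3)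
  have c2 := congrArg σ c1
  simp only [UE, a1, b1, hs, hθ] at c2
  have c3 : g.b * s = s⁻¹ * θ := mul_left_cancel₀ h2 (by linear_combination c2 - c1)
  have c4 : g.b * s ^ 2 = θ := by rw [sq, ← mul_assoc, c3]; field_simp
  have m2 : Xy (θ * w₀) ∈ Qs := rfl
  have m3 := afn_mem (cQ (Xb θ hθ)) m2
  have d := (lin h.1 (mul_mem (inv_mem m2) m3) (v := Xw w₀) rfl (s := -θ ^ 2) (by simp only [UE, hθ]; ring)
    (by simp only [UE, cjQ _ m2, mem_Qs.1 m3]; constructor <;> ring)).2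
  rw [afn_dv α m2 m3, h.2.1.2] at d
  simp only [UE, key _ m2, mem_Qs.1 (afn_mem α m2), mem_Qs.1 (afn_mem α m3)] at d
  have d2 : (afn α (Xy (θ * w₀))).y = s ^ 2 * θ * w₀ := mul_left_cancel₀ h1 (by
    linear_combination (-s ^ 2) * d - (afn α (Xy (θ * w₀))).y * c4)
  have f := hf_pres h.1 m2 (v := Xw w₀) rfl
  simp only [hf, UE, h.2.1, d2, hs, hθ] at f
  exact mul_left_cancel₀ (mul_ne_zero (mul_ne_zero h2 h1) (mul_ne_zero h0 (σ_ne_zero h0))) (by linear_combination -f)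

theorem qb0_ey {x u : U K} (hx : x ∈ Z2) (hu : u ∈ Qs) : u ∈ Ey x.w ↔ u * x = x * u := by
  rw [com_Q hu hx.2, mem_Ey]
  simp only [hf, UE, hx.1]
  exact eq_comm

theorem qb0_com (α : MulAut (Qs : Subgroup (U K))) {x u : U K} (hx : x ∈ Qs) (hu : u ∈ Qs) (h : u * x = x * u) :
    afn α u * afn α x = afn α x * afn α u := by
  rw [← homOn_afn α _ hu _ hx, h, homOn_afn α _ hx _ hu]

theorem qb0_C0 {x : U K} (hx : x ∈ Z2) (hx' : x ∉ Z1) (h : afn α x ∈ Z2) {u : U K} (hu : u ∈ C0 x.w) :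
    afn α u ∈ C0 (afn α x).w := by
  obtain ⟨s, s1, s2⟩ := exists_pr (fun e => hx' ⟨hx.1, hx.2, e⟩) hu.2.2
  obtain ⟨s', a1, a2, a3⟩ := exists_smul α hu.2.1 hx.2 s1 ⟨by rw [hu.1, hx.1, mul_zero], s2⟩
  exact ⟨by rw [a2, h.1, mul_zero], afn_mem α (P := Qs) hu.2.1, by rw [a3, map_mul, a1]; ring⟩

theorem qb0_St (h2 : (2 : K) = 0) (g : U K) (hg : g.b = 1) (w : K) : cQ g ∈ St Qs [Z1, C0 w, Ey w] := by
  intro i x hx k
  obtain ⟨a, b⟩ := cjQ g hx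
  have m : (afn (cQ g) x).b = 0 := afn_mem (cQ g) hx
  have hx' : x.b = 0 := hx
  rcases i with _ | _ | _ | _ | i
  · replace k : x ∈ Z1 := k
    rw [cQ_Z1 g k, inv_mul_cancel]
    exact ⟨k, one_mem _⟩
  · replace k : x ∈ C0 w := k
    rw [k.1, mul_zero, sub_zero] at b
    exact ⟨⟨a.trans k.1, m, by rw [b, k.2.2]⟩, (dv_Z1 hx m).2 ⟨a, b⟩⟩
  · replace k : x.y * σ w = σ x.y * w := k
    refine ⟨show _ * _ = _ * _ by rw [a, k], ?_⟩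
    change _ ∈ C0 w
    simp only [mem_C0, UE, a, b, m, hx', hg, neg_add_cancel, true_and]
    linear_combination -k
  · refine ⟨trivial, ?_⟩
    change _ ∈ Ey w
    simp only [mem_Ey, UE, a, neg_add_cancel]
  · exact ⟨trivial, trivial⟩

/-- For `u ∈ Qs`: `u ∈ Ey w₀` iff `u` commutes with `v ≡ (0, w₀)` (`com_Q`). -/
theorem pres_Ey {x : U K} (hx : x ∈ Z2) (h : afn α x ∈ Z2) : ∀ u ∈ Qs, u ∈ Ey x.w ↔ afn α u ∈ Ey (afn α x).w := by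
  intro u hu
  rw [qb0_ey hx hu, qb0_ey h (afn_mem α hu)]
  refine ⟨qb0_com α hx.2 hu, fun k => ?_⟩
  simpa only [afn_inv_afn α hu, afn_inv_afn α (P := Qs) hx.2] using qb0_com α⁻¹ h.2 (afn_mem α hu) k

/-- `exists_smul` for `α` and `α⁻¹`, `exists_pr`; `(α x).w ≠ 0` by `chQ_Z1` for `α⁻¹`. -/
theorem pres_C0 {x : U K} (hx : x ∈ Z2) (hx' : x ∉ Z1) (h : afn α x ∈ Z2) :
    ∀ u ∈ Qs, u ∈ C0 x.w ↔ afn α u ∈ C0 (afn α x).w := by
  refine fun u hu => ⟨qb0_C0 hx hx' h, fun k => ?_⟩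
  have e := afn_inv_afn α (P := Qs) hx.2
  simpa only [afn_inv_afn α hu, e] using
    qb0_C0 (α := α⁻¹) h (fun m => hx' (e ▸ chQ_Z1 α⁻¹ _ h.2 m)) (e.symm ▸ hx) k

/-- PROOF.  `z = cQ (Xb 1 _) ∈ St Qs [Z1, C0 w, Ey w]` for all `w` (`cjQ`); `St_conj` with `chQ_Z1`, `pres_C0`, `pres_Ey`; `tiQ`, `isPGroup_St`. -/
theorem nonperp2 (h2 : (2 : K) = 0) (h₀ : SA p A₀) (L : Lc p A₀ Qs A) (hα : α ∈ A) {x : U K} (hx : x ∈ Z2) (hx' : x ∉ Z1)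
    (h : afn α x ∈ Z2) : PQ α := by
  have e : σ (1 : K) = -1 := by rw [map_one]; linear_combination h2
  have n : Xb 1 e ∉ Qs := (one_ne_zero : (1 : K) ≠ 0)
  refine tiQ h₀ L hα n n (isPGroup_St ((isPGroup_U p).to_subgroup _) _) (qb0_St h2 _ rfl (afn α x).w)
    (St_conj (fun i u hu => ?_) (qb0_St h2 _ rfl x.w))
  rcases i with _ | _ | _ | i
  · exact ⟨chQ_Z1 α u hu, fun k => afn_inv_afn α hu ▸ chQ_Z1 α⁻¹ _ (afn_mem α hu) k⟩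
  · exact pres_C0 hx hx' h u hu
  · exact pres_Ey hx h u hu
  · exact Iff.rfl

end Cfsg.Agent.U4F
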