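import Cfsg.Agent.U5F.Def

/-!
The Sylow `p`-subgroup `S = U K` of `SU₄(q)` in coordinates (`K` has `q²` elements, `σ` is the involution, `k` its fixed field).

The class `Cj`, `σ`, `τ`, `exists_ι`, `exists_θ`, `exists_nrm`, `exists_nrm_one`, `exists_h90`, `exists_pr`, `eq_zero_of_real`,
`not_all_pr`, `um`, `σu`, `UV` come from `U5F/U`, `U5F/Def`.  `s ∈ k` is `σ s = s`, "pure" is `σ b = -b`; `u ∈ k v` is
`u * σ v = σ u * v`.  `As = {y = 0}` is abelian, `Qs = {b = 0}` is `q^{1+4}`, `Z1 < Z2 = As ⊓ Qs`, `S' = Z2`.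
Coordinates: `ext <;> simp only [UE, h..] <;> ring` or `simp only [mem_X, cm, UE, h..]; grind`.
-/

set_option autoImplicit false
set_option linter.unusedSectionVars false
set_option linter.unusedSimpArgs false

namespace Cfsg.Agent.U4F

open Subgroup Cfsg.Agent.Class.U Cfsg.Agent.RFS Cfsg.Agent.U5F

variable {K : Type*} [Field K] [Cj K]

/-- Coordinates. -/
@[ext] structure U (K : Type*) [Field K] [Cj K] where
  y : K
  b : K
  w : K
  c : K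
  hb : σ b = -b
  hc : σ c = -c

instance : Mul (U K) := ⟨fun g h =>
  { y := g.y + h.y
    b := g.b + h.b
    w := g.w + h.w + g.y * h.b
    c := g.c + h.c - g.y * σ h.w + σ g.y * h.w + g.y * σ g.y * h.b
    hb := by simp only [map_add, g.hb, h.hb]; ring
    hc := by simp only [map_add, map_sub, map_mul, σσ, g.hc, h.hc, h.hb]; ring }⟩

instance : One (U K) := ⟨⟨0, 0, 0, 0, by simp, by simp⟩⟩

instance : Inv (U K) := ⟨fun g =>
  { y := -g.y
    b := -g.b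
    w := -g.w + g.y * g.b
    c := -g.c - g.y * σ g.w + σ g.y * g.w - g.y * σ g.y * g.b
    hb := by simp only [map_neg, g.hb]
    hc := by simp only [map_add, map_sub, map_mul, map_neg, σσ, g.hc, g.hb]; ring }⟩

/-- Root elements. -/
def Xy (t : K) : U K := ⟨t, 0, 0, 0, by simp, by simp⟩
/-- Root elements. -/
def Xw (t : K) : U K := ⟨0, 0, t, 0, by simp, by simp⟩
/-- Root elements. -/
def Xb (t : K) (h : σ t = -t) : U K := ⟨0, t, 0, 0, h, by simp⟩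
/-- Root elements. -/
def Xc (t : K) (h : σ t = -t) : U K := ⟨0, 0, 0, t, by simp, h⟩
/-- An element of `Qs`. -/
def Xq (y w : K) : U K := ⟨y, 0, w, 0, by simp, by simp⟩

/-- The simp set for coordinates. -/
theorem UE :
    ((∀ g h : U K, (g * h).y = g.y + h.y) ∧ (∀ g h : U K, (g * h).b = g.b + h.b) ∧
      (∀ g h : U K, (g * h).w = g.w + h.w + g.y * h.b) ∧
      ∀ g h : U K, (g * h).c = g.c + h.c - g.y * σ h.w + σ g.y * h.w + g.y * σ g.y * h.b) ∧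
    ((∀ g : U K, g⁻¹.y = -g.y) ∧ (∀ g : U K, g⁻¹.b = -g.b) ∧ (∀ g : U K, g⁻¹.w = -g.w + g.y * g.b) ∧
      ∀ g : U K, g⁻¹.c = -g.c - g.y * σ g.w + σ g.y * g.w - g.y * σ g.y * g.b) ∧
    ((1 : U K).y = 0 ∧ (1 : U K).b = 0 ∧ (1 : U K).w = 0 ∧ (1 : U K).c = 0) ∧
    ((∀ g : U K, σ g.b = -g.b) ∧ ∀ g : U K, σ g.c = -g.c) ∧
    (∀ t : K, (Xy t).y = t ∧ (Xy t).b = 0 ∧ (Xy t).w = 0 ∧ (Xy t).c = 0) ∧
    (∀ t : K, (Xw t).y = 0 ∧ (Xw t).b = 0 ∧ (Xw t).w = t ∧ (Xw t).c = 0) ∧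
    (∀ (t : K) h, (Xb t h).y = 0 ∧ (Xb t h).b = t ∧ (Xb t h).w = 0 ∧ (Xb t h).c = 0) ∧
    (∀ (t : K) h, (Xc t h).y = 0 ∧ (Xc t h).b = 0 ∧ (Xc t h).w = 0 ∧ (Xc t h).c = t) ∧
    (∀ s t : K, (Xq s t).y = s ∧ (Xq s t).b = 0 ∧ (Xq s t).w = t ∧ (Xq s t).c = 0) ∧
    ((∀ s t : K, σ (s + t) = σ s + σ t) ∧ (∀ s t : K, σ (s - t) = σ s - σ t) ∧ (∀ s t : K, σ (s * t) = σ s * σ t) ∧
      (∀ s : K, σ (-s) = -σ s) ∧ (∀ s : K, σ s⁻¹ = (σ s)⁻¹) ∧ (∀ s t : K, σ (s / t) = σ s / σ t) ∧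
      (∀ (s : K) (n : ℕ), σ (s ^ n) = σ s ^ n) ∧ σ (0 : K) = 0 ∧ σ (1 : K) = 1 ∧ (∀ s : K, σ (σ s) = s) ∧ σ (τ : K) = 1 - τ) ∧
    ((∀ s : K, s + 0 = s) ∧ (∀ s : K, 0 + s = s) ∧ (∀ s : K, s - 0 = s) ∧ (∀ s : K, 0 - s = -s) ∧ (∀ s : K, s * 0 = 0) ∧
      (∀ s : K, 0 * s = 0) ∧ (∀ s : K, s * 1 = s) ∧ (∀ s : K, 1 * s = s) ∧ -(0 : K) = 0 ∧ ∀ s : K, - -s = s) :=
  ⟨⟨fun _ _ => rfl, fun _ _ => rfl, fun _ _ => rfl, fun _ _ => rfl⟩, ⟨fun _ => rfl, fun _ => rfl, fun _ => rfl, fun _ => rfl⟩,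
    ⟨rfl, rfl, rfl, rfl⟩, ⟨U.hb, U.hc⟩, fun _ => ⟨rfl, rfl, rfl, rfl⟩, fun _ => ⟨rfl, rfl, rfl, rfl⟩,
    fun _ _ => ⟨rfl, rfl, rfl, rfl⟩, fun _ _ => ⟨rfl, rfl, rfl, rfl⟩, fun _ _ => ⟨rfl, rfl, rfl, rfl⟩,
    ⟨map_add σ, map_sub σ, map_mul σ, map_neg σ, map_inv₀ σ, map_div₀ σ, map_pow σ, map_zero σ, map_one σ, σσ, στ⟩,
    add_zero, zero_add, sub_zero, zero_sub, mul_zero, zero_mul, mul_one, one_mul, neg_zero, neg_neg⟩

instance : Group (U K) :=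
  Group.ofLeftAxioms (fun _ _ _ => by ext <;> simp only [UE] <;> ring) (fun _ => by ext <;> simp only [UE])
    fun _ => by ext <;> simp only [UE] <;> ring

/-- The centre. -/
def Z1 : Subgroup (U K) where
  carrier := {g | g.y = 0 ∧ g.b = 0 ∧ g.w = 0}
  mul_mem' h k := by simp only [Set.mem_ofPred_eq] at h k; simp only [Set.mem_ofPred_eq, UE, h, k, and_self]
  one_mem' := by simp only [Set.mem_ofPred_eq, UE, and_self]
  inv_mem' h := by simp only [Set.mem_ofPred_eq] at h; simp only [Set.mem_ofPred_eq, UE, h, and_self]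

/-- The second centre. -/
def Z2 : Subgroup (U K) where
  carrier := {g | g.y = 0 ∧ g.b = 0}
  mul_mem' h k := by simp only [Set.mem_ofPred_eq] at h k; simp only [Set.mem_ofPred_eq, UE, h, k, and_self]
  one_mem' := by simp only [Set.mem_ofPred_eq, UE, and_self]
  inv_mem' h := by simp only [Set.mem_ofPred_eq] at h; simp only [Set.mem_ofPred_eq, UE, h, and_self]

/-- The unipotent radical `q^4`. -/
def As : Subgroup (U K) where
  carrier := {g | g.y = 0}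
  mul_mem' h k := by simp only [Set.mem_ofPred_eq] at h k; simp only [Set.mem_ofPred_eq, UE, h, k]
  one_mem' := by simp only [Set.mem_ofPred_eq, UE]
  inv_mem' h := by simp only [Set.mem_ofPred_eq] at h; simp only [Set.mem_ofPred_eq, UE, h]

/-- The unipotent radical `q^{1+4}`. -/
def Qs : Subgroup (U K) where
  carrier := {g | g.b = 0}
  mul_mem' h k := by simp only [Set.mem_ofPred_eq] at h k; simp only [Set.mem_ofPred_eq, UE, h, k]
  one_mem' := by simp only [Set.mem_ofPred_eq, UE]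
  inv_mem' h := by simp only [Set.mem_ofPred_eq] at h; simp only [Set.mem_ofPred_eq, UE, h]

/-- `Z1` times the root elements `Xw w`, `w ∈ k y₀`. -/
def C0 (y₀ : K) : Subgroup (U K) where
  carrier := {g | g.y = 0 ∧ g.b = 0 ∧ g.w * σ y₀ = σ g.w * y₀}
  mul_mem' h k := by
    simp only [Set.mem_ofPred_eq] at h k
    simp only [Set.mem_ofPred_eq, UE, h, k, add_mul, and_self]
  one_mem' := by simp only [Set.mem_ofPred_eq, UE, and_self]
  inv_mem' h := by simp only [Set.mem_ofPred_eq] at h; simp only [Set.mem_ofPred_eq, UE, h, neg_mul, and_self]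

/-- `As` times the root elements `Xy y`, `y ∈ k y₀`. -/
def Ey (y₀ : K) : Subgroup (U K) where
  carrier := {g | g.y * σ y₀ = σ g.y * y₀}
  mul_mem' h k := by
    simp only [Set.mem_ofPred_eq] at h k
    simp only [Set.mem_ofPred_eq, UE, h, k, add_mul]
  one_mem' := by simp only [Set.mem_ofPred_eq, UE]
  inv_mem' h := by simp only [Set.mem_ofPred_eq] at h; simp only [Set.mem_ofPred_eq, UE, h, neg_mul]

theorem mem_Z1 {g : U K} : g ∈ Z1 ↔ g.y = 0 ∧ g.b = 0 ∧ g.w = 0 := Iff.rfl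
theorem mem_Z2 {g : U K} : g ∈ Z2 ↔ g.y = 0 ∧ g.b = 0 := Iff.rfl
theorem mem_As {g : U K} : g ∈ As ↔ g.y = 0 := Iff.rfl
theorem mem_Qs {g : U K} : g ∈ Qs ↔ g.b = 0 := Iff.rfl
theorem mem_C0 {y₀ : K} {g : U K} : g ∈ C0 y₀ ↔ g.y = 0 ∧ g.b = 0 ∧ g.w * σ y₀ = σ g.w * y₀ := Iff.rfl
theorem mem_Ey {y₀ : K} {g : U K} : g ∈ Ey y₀ ↔ g.y * σ y₀ = σ g.y * y₀ := Iff.rfl

/-- The hermitian form on `Qs / Z1`. -/
def hf (g h : U K) : K := g.y * σ h.w + g.w * σ h.y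

theorem cm_y (g h : U K) : (cm g h).y = 0 := by simp only [cm, UE]; ring
theorem cm_b (g h : U K) : (cm g h).b = 0 := by simp only [cm, UE]; ring
theorem cm_w (g h : U K) : (cm g h).w = g.y * h.b - h.y * g.b := by simp only [cm, UE]; ring

theorem cm_cA (g : U K) {n : U K} (h : n ∈ As) : (cm g n).c = σ g.y * n.w - g.y * σ n.w + g.y * σ g.y * n.b := by
  simp only [cm, UE, mem_As.1 h]; ring

theorem cm_c2 (g : U K) {n : U K} (h : n ∈ Z2) : (cm g n).c = σ g.y * n.w - g.y * σ n.w := by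
  simp only [cm_cA g h.1, h.2, UE]

theorem cm_cQ {g h : U K} (hg : g ∈ Qs) (hh : h ∈ Qs) : (cm g h).c = σ (hf g h) - hf g h := by
  simp only [cm, hf, UE, mem_Qs.1 hg, mem_Qs.1 hh]; ring

theorem cm_S_S (g h : U K) : cm g h ∈ Z2 := ⟨cm_y g h, cm_b g h⟩

theorem cm_S_Z2 (g : U K) {n : U K} (h : n ∈ Z2) : cm g n ∈ Z1 :=
  ⟨cm_y _ _, cm_b _ _, by simp only [cm_w, h.1, h.2, UE]⟩

theorem cm_Qs_Qs {g h : U K} (hg : g ∈ Qs) (hh : h ∈ Qs) : cm g h ∈ Z1 :=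
  ⟨cm_y _ _, cm_b _ _, by simp only [cm_w, mem_Qs.1 hg, mem_Qs.1 hh, UE]⟩

theorem com_Z1 (g : U K) {z : U K} (h : z ∈ Z1) : g * z = z * g := by
  rw [mem_Z1] at h
  ext <;> simp only [UE, h] <;> ring

theorem com_As {g n : U K} (hg : g ∈ As) (h : n ∈ As) : g * n = n * g := by
  ext <;> simp only [UE, mem_As.1 h, mem_As.1 hg] <;> ring

theorem com_C0 {y₀ : K} {g n : U K} (h₀ : y₀ ≠ 0) (hg : g ∈ Ey y₀) (h : n ∈ C0 y₀) : g * n = n * g := by
  obtain ⟨s, hs, e⟩ := exists_pr h₀ hg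
  rw [mem_C0] at h
  ext <;> simp only [UE, h, e, hs] <;> try ring
  linear_combination s * h.2.2

theorem com_Q {g h : U K} (hg : g ∈ Qs) (hh : h ∈ Qs) : g * h = h * g ↔ σ (hf g h) = hf g h := by
  rw [← cm_eq_one, ← sub_eq_zero (b := hf g h), ← cm_cQ hg hh]
  have := cm_Qs_Qs hg hh
  exact ⟨fun e => by rw [e]; rfl, fun e => U.ext this.1 this.2.1 this.2.2 e⟩

/-- `[g, Z2] = Z1` for `g ∉ As`. -/
theorem exists_cm_Z2 {g z : U K} (hg : g.y ≠ 0) (hz : z ∈ Z1) : ∃ n ∈ Z2, cm g n = z := by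
  have h1 := σ_ne_zero hg
  rw [mem_Z1] at hz
  refine ⟨Xw (z.c * τ / σ g.y), by simp only [mem_Z2, UE, and_self], ?_⟩
  ext <;> simp only [cm, UE, hz] <;> field_simp <;> ring

theorem Z1_le_Z2 : (Z1 : Subgroup (U K)) ≤ Z2 := fun _ h => ⟨h.1, h.2.1⟩
theorem Z2_le_As : (Z2 : Subgroup (U K)) ≤ As := fun _ h => h.1
theorem Z2_le_Qs : (Z2 : Subgroup (U K)) ≤ Qs := fun _ h => h.2
theorem C0_le_Z2 {y₀ : K} : (C0 y₀ : Subgroup (U K)) ≤ Z2 := fun _ h => ⟨h.1, h.2.1⟩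
theorem Z1_le_C0 {y₀ : K} : (Z1 : Subgroup (U K)) ≤ C0 y₀ := fun _ h => by
  rw [mem_Z1] at h
  simp only [mem_C0, UE, h, and_self]
theorem As_le_Ey {y₀ : K} : (As : Subgroup (U K)) ≤ Ey y₀ := fun _ h => by simp only [mem_Ey, mem_As.1 h, UE]

/-- A pure element. -/
theorem exists_pure : ∃ θ : K, θ ≠ 0 ∧ σ θ = -θ :=
  let ⟨θ, h, e⟩ := exists_θ (K := K); ⟨θ, h, eq_neg_of_add_eq_zero_right e⟩

theorem card_pure : Nat.card {b : K // σ b = -b} = Cj.q K := by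
  rw [← card_trace_fiber (F := K) (q := Cj.q K) (a := 0) (map_zero _)]
  exact Nat.card_congr (Equiv.subtypeEquivRight fun b => ⟨fun h => by change b + σ b = 0; rw [h, add_neg_cancel],
    fun h => eq_neg_of_add_eq_zero_right h⟩)

theorem card_K : Nat.card K = Cj.q K ^ 2 := (Cj.uf (K := K)).card_eq

theorem two_le_q : 2 ≤ Cj.q K := by
  obtain ⟨r, n, hr, -, e, hn⟩ := exists_prime_pow K (Cj.q K)
  rw [e]
  exact hr.two_le.trans (Nat.le_self_pow hn.ne' r)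

/-- A map with pure values is not injective. -/
theorem exists_ne_of_pure (f : K → K) (h : ∀ w, σ (f w) = -f w) : ∃ w w', w ≠ w' ∧ f w = f w' := by
  by_contra! c
  have := Nat.card_le_card_of_injective (fun w => (⟨f w, h w⟩ : {b : K // σ b = -b})) fun w w' e =>
    by_contra fun k => c w w' k (congrArg Subtype.val e)
  rw [card_pure, card_K] at this
  nlinarith [two_le_q (K := K)]

/-- An injective map on the pure elements is onto. -/
theorem surj_pure (f : (b : K) → σ b = -b → K) (h : ∀ b hb, σ (f b hb) = -f b hb)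
    (hi : ∀ b hb b' hb', f b hb = f b' hb' → b = b') {c : K} (hc : σ c = -c) : ∃ b hb, f b hb = c := by
  obtain ⟨b, e⟩ := (Finite.injective_iff_surjective (f := fun b : {b : K // σ b = -b} =>
    (⟨f b.1 b.2, h _ _⟩ : {b : K // σ b = -b}))).1 (fun b b' e => Subtype.ext (hi _ _ _ _ (congrArg Subtype.val e))) ⟨c, hc⟩
  exact ⟨b.1, b.2, congrArg Subtype.val e⟩

/-- Coordinates as a bijection. -/
def U.equiv : U K ≃ (K × K) × {b : K // σ b = -b} × {b : K // σ b = -b} where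
  toFun g := ((g.y, g.w), ⟨g.b, g.hb⟩, ⟨g.c, g.hc⟩)
  invFun t := ⟨t.1.1, t.2.1, t.1.2, t.2.2, t.2.1.2, t.2.2.2⟩
  left_inv _ := rfl
  right_inv _ := rfl

instance : Finite (U K) := Finite.of_equiv _ U.equiv.symm

theorem card_U : Nat.card (U K) = Cj.q K ^ 6 := by
  rw [Nat.card_congr U.equiv]
  simp only [Nat.card_prod, card_pure, card_K]
  ring

theorem isPGroup_U (p : ℕ) [Fact p.Prime] [CharP K p] : IsPGroup p (U K) := by
  obtain ⟨n, -, hn⟩ := exists_q (K := K) p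
  exact IsPGroup.of_card (n := n * 6) (by rw [card_U, hn, pow_mul])

end Cfsg.Agent.U4F
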